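import Mathlib

/-!
# The Chermak-Delgado inequality in a simple group (helper956)

`card_mul_card_centralizer_lt`: in a non-abelian finite simple group `G`, `|K| |C_G(K)| < |G|` for every subgroup `K`
different from `1` and `G`.
`card_sq_lt_of_comm`: an abelian subgroup `A` of a non-abelian finite simple group satisfies `|A| ^ 2 < |G|`.
-/

set_option autoImplicit false

namespace Cfsg.Agent.H956.CDelgado

open Subgroup

variable {G : Type*} [Group G]

/-- the Chermak-Delgado measure -/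
noncomputable def meas (H : Subgroup G) : ℕ := Nat.card ↥H * Nat.card ↥(centralizer (H : Set G))

theorem meas_pos [Finite G] (H : Subgroup G) : 0 < meas H := Nat.mul_pos Nat.card_pos Nat.card_pos

/-- `|H| |K| ≤ |H ⊔ K| |H ⊓ K|`, with equality only if `HK = H ⊔ K` -/
theorem card_mul_card_le [Finite G] (H K : Subgroup G) :
    Nat.card ↥H * Nat.card ↥K ≤ Nat.card ↥(H ⊔ K) * Nat.card ↥(H ⊓ K) ∧
      (Nat.card ↥H * Nat.card ↥K = Nat.card ↥(H ⊔ K) * Nat.card ↥(H ⊓ K) →
        ∀ g ∈ H ⊔ K, ∃ h ∈ H, ∃ k ∈ K, g = h * k) := by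
  classical
  -- `|K| = |H ⊓ K| * |K : H ⊓ K|`
  have h2 : Nat.card ↥K = Nat.card ↥(H ⊓ K) * H.relIndex K := by
    have h3 := Subgroup.card_mul_index (H.subgroupOf K)
    have h4 : Nat.card ↥(H.subgroupOf K) = Nat.card ↥(H ⊓ K) := by
      rw [← Subgroup.inf_subgroupOf_right]
      exact Nat.card_congr (Subgroup.subgroupOfEquivOfLe inf_le_right).toEquiv
    rw [h4] at h3
    exact h3.symm
  have h3 : Nat.card ↥(H ⊔ K) = Nat.card ↥H * H.relIndex (H ⊔ K) := by
    have h4 := Subgroup.card_mul_index (H.subgroupOf (H ⊔ K))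
    have h5 : Nat.card ↥(H.subgroupOf (H ⊔ K)) = Nat.card ↥H :=
      Nat.card_congr (Subgroup.subgroupOfEquivOfLe le_sup_left).toEquiv
    rw [h5] at h4
    exact h4.symm
  have h0 : H.relIndex (H ⊔ K) ≠ 0 := by
    intro h
    rw [h, mul_zero] at h3
    exact Nat.card_pos.ne' h3
  have h4 : H.relIndex K ≤ H.relIndex (H ⊔ K) := Subgroup.relIndex_le_of_le_right le_sup_right h0
  constructor
  · rw [h2, h3]
    calc Nat.card ↥H * (Nat.card ↥(H ⊓ K) * H.relIndex K) =
        Nat.card ↥H * H.relIndex K * Nat.card ↥(H ⊓ K) := by ring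
      _ ≤ _ := Nat.mul_le_mul_right _ (Nat.mul_le_mul_left _ h4)
  · intro he g hg
    rw [h2, h3] at he
    have h5 : H.relIndex K = H.relIndex (H ⊔ K) := by
      have h6 : Nat.card ↥H * Nat.card ↥(H ⊓ K) * H.relIndex K =
          Nat.card ↥H * Nat.card ↥(H ⊓ K) * H.relIndex (H ⊔ K) := by
        calc _ = Nat.card ↥H * (Nat.card ↥(H ⊓ K) * H.relIndex K) := by ring
          _ = _ := he
          _ = _ := by ring
      exact Nat.eq_of_mul_eq_mul_left (Nat.mul_pos Nat.card_pos Nat.card_pos) h6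
    -- the map of left cosets `K / H⊓K → (H ⊔ K) / H` is bijective
    let f : (↥K ⧸ H.subgroupOf K) → (↥(H ⊔ K) ⧸ H.subgroupOf (H ⊔ K)) :=
      Quotient.map' (fun k => (⟨(k : G), (le_sup_right : K ≤ H ⊔ K) k.2⟩ : ↥(H ⊔ K))) (by
        intro a b hab
        rw [QuotientGroup.leftRel_apply, Subgroup.mem_subgroupOf] at hab ⊢
        exact hab)
    have hf : Function.Injective f := by
      intro a b
      induction a using QuotientGroup.induction_on with
      | H a =>
        induction b using QuotientGroup.induction_on with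
        | H b =>
          intro hab
          have hab' : ((⟨(a : G), (le_sup_right : K ≤ H ⊔ K) a.2⟩ : ↥(H ⊔ K)) : ↥(H ⊔ K) ⧸ H.subgroupOf (H ⊔ K)) =
            ((⟨(b : G), (le_sup_right : K ≤ H ⊔ K) b.2⟩ : ↥(H ⊔ K)) : ↥(H ⊔ K) ⧸ H.subgroupOf (H ⊔ K)) := hab
          rw [QuotientGroup.eq, Subgroup.mem_subgroupOf] at hab' ⊢
          exact hab'
    have hcard : Nat.card (↥K ⧸ H.subgroupOf K) = Nat.card (↥(H ⊔ K) ⧸ H.subgroupOf (H ⊔ K)) := h5
    have hs : Function.Surjective f := by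
      have : Fintype (↥K ⧸ H.subgroupOf K) := Fintype.ofFinite _
      have : Fintype (↥(H ⊔ K) ⧸ H.subgroupOf (H ⊔ K)) := Fintype.ofFinite _
      rw [Nat.card_eq_fintype_card, Nat.card_eq_fintype_card] at hcard
      exact ((Fintype.bijective_iff_injective_and_card f).2 ⟨hf, hcard⟩).2
    obtain ⟨a, ha⟩ := hs ((⟨g⁻¹, inv_mem hg⟩ : ↥(H ⊔ K)) : ↥(H ⊔ K) ⧸ H.subgroupOf (H ⊔ K))
    induction a using QuotientGroup.induction_on with
    | H a =>
      have ha' : ((⟨(a : G), (le_sup_right : K ≤ H ⊔ K) a.2⟩ : ↥(H ⊔ K)) : ↥(H ⊔ K) ⧸ H.subgroupOf (H ⊔ K)) =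
            ((⟨g⁻¹, inv_mem hg⟩ : ↥(H ⊔ K)) : ↥(H ⊔ K) ⧸ H.subgroupOf (H ⊔ K)) := ha
      rw [QuotientGroup.eq, Subgroup.mem_subgroupOf] at ha'
      have h6 : (a : G)⁻¹ * g⁻¹ ∈ H := ha'
      refine ⟨((a : G)⁻¹ * g⁻¹)⁻¹, inv_mem h6, (a : G)⁻¹, inv_mem a.2, by group⟩

theorem centralizer_sup (H K : Subgroup G) :
    centralizer ((H ⊔ K : Subgroup G) : Set G) = centralizer (H : Set G) ⊓ centralizer (K : Set G) := by
  apply le_antisymm
  · exact le_inf (centralizer_le (SetLike.coe_subset_coe.2 (le_sup_left : H ≤ H ⊔ K)))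
      (centralizer_le (SetLike.coe_subset_coe.2 (le_sup_right : K ≤ H ⊔ K)))
  · intro g hg
    have h1 : H ⊔ K ≤ centralizer ({g} : Set G) := by
      apply sup_le
      · intro x hx
        rw [mem_centralizer_singleton_iff]
        exact (mem_centralizer_iff.1 (mem_inf.1 hg).1 x hx)
      · intro x hx
        rw [mem_centralizer_singleton_iff]
        exact (mem_centralizer_iff.1 (mem_inf.1 hg).2 x hx)
    rw [mem_centralizer_iff]
    intro x hx
    exact mem_centralizer_singleton_iff.1 (h1 hx)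

theorem sup_centralizer_le (H K : Subgroup G) :
    centralizer (H : Set G) ⊔ centralizer (K : Set G) ≤ centralizer ((H ⊓ K : Subgroup G) : Set G) :=
  sup_le (centralizer_le inf_le_left) (centralizer_le inf_le_right)

/-- the basic inequality; with equality we have `HK = H ⊔ K` -/
theorem meas_mul_le [Finite G] (H K : Subgroup G) :
    meas H * meas K ≤ meas (H ⊔ K) * meas (H ⊓ K) ∧
      (meas H * meas K = meas (H ⊔ K) * meas (H ⊓ K) → ∀ g ∈ H ⊔ K, ∃ h ∈ H, ∃ k ∈ K, g = h * k) := by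
  obtain ⟨h1, h2⟩ := card_mul_card_le H K
  obtain ⟨h3, -⟩ := card_mul_card_le (centralizer (H : Set G)) (centralizer (K : Set G))
  have h4 : Nat.card ↥(centralizer (H : Set G) ⊔ centralizer (K : Set G)) ≤
      Nat.card ↥(centralizer ((H ⊓ K : Subgroup G) : Set G)) :=
    Subgroup.card_le_of_le (sup_centralizer_le H K)
  have h5 : Nat.card ↥(centralizer (H : Set G)) * Nat.card ↥(centralizer (K : Set G)) ≤
      Nat.card ↥(centralizer ((H ⊔ K : Subgroup G) : Set G)) *
        Nat.card ↥(centralizer ((H ⊓ K : Subgroup G) : Set G)) := by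
    refine h3.trans ?_
    rw [← centralizer_sup, mul_comm]
    exact Nat.mul_le_mul_left _ h4
  have e1 : meas H * meas K = (Nat.card ↥H * Nat.card ↥K) *
      (Nat.card ↥(centralizer (H : Set G)) * Nat.card ↥(centralizer (K : Set G))) := by
    unfold meas; ring
  have e2 : meas (H ⊔ K) * meas (H ⊓ K) = (Nat.card ↥(H ⊔ K) * Nat.card ↥(H ⊓ K)) *
      (Nat.card ↥(centralizer ((H ⊔ K : Subgroup G) : Set G)) *
        Nat.card ↥(centralizer ((H ⊓ K : Subgroup G) : Set G))) := by
    unfold meas; ring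
  constructor
  · rw [e1, e2]
    exact Nat.mul_le_mul h1 h5
  · intro he
    apply h2
    rw [e1, e2] at he
    by_contra hne
    have h6 : Nat.card ↥H * Nat.card ↥K < Nat.card ↥(H ⊔ K) * Nat.card ↥(H ⊓ K) := lt_of_le_of_ne h1 hne
    have h7 := Nat.mul_lt_mul_of_lt_of_le h6 h5 (Nat.mul_pos Nat.card_pos Nat.card_pos)
    omega

/-- conjugation does not change the measure -/
theorem meas_conj [Finite G] (H : Subgroup G) (g : G) : meas (H.map (MulAut.conj g).toMonoidHom) = meas H := by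
  unfold meas
  have h1 : Nat.card ↥(H.map (MulAut.conj g).toMonoidHom) = Nat.card ↥H :=
    (Nat.card_congr (H.equivMapOfInjective _ (MulAut.conj g).injective).toEquiv).symm
  have h2 : centralizer ((H.map (MulAut.conj g).toMonoidHom : Subgroup G) : Set G) =
      (centralizer (H : Set G)).map (MulAut.conj g).toMonoidHom := by
    ext x
    rw [mem_centralizer_iff, mem_map]
    constructor
    · intro h
      refine ⟨g⁻¹ * x * g, ?_, ?_⟩
      · rw [mem_centralizer_iff]
        intro y hy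
        have h3 := h (g * y * g⁻¹) (mem_map_of_mem (MulAut.conj g).toMonoidHom hy)
        calc y * (g⁻¹ * x * g) = g⁻¹ * (g * y * g⁻¹ * x) * g := by group
          _ = g⁻¹ * (x * (g * y * g⁻¹)) * g := by rw [h3]
          _ = _ := by group
      · show g * (g⁻¹ * x * g) * g⁻¹ = x
        group
    · rintro ⟨y, hy, rfl⟩ z hz
      obtain ⟨w, hw, rfl⟩ := mem_map.1 hz
      have h3 := mem_centralizer_iff.1 hy w hw
      show g * w * g⁻¹ * (g * y * g⁻¹) = g * y * g⁻¹ * (g * w * g⁻¹)
      calc g * w * g⁻¹ * (g * y * g⁻¹) = g * (w * y) * g⁻¹ := by group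
        _ = g * (y * w) * g⁻¹ := by rw [h3]
        _ = _ := by group
  rw [h1, h2]
  congr 1
  exact (Nat.card_congr ((centralizer (H : Set G)).equivMapOfInjective _ (MulAut.conj g).injective).toEquiv).symm

/-- a group is not the product of two conjugates of a proper subgroup -/
theorem ne_conj_mul {H : Subgroup G} (hH : H ≠ ⊤) (g : G) :
    ¬ ∀ x : G, ∃ h ∈ H, ∃ k ∈ H.map (MulAut.conj g).toMonoidHom, x = h * k := by
  intro h
  obtain ⟨a, ha, k, hk, h1⟩ := h g
  obtain ⟨b, hb, rfl⟩ := mem_map.1 hk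
  have h2 : g = a * (g * b * g⁻¹) := h1
  have hg : g ∈ H := by
    have h3 : 1 = a * g * b * g⁻¹ * g⁻¹ := by
      calc (1 : G) = g * g⁻¹ := by group
        _ = a * (g * b * g⁻¹) * g⁻¹ := by rw [← h2]
        _ = _ := by group
    have h4 : g * g = a * g * b := by
      calc g * g = 1 * g * g := by group
        _ = a * g * b * g⁻¹ * g⁻¹ * g * g := by rw [← h3]
        _ = _ := by group
    have h5 : g = a * (g * b * g⁻¹) := h2
    have h6 : g⁻¹ * a * g * b = g := by
      calc g⁻¹ * a * g * b = g⁻¹ * (a * g * b) := by group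
        _ = g⁻¹ * (g * g) := by rw [← h4]
        _ = g := by group
    -- use the decomposition of another element
    obtain ⟨c, hc, l, hl, h7⟩ := h g⁻¹
    obtain ⟨d, hd, rfl⟩ := mem_map.1 hl
    have h8 : g⁻¹ = c * (g * d * g⁻¹) := h7
    have h9 : (1 : G) = c * g * d := by
      calc (1 : G) = g⁻¹ * g := by group
        _ = c * (g * d * g⁻¹) * g := by rw [← h8]
        _ = _ := by group
    have h10 : g = c⁻¹ * d⁻¹ := by
      calc g = c⁻¹ * (c * g * d) * d⁻¹ := by group
        _ = c⁻¹ * 1 * d⁻¹ := by rw [← h9]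
        _ = _ := by group
    rw [h10]
    exact mul_mem (inv_mem hc) (inv_mem hd)
  apply hH
  rw [eq_top_iff]
  intro x _
  obtain ⟨a, ha, k, hk, rfl⟩ := h x
  obtain ⟨b, hb, rfl⟩ := mem_map.1 hk
  exact mul_mem ha (mul_mem (mul_mem hg hb) (inv_mem hg))

/-- **Chermak-Delgado in simple groups.** -/
theorem card_mul_card_centralizer_lt [Finite G] [IsSimpleGroup G] (hG : ¬ IsMulCommutative G) (K : Subgroup G)
    (h1 : K ≠ ⊥) (h2 : K ≠ ⊤) : Nat.card ↥K * Nat.card ↥(centralizer (K : Set G)) < Nat.card G := by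
  classical
  have : Fintype (Subgroup G) := Fintype.ofFinite _
  have hZ : centralizer ((⊤ : Subgroup G) : Set G) = ⊥ := by
    have h3 : centralizer ((⊤ : Subgroup G) : Set G) = center G := by
      ext x
      rw [mem_centralizer_iff, mem_center_iff]
      exact ⟨fun h y => h y (mem_top y), fun h y _ => h y⟩
    rw [h3]
    rcases (inferInstance : (center G).Normal).eq_bot_or_eq_top with h | h
    · exact h
    · exact absurd (⟨⟨fun a b => (mem_center_iff.1 (h ▸ mem_top b : b ∈ center G)) a⟩⟩) hG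
  have htop : meas (⊤ : Subgroup G) = Nat.card G := by
    unfold meas
    rw [hZ, Subgroup.card_bot, Subgroup.card_top, mul_one]
  have hbot : meas (⊥ : Subgroup G) = Nat.card G := by
    unfold meas
    have : centralizer (((⊥ : Subgroup G) : Set G)) = ⊤ := by
      rw [eq_top_iff]
      intro x _
      rw [mem_centralizer_iff]
      intro y hy
      rw [Subgroup.coe_bot, Set.mem_singleton_iff] at hy
      rw [hy, one_mul, mul_one]
    rw [this, Subgroup.card_bot, Subgroup.card_top, one_mul]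
  -- the maximum
  obtain ⟨X, -, hX⟩ := Finset.exists_max_image (Finset.univ : Finset (Subgroup G)) meas ⟨⊥, Finset.mem_univ _⟩
  set μ := meas X with hμ
  have hle : ∀ H : Subgroup G, meas H ≤ μ := fun H => hX H (Finset.mem_univ _)
  have hμ0 : 0 < μ := meas_pos X
  have hmem : ∀ H L : Subgroup G, meas H = μ → meas L = μ → meas (H ⊔ L) = μ ∧ meas (H ⊓ L) = μ ∧
      ∀ g ∈ H ⊔ L, ∃ h ∈ H, ∃ k ∈ L, g = h * k := by
    intro H L hH hL
    obtain ⟨h3, h4⟩ := meas_mul_le H L
    rw [hH, hL] at h3 h4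
    have h5 := hle (H ⊔ L)
    have h6 := hle (H ⊓ L)
    have h7 : meas (H ⊔ L) = μ := by
      by_contra hne
      have h8 : meas (H ⊔ L) < μ := lt_of_le_of_ne h5 hne
      have h9 := Nat.mul_lt_mul_of_lt_of_le h8 h6 hμ0
      omega
    have h8 : meas (H ⊓ L) = μ := by
      rw [h7] at h3
      exact le_antisymm h6 (Nat.le_of_mul_le_mul_left h3 hμ0)
    exact ⟨h7, h8, h4 (by rw [h7, h8])⟩
  -- the largest member
  obtain ⟨H, hHμ, hHmax⟩ := Finset.exists_max_image (Finset.univ.filter fun H : Subgroup G => meas H = μ)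
    (fun H => Nat.card ↥H) ⟨X, by simp [hμ]⟩
  rw [Finset.mem_filter] at hHμ
  have hHN : H.Normal := by
    constructor
    intro n hn g
    have h3 := meas_conj H g
    rw [hHμ.2] at h3
    obtain ⟨h4, -, -⟩ := hmem H _ hHμ.2 h3
    have h5 := hHmax _ (Finset.mem_filter.2 ⟨Finset.mem_univ _, h4⟩)
    have h6 : H = H ⊔ H.map (MulAut.conj g).toMonoidHom := Subgroup.eq_of_le_of_card_ge le_sup_left h5
    rw [h6]
    exact (le_sup_right : _ ≤ H ⊔ H.map (MulAut.conj g).toMonoidHom)
      (mem_map_of_mem (MulAut.conj g).toMonoidHom hn)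
  have hμG : μ = Nat.card G := by
    rcases hHN.eq_bot_or_eq_top with h | h
    · rw [← hHμ.2, h, hbot]
    · rw [← hHμ.2, h, htop]
  have hK := hle K
  rw [hμG] at hK
  refine lt_of_le_of_ne hK fun hKe => ?_
  -- a maximal proper member containing `K`
  have hKμ : meas K = μ := by rw [hμG]; exact hKe
  obtain ⟨M, hM, hMmax⟩ := Finset.exists_max_image
    (Finset.univ.filter fun H : Subgroup G => meas H = μ ∧ K ≤ H ∧ H ≠ ⊤)
    (fun H => Nat.card ↥H) ⟨K, by simp [hKμ, h2]⟩
  rw [Finset.mem_filter] at hM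
  obtain ⟨-, hMμ, hKM, hMt⟩ := hM
  have hMN : M.Normal := by
    constructor
    intro n hn g
    by_contra hnot
    have h3 := meas_conj M g
    rw [hMμ] at h3
    obtain ⟨h4, -, h5⟩ := hmem M _ hMμ h3
    by_cases ht : M ⊔ M.map (MulAut.conj g).toMonoidHom = ⊤
    · apply ne_conj_mul hMt g
      intro x
      exact h5 x (by rw [ht]; exact mem_top x)
    · have h6 := hMmax _ (Finset.mem_filter.2 ⟨Finset.mem_univ _, h4, hKM.trans le_sup_left, ht⟩)
      have h7 : M = M ⊔ M.map (MulAut.conj g).toMonoidHom := Subgroup.eq_of_le_of_card_ge le_sup_left h6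
      apply hnot
      rw [h7]
      exact (le_sup_right : _ ≤ M ⊔ M.map (MulAut.conj g).toMonoidHom)
        (mem_map_of_mem (MulAut.conj g).toMonoidHom hn)
  rcases hMN.eq_bot_or_eq_top with h | h
  · exact h1 (le_bot_iff.1 (h ▸ hKM))
  · exact hMt h

/-- **Abelian subgroups of simple groups.** -/
theorem card_sq_lt_of_comm [Finite G] [IsSimpleGroup G] (hG : ¬ IsMulCommutative G) (A : Subgroup G)
    (hA : ∀ a ∈ A, ∀ b ∈ A, a * b = b * a) : Nat.card ↥A ^ 2 < Nat.card G := by
  have h2 : A ≠ ⊤ := by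
    intro h
    exact hG ⟨⟨fun a b => hA a (h ▸ mem_top a) b (h ▸ mem_top b)⟩⟩
  by_cases h1 : A = ⊥
  · rw [h1, Subgroup.card_bot, one_pow]
    by_contra h
    apply hG
    have h1 : Nat.card G = 1 := le_antisymm (by omega) Nat.card_pos
    have : Subsingleton G := (Nat.card_eq_one_iff_unique.1 h1).1
    exact ⟨⟨fun a b => Subsingleton.elim _ _⟩⟩
  · have h3 := card_mul_card_centralizer_lt hG A h1 h2
    refine lt_of_le_of_lt ?_ h3
    rw [sq]
    refine Nat.mul_le_mul_left _ (Subgroup.card_le_of_le ?_)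
    intro a ha
    rw [mem_centralizer_iff]
    intro b hb
    exact hA b hb a ha

end Cfsg.Agent.H956.CDelgado
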