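import Cfsg.Agent.H953.Rcf

/-!
# The covering number of `PSL(n,q)` is at least `n` (helper956, task 744 [H] of S2483)
-/

set_option autoImplicit false

namespace Cfsg.Agent.H956.CovLower

open Matrix Polynomial

variable {F : Type*} [Field F]

/-- a polynomial `X ^ n + c X + (-1) ^ n` without roots -/
theorem exists_rootless [Finite F] {n : ℕ} (hn : 2 ≤ n) : ∃ p : F[X], p.Monic ∧ p.natDegree = n ∧
    p.coeff 0 = (-1) ^ n ∧ ∀ x, p.eval x ≠ 0 := by
  classical
  have : Fintype F := Fintype.ofFinite F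
  -- choose `c`
  obtain ⟨c, hc⟩ : ∃ c : F, ∀ x : F, x ≠ 0 → c ≠ -(x ^ n + (-1) ^ n) / x := by
    by_contra h
    push Not at h
    choose g hg0 hg using h
    have hinj : Function.Injective g := by
      intro a b hab
      rw [hg a, hg b, hab]
    have hsurj := Finite.injective_iff_surjective.1 hinj
    obtain ⟨a, ha⟩ := hsurj 0
    exact hg0 a ha
  have hdeg : (C c * X + C ((-1) ^ n) : F[X]).degree < ((n : ℕ) : WithBot ℕ) :=
    lt_of_le_of_lt degree_linear_le (by exact_mod_cast (by omega : 1 < n))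
  refine ⟨X ^ n + (C c * X + C ((-1) ^ n)), monic_X_pow_add hdeg, ?_, ?_, ?_⟩
  · rw [natDegree_add_eq_left_of_degree_lt (by rwa [degree_X_pow]), natDegree_X_pow]
  · have h0 : ¬ (0 = n) := by omega
    rw [coeff_add, coeff_X_pow, if_neg h0, coeff_add, coeff_C_mul, coeff_X_zero, coeff_C_zero]
    ring
  · intro x hx
    rcases eq_or_ne x 0 with rfl | hx0
    · have h0 : n ≠ 0 := by omega
      simp [h0] at hx
    · apply hc x hx0
      rw [eq_div_iff hx0]
      simp only [eval_add, eval_pow, eval_X, eval_mul, eval_C] at hx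
      linear_combination hx

theorem exists_matrix {p : F[X]} (hp : p.Monic) {n : ℕ} (h : p.natDegree = n) :
    ∃ A : Matrix (Fin n) (Fin n) F, A.charpoly = p := by
  subst h
  exact ⟨Cfsg.Agent.H953.comp p, Cfsg.Agent.H953.charpoly_comp hp⟩

theorem transvection_fix {n : ℕ} {i j : Fin n} {a : F} {w : Fin n → F} (hw : w j = 0) :
    Matrix.transvection i j a *ᵥ w = w := by
  rw [Matrix.transvection, Matrix.add_mulVec, Matrix.one_mulVec, add_eq_left]
  ext k
  rw [Matrix.single_mulVec]
  simp [hw]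

theorem prod_fix {n : ℕ} {v : Fin n → F} (l : List (Matrix.SpecialLinearGroup (Fin n) F))
    (h : ∀ A ∈ l, (A : Matrix (Fin n) (Fin n) F) *ᵥ v = v) : (l.prod : Matrix (Fin n) (Fin n) F) *ᵥ v = v := by
  induction l with
  | nil => simp
  | cons A l ih =>
    rw [List.prod_cons, Matrix.SpecialLinearGroup.coe_mul, ← Matrix.mulVec_mulVec,
      ih fun B hB => h B (List.mem_cons_of_mem A hB)]
    exact h A List.mem_cons_self

/-- **Task H.** -/
theorem lower {F : Type*} [Field F] [Fintype F] (n : ℕ) (hn : 3 ≤ n) :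
    ∃ x : Matrix.ProjectiveSpecialLinearGroup (Fin n) F, x ≠ 1 ∧
      ∃ g : Matrix.ProjectiveSpecialLinearGroup (Fin n) F,
        ∀ f : Fin (n - 1) → Matrix.ProjectiveSpecialLinearGroup (Fin n) F,
          g ≠ (List.ofFn fun i => f i * x * (f i)⁻¹).prod := by
  classical
  let i0 : Fin n := ⟨0, by omega⟩
  let i1 : Fin n := ⟨1, by omega⟩
  have h01 : i0 ≠ i1 := by simp [i0, i1]
  let t : Matrix.SpecialLinearGroup (Fin n) F := ⟨Matrix.transvection i0 i1 1, Matrix.det_transvection_of_ne _ _ h01 _⟩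
  let π : Matrix.SpecialLinearGroup (Fin n) F →* Matrix.ProjectiveSpecialLinearGroup (Fin n) F :=
    QuotientGroup.mk' (Subgroup.center _)
  have hπs : Function.Surjective π := QuotientGroup.mk'_surjective _
  obtain ⟨p, hp, hpn, hp0, hproot⟩ := exists_rootless (F := F) (n := n) (by omega)
  obtain ⟨A, hA⟩ := exists_matrix hp hpn
  have hdet : A.det = 1 := by
    rw [Matrix.det_eq_sign_charpoly_coeff, hA, hp0, Fintype.card_fin, ← mul_pow]
    simp
  let c : Matrix.SpecialLinearGroup (Fin n) F := ⟨A, hdet⟩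
  refine ⟨π t, ?_, π c, ?_⟩
  · intro h
    have h1 : t ∈ Subgroup.center (Matrix.SpecialLinearGroup (Fin n) F) := (QuotientGroup.eq_one_iff t).1 h
    obtain ⟨r, -, hr⟩ := Matrix.SpecialLinearGroup.mem_center_iff.1 h1
    have h2 := congrFun (congrFun hr i0) i1
    have h3 : (t : Matrix (Fin n) (Fin n) F) i0 i1 = 1 := by
      show Matrix.transvection i0 i1 (1 : F) i0 i1 = 1
      simp [Matrix.transvection, h01]
    rw [h3, Matrix.scalar_apply, Matrix.diagonal_apply_ne _ h01] at h2
    exact zero_ne_one h2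
  · intro f hf
    choose G hG using fun i => hπs (f i)
    let l : List (Matrix.SpecialLinearGroup (Fin n) F) := List.ofFn fun i => G i * t * (G i)⁻¹
    have hl : π c = π l.prod := by
      rw [hf, map_list_prod, List.map_ofFn]
      congr 2
      funext i
      simp [hG]
    -- the common fixed vector
    let Φ : (Fin n → F) →ₗ[F] (Fin (n - 1) → F) :=
      LinearMap.pi fun i => (LinearMap.proj i1).comp
        (Matrix.mulVecLin (((G i)⁻¹ : Matrix.SpecialLinearGroup (Fin n) F) : Matrix (Fin n) (Fin n) F))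
    have hker : LinearMap.ker Φ ≠ ⊥ := by
      apply LinearMap.ker_ne_bot_of_finrank_lt
      simp only [Module.finrank_fintype_fun_eq_card, Fintype.card_fin]
      omega
    obtain ⟨v, hv, hv0⟩ := Submodule.exists_mem_ne_zero_of_ne_bot hker
    have hv1 : ∀ i, ((((G i)⁻¹ : Matrix.SpecialLinearGroup (Fin n) F) : Matrix (Fin n) (Fin n) F) *ᵥ v) i1 = 0 := by
      intro i
      exact congrFun (LinearMap.mem_ker.1 hv) i
    have hfix : (l.prod : Matrix (Fin n) (Fin n) F) *ᵥ v = v := by
      apply prod_fix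
      intro B hB
      obtain ⟨i, rfl⟩ := List.mem_ofFn.1 hB
      rw [Matrix.SpecialLinearGroup.coe_mul, Matrix.SpecialLinearGroup.coe_mul, ← Matrix.mulVec_mulVec,
        ← Matrix.mulVec_mulVec]
      have h1 : (t : Matrix (Fin n) (Fin n) F) *ᵥ
          ((((G i)⁻¹ : Matrix.SpecialLinearGroup (Fin n) F) : Matrix (Fin n) (Fin n) F) *ᵥ v) =
          (((G i)⁻¹ : Matrix.SpecialLinearGroup (Fin n) F) : Matrix (Fin n) (Fin n) F) *ᵥ v := by
        exact transvection_fix (hv1 i)
      rw [h1, Matrix.mulVec_mulVec, ← Matrix.SpecialLinearGroup.coe_mul, mul_inv_cancel]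
      simp
    -- the scalar
    have hz : c⁻¹ * l.prod ∈ Subgroup.center (Matrix.SpecialLinearGroup (Fin n) F) := QuotientGroup.eq.1 hl
    obtain ⟨r, hr1, hr⟩ := Matrix.SpecialLinearGroup.mem_center_iff.1 hz
    have hr0 : r ≠ 0 := by
      rintro rfl
      rw [Fintype.card_fin, zero_pow (by omega)] at hr1
      exact zero_ne_one hr1
    have h1 : (l.prod : Matrix (Fin n) (Fin n) F) = A * Matrix.scalar (Fin n) r := by
      have h2 : (l.prod : Matrix (Fin n) (Fin n) F) = (c : Matrix (Fin n) (Fin n) F) *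
          ((c⁻¹ * l.prod : Matrix.SpecialLinearGroup (Fin n) F) : Matrix (Fin n) (Fin n) F) := by
        rw [← Matrix.SpecialLinearGroup.coe_mul, mul_inv_cancel_left]
      rw [h2, ← hr]
    have h2 : r • (A *ᵥ v) = v := by
      have h3 := hfix
      rw [h1, ← Matrix.mulVec_mulVec, Matrix.scalar_apply, ← Matrix.smul_one_eq_diagonal, Matrix.smul_mulVec,
        Matrix.one_mulVec, Matrix.mulVec_smul] at h3
      exact h3
    have h3 : A *ᵥ v = r⁻¹ • v := by
      conv_rhs => rw [← h2]
      rw [smul_smul, inv_mul_cancel₀ hr0, one_smul]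
    apply hproot r⁻¹
    rw [← hA, Matrix.eval_charpoly, ← Matrix.exists_mulVec_eq_zero_iff]
    refine ⟨v, hv0, ?_⟩
    rw [Matrix.sub_mulVec, h3, Matrix.scalar_apply, ← Matrix.smul_one_eq_diagonal, Matrix.smul_mulVec,
      Matrix.one_mulVec, sub_self]

end Cfsg.Agent.H956.CovLower
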