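import Mathlib

/-!
# Arithmetic in the multiplicative group of a finite field
-/

set_option autoImplicit false

namespace Cfsg.Agent.H956.FieldArith

variable {F : Type*} [Field F] [Fintype F]

/-- primitive roots of unity of every order dividing `q - 1`. -/
theorem exists_prim {q : ℕ} (hq : Fintype.card F = q) {N : ℕ} (hN : N ∣ q - 1) : ∃ h : F, IsPrimitiveRoot h N := by
  classical
  obtain ⟨g, hg⟩ := IsCyclic.exists_ofOrder_eq_natCard (α := Fˣ)
  have hcard : Nat.card Fˣ = q - 1 := by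
    rw [Nat.card_eq_fintype_card, Fintype.card_units, hq]
  have hq2 : 0 < q - 1 := by
    have := Fintype.one_lt_card (α := F)
    omega
  obtain ⟨c, hc⟩ := hN
  have hc0 : c ≠ 0 := by rintro rfl; omega
  have hg2 : IsPrimitiveRoot (g : F) (q - 1) := by
    rw [← hcard, ← hg, ← orderOf_units]
    exact IsPrimitiveRoot.orderOf _
  refine ⟨(g : F) ^ c, ?_⟩
  exact hg2.pow hq2 (by rw [hc]; ring)

theorem two_ne_zero_of_odd {q : ℕ} (hq : Fintype.card F = q) (hodd : Odd q) : (2 : F) ≠ 0 := by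
  intro h
  have hchar : ringChar F = 2 := by
    have h1 : ringChar F ∣ 2 := (ringChar.spec F 2).1 (by exact_mod_cast h)
    have h2 : ringChar F ≠ 1 := by
      intro h3
      have h4 := (ringChar.spec F 1).2 (by rw [h3])
      simp at h4
    rcases (Nat.dvd_prime Nat.prime_two).1 h1 with h5 | h5
    · exact absurd h5 h2
    · exact h5
  have := FiniteField.even_card_of_char_two hchar
  rw [hq] at this
  rw [Nat.odd_iff] at hodd
  omega

theorem odd_of_two_ne_zero {q : ℕ} (hq : Fintype.card F = q) (h2 : (2 : F) ≠ 0) : Odd q := by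
  have hchar : ringChar F ≠ 2 := by
    intro h
    apply h2
    have := (ringChar.spec F 2).2 (by rw [h])
    exact_mod_cast this
  have := FiniteField.odd_card_of_char_ne_two hchar
  rw [hq] at this
  exact Nat.odd_iff.2 this

omit [Fintype F] in
theorem neg_one_ne_one (h2 : (2 : F) ≠ 0) : (-1 : F) ≠ 1 := by
  intro h
  apply h2
  have : (1 : F) + 1 = 0 := by nth_rewrite 1 [← h]; ring
  rw [← one_add_one_eq_two]; exact this

/-- if the 2-part of `q - 1` is larger than the 2-part of `n`, then `-1` is an `n`-th power. -/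
theorem exists_pow_eq_neg_one {q : ℕ} (hq : Fintype.card F = q) {n : ℕ} (hn : n ≠ 0)
    (h : padicValNat 2 n < padicValNat 2 (q - 1)) : ∃ s : F, s ^ n = -1 ∧ s ≠ 0 := by
  have : Fact (Nat.Prime 2) := ⟨Nat.prime_two⟩
  have hdvd : 2 ^ (padicValNat 2 n + 1) ∣ q - 1 :=
    (pow_dvd_pow 2 h).trans pow_padicValNat_dvd
  obtain ⟨s, hs⟩ := exists_prim hq hdvd
  have h1 : s ^ (2 ^ padicValNat 2 n) = -1 := by
    have h3 : (s ^ (2 ^ padicValNat 2 n)) ^ 2 = 1 := by
      rw [← pow_mul, ← pow_succ]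
      exact hs.pow_eq_one
    rcases (sq_eq_sq_iff_eq_or_eq_neg.1 (h3.trans (one_pow 2).symm)) with h4 | h4
    · exfalso
      have h5 := hs.dvd_of_pow_eq_one _ h4
      have h6 := Nat.le_of_dvd (by positivity) h5
      rw [pow_succ] at h6
      have : 0 < 2 ^ padicValNat 2 n := by positivity
      omega
    · exact h4
  obtain ⟨n', hn'⟩ := pow_padicValNat_dvd (p := 2) (n := n)
  have hodd : Odd n' := by
    rw [← Nat.not_even_iff_odd]
    rintro hev
    obtain ⟨k, hk⟩ := hev.two_dvd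
    have h7 : 2 ^ (padicValNat 2 n + 1) ∣ n := ⟨k, by rw [pow_succ, mul_assoc, ← hk, ← hn']⟩
    rw [padicValNat_dvd_iff_le hn] at h7
    omega
  refine ⟨s, ?_, ?_⟩
  · rw [hn', pow_mul, h1, hodd.neg_one_pow]
  · rintro rfl
    rw [zero_pow (by positivity)] at h1
    exact neg_ne_zero.2 one_ne_zero h1.symm

/-- if the 2-part of `q - 1` is at most the 2-part of `n`, then `-1` is not an `n`-th power. -/
theorem pow_ne_neg_one {q : ℕ} (hq : Fintype.card F = q) (h2 : (2 : F) ≠ 0) {n : ℕ} (hn : n ≠ 0)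
    (h : padicValNat 2 (q - 1) ≤ padicValNat 2 n) (s : F) : s ^ n ≠ -1 := by
  have : Fact (Nat.Prime 2) := ⟨Nat.prime_two⟩
  intro hs
  have hs0 : s ≠ 0 := by
    rintro rfl
    rw [zero_pow hn] at hs
    exact neg_ne_zero.2 one_ne_zero hs.symm
  have hq1 : q - 1 ≠ 0 := by
    have := Fintype.one_lt_card (α := F)
    omega
  obtain ⟨m', hm'⟩ := pow_padicValNat_dvd (p := 2) (n := q - 1)
  have hodd : Odd m' := by
    rw [← Nat.not_even_iff_odd]
    rintro hev
    obtain ⟨k, hk⟩ := hev.two_dvd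
    have h7 : 2 ^ (padicValNat 2 (q - 1) + 1) ∣ q - 1 := ⟨k, by rw [pow_succ, mul_assoc, ← hk, ← hm']⟩
    rw [padicValNat_dvd_iff_le hq1] at h7
    omega
  have hdvd : 2 ^ padicValNat 2 (q - 1) ∣ n := (pow_dvd_pow 2 h).trans pow_padicValNat_dvd
  obtain ⟨c, hc⟩ := hdvd
  have h8 : (s ^ n) ^ m' = 1 := by
    rw [← pow_mul, hc, mul_right_comm, ← hm', pow_mul, ← hq, FiniteField.pow_card_sub_one_eq_one s hs0, one_pow]
  rw [hs, hodd.neg_one_pow] at h8
  exact neg_one_ne_one h2 h8

end Cfsg.Agent.H956.FieldArith
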