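import Mathlib
import Cfsg.Agent.H956.EigBasis

/-!
# Conjugacy of semisimple matrices by matrices of determinant one

* `conj_of_diag`: two diagonalisable matrices with the same eigenvalues (over the base field) are conjugate under `SL`.
* `conj_of_irreducible`: two matrices killed by the same irreducible polynomial are conjugate under `SL`
  (finite fields).
-/

set_option autoImplicit false

namespace Cfsg.Agent.H956.Conj

open Matrix Polynomial Module
open scoped Kronecker MatrixGroups

/-- two families with the same multiset of values differ by a permutation. -/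
theorem exists_perm_of_map_eq {ι α : Type*} [Fintype ι] (f g : ι → α)
    (h : (Finset.univ : Finset ι).val.map f = Finset.univ.val.map g) : ∃ σ : Equiv.Perm ι, ∀ i, g (σ i) = f i := by
  classical
  have hc : ∀ c : α, Nonempty ({i // f i = c} ≃ {i // g i = c}) := by
    intro c
    rw [← Fintype.card_eq]
    have h1 := congrArg (Multiset.count c) h
    rw [Multiset.count_map, Multiset.count_map] at h1
    rw [Fintype.card_subtype, Fintype.card_subtype]
    have e1 : (Finset.univ.filter (fun i => f i = c)).card =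
        Multiset.card (Multiset.filter (fun a => c = f a) (Finset.univ : Finset ι).val) := by
      rw [Finset.card_def, Finset.filter_val]
      congr 1
      exact Multiset.filter_congr fun x _ => eq_comm
    have e2 : (Finset.univ.filter (fun i => g i = c)).card =
        Multiset.card (Multiset.filter (fun a => c = g a) (Finset.univ : Finset ι).val) := by
      rw [Finset.card_def, Finset.filter_val]
      congr 1
      exact Multiset.filter_congr fun x _ => eq_comm
    rw [e1, e2]
    exact h1
  refine ⟨Equiv.ofFiberEquiv (f := f) (g := g) (fun c => (hc c).some), fun i => ?_⟩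
  exact Equiv.ofFiberEquiv_map _ i

section mat

variable {ι : Type*} [Fintype ι] [DecidableEq ι] {F : Type*} [Field F]

theorem inv_mul_self' (S : GL ι F) : ((S⁻¹ : GL ι F) : Matrix ι ι F) * (S : Matrix ι ι F) = 1 := by
  rw [← Units.val_mul, inv_mul_cancel, Units.val_one]

theorem mul_inv_self' (S : GL ι F) : (S : Matrix ι ι F) * ((S⁻¹ : GL ι F) : Matrix ι ι F) = 1 := by
  rw [← Units.val_mul, mul_inv_cancel, Units.val_one]

/-- an invertible diagonal matrix -/
def diagU (d : ι → F) (hd : ∀ i, d i ≠ 0) : GL ι F :=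
  ⟨Matrix.diagonal d, Matrix.diagonal (fun i => (d i)⁻¹), by
    rw [Matrix.diagonal_mul_diagonal, ← Matrix.diagonal_one]
    congr 1; ext i; exact mul_inv_cancel₀ (hd i), by
    rw [Matrix.diagonal_mul_diagonal, ← Matrix.diagonal_one]
    congr 1; ext i; exact inv_mul_cancel₀ (hd i)⟩

@[simp] theorem coe_diagU (d : ι → F) (hd : ∀ i, d i ≠ 0) : (diagU d hd : Matrix ι ι F) = Matrix.diagonal d := rfl

/-- a diagonalisable matrix commutes with matrices of every nonzero determinant. -/
theorem exists_commute_det [Nonempty ι] (x : GL ι F) (S : GL ι F) (d : ι → F)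
    (hx : (x : Matrix ι ι F) = (S : Matrix ι ι F) * Matrix.diagonal d * ((S⁻¹ : GL ι F) : Matrix ι ι F))
    (t : F) (ht : t ≠ 0) : ∃ h : GL ι F, h * x = x * h ∧ (h : Matrix ι ι F).det = t := by
  obtain ⟨k⟩ := (inferInstance : Nonempty ι)
  let D : GL ι F := diagU (Function.update (fun _ => (1 : F)) k t) (by
    intro i
    by_cases hi : i = k
    · rw [hi, Function.update_self]; exact ht
    · rw [Function.update_of_ne hi]; exact one_ne_zero)
  refine ⟨S * D * S⁻¹, ?_, ?_⟩
  · ext1
    rw [Units.val_mul, Units.val_mul, Units.val_mul, Units.val_mul, hx]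
    calc (S : Matrix ι ι F) * (D : Matrix ι ι F) * ((S⁻¹ : GL ι F) : Matrix ι ι F) *
          ((S : Matrix ι ι F) * Matrix.diagonal d * ((S⁻¹ : GL ι F) : Matrix ι ι F))
        = (S : Matrix ι ι F) * (D : Matrix ι ι F) * (((S⁻¹ : GL ι F) : Matrix ι ι F) * (S : Matrix ι ι F)) *
            Matrix.diagonal d * ((S⁻¹ : GL ι F) : Matrix ι ι F) := by simp only [Matrix.mul_assoc]
      _ = (S : Matrix ι ι F) * ((D : Matrix ι ι F) * Matrix.diagonal d) * ((S⁻¹ : GL ι F) : Matrix ι ι F) := by
        rw [inv_mul_self', Matrix.mul_one]; simp only [Matrix.mul_assoc]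
      _ = (S : Matrix ι ι F) * (Matrix.diagonal d * (D : Matrix ι ι F)) * ((S⁻¹ : GL ι F) : Matrix ι ι F) := by
        rw [coe_diagU, Matrix.diagonal_mul_diagonal, Matrix.diagonal_mul_diagonal]
        simp only [mul_comm]
      _ = (S : Matrix ι ι F) * Matrix.diagonal d * (((S⁻¹ : GL ι F) : Matrix ι ι F) * (S : Matrix ι ι F)) *
            (D : Matrix ι ι F) * ((S⁻¹ : GL ι F) : Matrix ι ι F) := by
        rw [inv_mul_self', Matrix.mul_one]; simp only [Matrix.mul_assoc]
      _ = _ := by simp only [Matrix.mul_assoc, Units.val_mul]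
  · rw [Units.val_mul, Units.val_mul, Matrix.det_mul, Matrix.det_mul, mul_right_comm, ← Matrix.det_mul,
      mul_inv_self', Matrix.det_one, one_mul, coe_diagU, Matrix.det_diagonal,
      Finset.prod_update_of_mem (Finset.mem_univ k)]
    simp

/-- replace a conjugating element by one of determinant one. -/
theorem adjust (x y g : GL ι F) (hg : g⁻¹ * x * g = y)
    (hc : ∀ t : F, t ≠ 0 → ∃ h : GL ι F, h * x = x * h ∧ (h : Matrix ι ι F).det = t) :
    ∃ g' : GL ι F, (g' : Matrix ι ι F).det = 1 ∧ g'⁻¹ * x * g' = y := by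
  have hdet : (g : Matrix ι ι F).det ≠ 0 := (Matrix.GeneralLinearGroup.det g).ne_zero
  obtain ⟨h, hh, ht⟩ := hc (((g : Matrix ι ι F).det)⁻¹) (inv_ne_zero hdet)
  refine ⟨h * g, ?_, ?_⟩
  · rw [Units.val_mul, Matrix.det_mul, ht, inv_mul_cancel₀ hdet]
  · have : h⁻¹ * x * h = x := by rw [mul_assoc, ← hh, inv_mul_cancel_left]
    calc (h * g)⁻¹ * x * (h * g) = g⁻¹ * (h⁻¹ * x * h) * g := by group
      _ = y := by rw [this, hg]

/-- **Diagonalisable matrices with the same eigenvalues are conjugate under a matrix of determinant one.** -/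
theorem conj_of_diag [Nonempty ι] (x y S T : GL ι F) (d d' : ι → F)
    (hx : (x : Matrix ι ι F) = (S : Matrix ι ι F) * Matrix.diagonal d * ((S⁻¹ : GL ι F) : Matrix ι ι F))
    (hy : (y : Matrix ι ι F) = (T : Matrix ι ι F) * Matrix.diagonal d' * ((T⁻¹ : GL ι F) : Matrix ι ι F))
    (h : (Finset.univ : Finset ι).val.map d = Finset.univ.val.map d') :
    ∃ g : GL ι F, (g : Matrix ι ι F).det = 1 ∧ g⁻¹ * x * g = y := by
  obtain ⟨σ, hσ⟩ := exists_perm_of_map_eq d d' h
  -- permutation matrix
  let R : Matrix ι ι F := Matrix.of fun i j => if j = σ i then 1 else 0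
  let R' : Matrix ι ι F := Matrix.of fun i j => if i = σ j then 1 else 0
  have hRR' : R * R' = 1 := by
    ext i j
    simp only [R, R', Matrix.mul_apply, Matrix.of_apply, Matrix.one_apply]
    simp [σ.injective.eq_iff, eq_comm]
  have hR'R : R' * R = 1 := by
    exact mul_eq_one_comm.1 hRR'
  let U : GL ι F := ⟨R, R', hRR', hR'R⟩
  have hdR : Matrix.diagonal d * R = R * Matrix.diagonal d' := by
    ext i j
    rw [Matrix.diagonal_mul, Matrix.mul_diagonal]
    simp only [R, Matrix.of_apply]
    by_cases hj : j = σ i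
    · rw [if_pos hj, hj, hσ]; ring
    · rw [if_neg hj]; ring
  refine adjust x y (S * U * T⁻¹) ?_ (exists_commute_det x S d hx)
  ext1
  have h1 : (S * U * T⁻¹)⁻¹ * x * (S * U * T⁻¹) = T * U⁻¹ * S⁻¹ * x * S * U * T⁻¹ := by group
  rw [h1]
  simp only [Units.val_mul]
  rw [hx, hy]
  have hU : (U : Matrix ι ι F) = R := rfl
  calc (T : Matrix ι ι F) * ((U⁻¹ : GL ι F) : Matrix ι ι F) * ((S⁻¹ : GL ι F) : Matrix ι ι F) *
        ((S : Matrix ι ι F) * Matrix.diagonal d * ((S⁻¹ : GL ι F) : Matrix ι ι F)) * (S : Matrix ι ι F) *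
        (U : Matrix ι ι F) * ((T⁻¹ : GL ι F) : Matrix ι ι F)
      = (T : Matrix ι ι F) * ((U⁻¹ : GL ι F) : Matrix ι ι F) * (((S⁻¹ : GL ι F) : Matrix ι ι F) *
        (S : Matrix ι ι F)) * Matrix.diagonal d * (((S⁻¹ : GL ι F) : Matrix ι ι F) * (S : Matrix ι ι F)) *
        (U : Matrix ι ι F) * ((T⁻¹ : GL ι F) : Matrix ι ι F) := by simp only [Matrix.mul_assoc]
    _ = (T : Matrix ι ι F) * (((U⁻¹ : GL ι F) : Matrix ι ι F) * (U : Matrix ι ι F)) * Matrix.diagonal d' *
        ((T⁻¹ : GL ι F) : Matrix ι ι F) := by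
      rw [inv_mul_self', Matrix.mul_one, Matrix.mul_one, hU, Matrix.mul_assoc _ (Matrix.diagonal d) R, hdR]
      simp only [Matrix.mul_assoc]
    _ = _ := by rw [inv_mul_self', Matrix.mul_one]

end mat

end Cfsg.Agent.H956.Conj
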