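import Mathlib
import Cfsg.Agent.H956.EigMult

/-!
# Eigenvalues of similarities
-/

set_option autoImplicit false

namespace Cfsg.Agent.H956.EigMult

open Matrix Polynomial

section dual

variable {ι : Type*} [Fintype ι] [DecidableEq ι]
variable {F : Type*} [Field F] {E : Type*} [Field E] [Algebra F E] [IsAlgClosed E]

/-- **Eigenvalues of the dual**: if `Aᵀ G B = c G` with `G` invertible, the eigenvalues of `B` are the `c / z`, `z`
an eigenvalue of `A` (`A` with a scalar power). -/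
theorem eig_dual {r : ℕ} (hr : (r : F) ≠ 0) {s : F} (hs : s ≠ 0) (A B : Matrix ι ι F) (G : GL ι F)
    (hA : A ^ r = s • (1 : Matrix ι ι F)) {c : F} (hc : c ≠ 0)
    (h : Aᵀ * (G : Matrix ι ι F) * B = c • (G : Matrix ι ι F)) :
    eig E B = (eig E A).map (fun z => algebraMap F E c / z) := by
  obtain ⟨S, d, hSd, hd⟩ := exists_diag E hr hs A hA
  have hr0 : r ≠ 0 := by rintro rfl; simp at hr
  have hd0 : ∀ i, d i ≠ 0 := by
    intro i hi
    have := hd i
    rw [hi, zero_pow hr0] at this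
    exact hs ((algebraMap F E).injective (by rw [← this, map_zero]))
  have hSS : ((S⁻¹ : GL ι E) : Matrix ι ι E) * (S : Matrix ι ι E) = 1 := by
    rw [← Units.val_mul, inv_mul_cancel, Units.val_one]
  have hSS' : (S : Matrix ι ι E) * ((S⁻¹ : GL ι E) : Matrix ι ι E) = 1 := by
    rw [← Units.val_mul, mul_inv_cancel, Units.val_one]
  have hGG : (G : Matrix ι ι F) * ((G⁻¹ : GL ι F) : Matrix ι ι F) = 1 := by
    rw [← Units.val_mul, mul_inv_cancel, Units.val_one]
  have hGG' : ((G⁻¹ : GL ι F) : Matrix ι ι F) * (G : Matrix ι ι F) = 1 := by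
    rw [← Units.val_mul, inv_mul_cancel, Units.val_one]
  -- replace `B` by `G B G⁻¹`
  rw [← eig_conj G B, eig_of_diag A S d hSd, Multiset.map_map]
  set B' : Matrix ι ι F := (G : Matrix ι ι F) * B * ((G⁻¹ : GL ι F) : Matrix ι ι F) with hB'
  have h1 : Aᵀ * B' = c • (1 : Matrix ι ι F) := by
    rw [hB', ← Matrix.mul_assoc, ← Matrix.mul_assoc, h, Matrix.smul_mul, hGG]
  -- the transposed diagonalisation
  let T : GL ι E := ⟨((S⁻¹ : GL ι E) : Matrix ι ι E)ᵀ, (S : Matrix ι ι E)ᵀ,
    by rw [← Matrix.transpose_mul, hSS', Matrix.transpose_one],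
    by rw [← Matrix.transpose_mul, hSS, Matrix.transpose_one]⟩
  have hT : (T : Matrix ι ι E) = ((S⁻¹ : GL ι E) : Matrix ι ι E)ᵀ := rfl
  have hT' : ((T⁻¹ : GL ι E) : Matrix ι ι E) = (S : Matrix ι ι E)ᵀ := rfl
  have hTT : ((T⁻¹ : GL ι E) : Matrix ι ι E) * (T : Matrix ι ι E) = 1 := by
    rw [← Units.val_mul, inv_mul_cancel, Units.val_one]
  have hTT' : (T : Matrix ι ι E) * ((T⁻¹ : GL ι E) : Matrix ι ι E) = 1 := by
    rw [← Units.val_mul, mul_inv_cancel, Units.val_one]
  have h2 : (Aᵀ).map (algebraMap F E) = (T : Matrix ι ι E) * Matrix.diagonal d * ((T⁻¹ : GL ι E) : Matrix ι ι E) := by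
    rw [Matrix.transpose_map, hSd, Matrix.transpose_mul, Matrix.transpose_mul, Matrix.diagonal_transpose, hT, hT',
      Matrix.mul_assoc]
  have h3 : (Aᵀ).map (algebraMap F E) * B'.map (algebraMap F E) = (algebraMap F E c) • (1 : Matrix ι ι E) := by
    rw [← Matrix.map_mul, h1]
    ext i j
    rw [Matrix.map_apply, Matrix.smul_apply, Matrix.smul_apply, Matrix.one_apply, Matrix.one_apply]
    split_ifs <;> simp
  refine eig_of_diag B' T _ ?_
  have h4 : ((T : Matrix ι ι E) * Matrix.diagonal (fun i => (d i)⁻¹) * ((T⁻¹ : GL ι E) : Matrix ι ι E)) *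
      (Aᵀ).map (algebraMap F E) = 1 := by
    rw [h2]
    calc (T : Matrix ι ι E) * Matrix.diagonal (fun i => (d i)⁻¹) * ((T⁻¹ : GL ι E) : Matrix ι ι E) *
          ((T : Matrix ι ι E) * Matrix.diagonal d * ((T⁻¹ : GL ι E) : Matrix ι ι E))
        = (T : Matrix ι ι E) * Matrix.diagonal (fun i => (d i)⁻¹) * (((T⁻¹ : GL ι E) : Matrix ι ι E) *
          (T : Matrix ι ι E)) * Matrix.diagonal d * ((T⁻¹ : GL ι E) : Matrix ι ι E) := by
          simp only [Matrix.mul_assoc]
      _ = (T : Matrix ι ι E) * (Matrix.diagonal (fun i => (d i)⁻¹) * Matrix.diagonal d) *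
          ((T⁻¹ : GL ι E) : Matrix ι ι E) := by rw [hTT, Matrix.mul_one]; simp only [Matrix.mul_assoc]
      _ = 1 := by
        rw [Matrix.diagonal_mul_diagonal]
        have : (fun i => (d i)⁻¹ * d i) = fun _ => (1 : E) := by
          ext i; exact inv_mul_cancel₀ (hd0 i)
        rw [this, Matrix.diagonal_one, Matrix.mul_one, hTT']
  calc B'.map (algebraMap F E)
      = ((T : Matrix ι ι E) * Matrix.diagonal (fun i => (d i)⁻¹) * ((T⁻¹ : GL ι E) : Matrix ι ι E)) *
        ((Aᵀ).map (algebraMap F E) * B'.map (algebraMap F E)) := by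
        rw [← Matrix.mul_assoc, h4, Matrix.one_mul]
    _ = _ := by
        rw [h3, Matrix.mul_smul, Matrix.mul_one, ← Matrix.smul_mul, ← Matrix.mul_smul, ← Matrix.diagonal_smul]
        congr 3
        ext i
        rw [Pi.smul_apply, Function.comp_apply, smul_eq_mul, div_eq_mul_inv]

end dual

end Cfsg.Agent.H956.EigMult
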