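import Mathlib
import Cfsg.Prelude.Def_GeometricClasses
import Cfsg.Agent.H956.Conj
import Cfsg.Agent.H956.EigDual
import Cfsg.Agent.ClassicalGeometry.Discriminant

/-!
# Similarities of non-degenerate quadratic forms (characteristic not two), matrix version
-/

set_option autoImplicit false

namespace Cfsg.Agent.H956.OrthSim

open Matrix Polynomial
open scoped MatrixGroups
open Cfsg.Agent.H956.Conj Cfsg.Agent.H956.EigMult

variable {ι : Type} [Fintype ι] [DecidableEq ι] {F : Type*} [Field F]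

/-- the Gram matrix of the polar form. -/
def gram (Q : (ι → F) → F) : Matrix ι ι F :=
  Matrix.of fun i j => QuadraticMap.polar Q (Pi.single i 1) (Pi.single j 1)

variable {Q : (ι → F) → F}

omit [Fintype ι] [DecidableEq ι] in
theorem polar_comm' (Q : (ι → F) → F) (u v : ι → F) : QuadraticMap.polar Q u v = QuadraticMap.polar Q v u := by
  unfold QuadraticMap.polar
  rw [add_comm u v]
  ring

theorem gram_transpose (Q : (ι → F) → F) : (gram Q)ᵀ = gram Q := by
  ext i j
  simp only [gram, Matrix.transpose_apply, Matrix.of_apply]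
  exact polar_comm' Q _ _

theorem polar_eq (hQ : Cfsg.Geo.IsNondegenerateQuadraticForm Q) (u v : ι → F) :
    QuadraticMap.polar Q u v = u ⬝ᵥ (gram Q *ᵥ v) := by
  have hl := hQ.polar_bilinear.add_left
  have hs := hQ.polar_bilinear.smul_left
  let B : (ι → F) →ₗ[F] (ι → F) →ₗ[F] F :=
    LinearMap.mk₂ F (QuadraticMap.polar Q) (fun x y v => hl x y v) (fun c x v => by rw [hs, smul_eq_mul])
      (fun x y v => by rw [polar_comm', hl, polar_comm' Q y, polar_comm' Q v])
      (fun c x v => by rw [polar_comm', hs, polar_comm' Q v, smul_eq_mul])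
  have hB : ∀ u v, B u v = QuadraticMap.polar Q u v := fun u v => rfl
  rw [← hB]
  have hu : u = ∑ i, u i • (Pi.single i (1 : F) : ι → F) := pi_eq_sum_univ' u
  have hv : v = ∑ i, v i • (Pi.single i (1 : F) : ι → F) := pi_eq_sum_univ' v
  have h1 : B u v = ∑ i, u i * ∑ j, v j * B (Pi.single i 1) (Pi.single j 1) := by
    conv_lhs => rw [hu, hv]
    simp only [map_sum, map_smul, LinearMap.sum_apply, LinearMap.smul_apply, smul_eq_mul, Finset.mul_sum]
    rw [Finset.sum_comm]
    refine Finset.sum_congr rfl fun i _ => Finset.sum_congr rfl fun j _ => ?_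
    ring
  rw [h1]
  simp only [dotProduct, Matrix.mulVec, gram, Matrix.of_apply, hB]
  refine Finset.sum_congr rfl fun i _ => ?_
  congr 1
  refine Finset.sum_congr rfl fun j _ => mul_comm _ _

theorem two_mul_Q (hQ : Cfsg.Geo.IsNondegenerateQuadraticForm Q) (v : ι → F) :
    2 * Q v = v ⬝ᵥ (gram Q *ᵥ v) := by
  rw [← polar_eq hQ]
  unfold QuadraticMap.polar
  rw [← two_smul F v, hQ.smul]
  ring

theorem det_gram_ne_zero (hQ : Cfsg.Geo.IsNondegenerateQuadraticForm Q) : (gram Q).det ≠ 0 := by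
  intro h
  obtain ⟨v, hv, hv'⟩ := Matrix.exists_mulVec_eq_zero_iff.2 h
  obtain ⟨-, ⟨w, hw⟩⟩ := hQ.nondegenerate v hv
  apply hw
  rw [polar_comm', polar_eq hQ, hv', dotProduct_zero]

/-- A symmetric matrix is determined by its quadratic form. -/
theorem eq_zero_of_symm (h2 : (2 : F) ≠ 0) (M : Matrix ι ι F) (hM : Mᵀ = M) (h : ∀ v, v ⬝ᵥ (M *ᵥ v) = 0) : M = 0 := by
  have h1 : ∀ i j, (Pi.single i (1 : F) : ι → F) ⬝ᵥ (M *ᵥ (Pi.single j 1)) = M i j := by
    intro i j
    simp
  ext i j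
  have h3 := h (Pi.single i 1 + Pi.single j 1)
  rw [Matrix.mulVec_add, add_dotProduct, dotProduct_add, dotProduct_add, h, h, h1, h1] at h3
  have h4 : M j i = M i j := by
    conv_rhs => rw [← hM]
    rfl
  rw [h4] at h3
  have h5 : (2 : F) * M i j = 0 := by linear_combination h3
  rw [Matrix.zero_apply]
  exact (mul_eq_zero.1 h5).resolve_left h2

theorem mem_sim_iff (h2 : (2 : F) ≠ 0) (hQ : Cfsg.Geo.IsNondegenerateQuadraticForm Q) (g : GL ι F) :
    g ∈ Cfsg.Geo.quadSimilarityGroup Q ↔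
      ∃ c : F, c ≠ 0 ∧ (g : Matrix ι ι F)ᵀ * gram Q * (g : Matrix ι ι F) = c • gram Q := by
  have key : ∀ v, 2 * Q ((g : Matrix ι ι F) *ᵥ v) =
      v ⬝ᵥ (((g : Matrix ι ι F)ᵀ * gram Q * (g : Matrix ι ι F)) *ᵥ v) := by
    intro v
    rw [two_mul_Q hQ, ← Matrix.mulVec_mulVec, ← Matrix.mulVec_mulVec, Matrix.dotProduct_mulVec v, Matrix.vecMul_transpose]
  constructor
  · rintro ⟨c, hc⟩
    refine ⟨c, c.ne_zero, ?_⟩
    have h := eq_zero_of_symm h2 ((g : Matrix ι ι F)ᵀ * gram Q * (g : Matrix ι ι F) - (c : F) • gram Q) (by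
      rw [Matrix.transpose_sub, Matrix.transpose_mul, Matrix.transpose_mul, Matrix.transpose_transpose,
        Matrix.transpose_smul, gram_transpose, Matrix.mul_assoc]) (fun v => by
      rw [Matrix.sub_mulVec, dotProduct_sub, ← key, hc, Matrix.smul_mulVec, dotProduct_smul, ← two_mul_Q hQ, smul_eq_mul]
      ring)
    exact sub_eq_zero.1 h
  · rintro ⟨c, hc0, hc⟩
    refine ⟨Units.mk0 c hc0, fun v => ?_⟩
    have h3 := key v
    rw [hc, Matrix.smul_mulVec, dotProduct_smul, ← two_mul_Q hQ, smul_eq_mul] at h3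
    rw [Units.val_mk0]
    exact mul_left_cancel₀ h2 (by rw [h3]; ring)

/-- **Diagonalisation with prescribed entries and a change of basis of determinant one.** -/
theorem exists_diag [Finite F] [Nonempty ι] (h2 : (2 : F) ≠ 0) (S : Matrix ι ι F) (hS : Sᵀ = S) (hS0 : S.det ≠ 0)
    (c : ι → F) (hc : ∏ i, c i = S.det) :
    ∃ P : GL ι F, (P : Matrix ι ι F).det = 1 ∧ (P : Matrix ι ι F)ᵀ * S * (P : Matrix ι ι F) = Matrix.diagonal c := by
  obtain ⟨i0⟩ := ‹Nonempty ι›
  have hc0 : ∀ i, c i ≠ 0 := by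
    intro i hi
    apply hS0
    rw [← hc]
    exact Finset.prod_eq_zero (Finset.mem_univ i) hi
  let B : LinearMap.BilinForm F (ι → F) := Matrix.toBilin' S
  have hBS : LinearMap.BilinForm.toMatrix (Pi.basisFun F ι) B = S := by
    rw [LinearMap.BilinForm.toMatrix_basisFun]
    exact LinearMap.BilinForm.toMatrix'_toBilin' S
  have hsymm : B.IsSymm := by
    refine ⟨fun u v => ?_⟩
    simp only [B, Matrix.toBilin'_apply']
    rw [Matrix.dotProduct_mulVec, ← Matrix.mulVec_transpose, hS, dotProduct_comm]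
  have hnd : B.Nondegenerate := by
    rw [LinearMap.BilinForm.nondegenerate_iff_det_ne_zero (Pi.basisFun F ι), hBS]
    exact hS0
  obtain ⟨v, hv⟩ := Cfsg.Agent.ClassicalGeometry.Discriminant.exists_basis_diag h2 B hsymm hnd (Pi.basisFun F ι) c
    (by simp) hc0 1 (by rw [hBS, one_pow, one_mul, hc])
  let M : Matrix ι ι F := fun i j => v j i
  have hMv : M = (Pi.basisFun F ι).toMatrix v := by
    ext i j
    simp [M, Module.Basis.toMatrix_apply]
  have hMdiag : Mᵀ * S * M = Matrix.diagonal c := by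
    ext i j
    have h1 := hv i j
    simp only [B, Matrix.toBilin'_apply'] at h1
    rw [Matrix.diagonal_apply, ← h1, Matrix.dotProduct_mulVec, Matrix.mul_apply]
    refine Finset.sum_congr rfl fun k _ => ?_
    rfl
  let M' : Matrix ι ι F := v.toMatrix (Pi.basisFun F ι)
  let P : GL ι F := ⟨M, M', by rw [hMv]; exact Module.Basis.toMatrix_mul_toMatrix_flip _ _,
    by rw [hMv]; exact Module.Basis.toMatrix_mul_toMatrix_flip _ _⟩
  have hdet : M.det = 1 ∨ M.det = -1 := by
    have h1 := congrArg Matrix.det hMdiag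
    rw [Matrix.det_mul, Matrix.det_mul, Matrix.det_transpose, Matrix.det_diagonal, hc] at h1
    have h3 : M.det * M.det = 1 := by
      apply mul_right_cancel₀ hS0
      linear_combination h1
    exact mul_self_eq_one_iff.1 h3
  rcases hdet with h | h
  · exact ⟨P, h, hMdiag⟩
  · have hd0 : ∀ i, (Function.update (fun _ => (1 : F)) i0 (-1)) i ≠ 0 := by
      intro i
      rcases eq_or_ne i i0 with h | h
      · subst h
        rw [Function.update_self]
        exact neg_ne_zero.2 one_ne_zero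
      · rw [Function.update_of_ne h]
        exact one_ne_zero
    refine ⟨P * diagU _ hd0, ?_, ?_⟩
    · rw [Units.val_mul, Matrix.det_mul, coe_diagU, Matrix.det_diagonal, Finset.prod_update_of_mem (Finset.mem_univ i0)]
      have : ((P : GL ι F) : Matrix ι ι F).det = -1 := h
      rw [this]
      simp
    · rw [Units.val_mul, Matrix.transpose_mul, coe_diagU, Matrix.diagonal_transpose]
      calc Matrix.diagonal (Function.update (fun _ => (1 : F)) i0 (-1)) * (P : Matrix ι ι F)ᵀ * S *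
            ((P : Matrix ι ι F) * Matrix.diagonal (Function.update (fun _ => (1 : F)) i0 (-1)))
          = Matrix.diagonal (Function.update (fun _ => (1 : F)) i0 (-1)) *
            (Mᵀ * S * M) * Matrix.diagonal (Function.update (fun _ => (1 : F)) i0 (-1)) := by
            simp only [Matrix.mul_assoc]
            rfl
        _ = _ := by
          rw [hMdiag, Matrix.diagonal_mul_diagonal, Matrix.diagonal_mul_diagonal]
          congr 1
          ext i
          rcases eq_or_ne i i0 with h | h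
          · subst h
            rw [Function.update_self]; ring
          · rw [Function.update_of_ne h]; ring

/-- **Symmetric matrices with the same nonzero determinant are `SL`-congruent.** -/
theorem exists_congr [Finite F] [Nonempty ι] (h2 : (2 : F) ≠ 0) (S S' : Matrix ι ι F) (hS : Sᵀ = S) (hS0 : S.det ≠ 0)
    (hS' : S'ᵀ = S') (hdet : S'.det = S.det) :
    ∃ P : GL ι F, (P : Matrix ι ι F).det = 1 ∧ (P : Matrix ι ι F)ᵀ * S * (P : Matrix ι ι F) = S' := by
  obtain ⟨i0⟩ := ‹Nonempty ι›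
  have : Nonempty ι := ⟨i0⟩
  let c : ι → F := Function.update (fun _ => (1 : F)) i0 S.det
  have hc : ∏ i, c i = S.det := by
    simp only [c]
    rw [Finset.prod_update_of_mem (Finset.mem_univ i0)]
    simp
  obtain ⟨P, hP, hP'⟩ := exists_diag h2 S hS hS0 c hc
  obtain ⟨R, hR, hR'⟩ := exists_diag h2 S' hS' (by rwa [hdet]) c (by rw [hc, hdet])
  refine ⟨P * R⁻¹, ?_, ?_⟩
  · have h1 := congrArg Matrix.det (mul_inv_self' R)
    rw [Matrix.det_mul, hR, Matrix.det_one, one_mul] at h1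
    rw [Units.val_mul, Matrix.det_mul, hP, h1, one_mul]
  · have hT : ((R⁻¹ : GL ι F) : Matrix ι ι F)ᵀ * (R : Matrix ι ι F)ᵀ = 1 := by
      rw [← Matrix.transpose_mul, mul_inv_self', Matrix.transpose_one]
    calc ((P * R⁻¹ : GL ι F) : Matrix ι ι F)ᵀ * S * ((P * R⁻¹ : GL ι F) : Matrix ι ι F)
        = ((R⁻¹ : GL ι F) : Matrix ι ι F)ᵀ * ((P : Matrix ι ι F)ᵀ * S * (P : Matrix ι ι F)) *
          ((R⁻¹ : GL ι F) : Matrix ι ι F) := by
          rw [Units.val_mul, Matrix.transpose_mul]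
          simp only [Matrix.mul_assoc]
      _ = (((R⁻¹ : GL ι F) : Matrix ι ι F)ᵀ * (R : Matrix ι ι F)ᵀ) * S' *
          ((R : Matrix ι ι F) * ((R⁻¹ : GL ι F) : Matrix ι ι F)) := by
          rw [hP', ← hR']
          simp only [Matrix.mul_assoc]
      _ = S' := by rw [hT, mul_inv_self', Matrix.one_mul, Matrix.mul_one]

/-- **A similarity of some symmetric matrix of the right determinant is `SL`-conjugate to a similarity of `Q`.** -/
theorem sim_of_matrix [Finite F] [Nonempty ι] (h2 : (2 : F) ≠ 0) (hQ : Cfsg.Geo.IsNondegenerateQuadraticForm Q)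
    (x : GL ι F) (S : Matrix ι ι F) (hS : Sᵀ = S) (hdet : S.det = (gram Q).det) {c : F} (hc : c ≠ 0)
    (hx : (x : Matrix ι ι F)ᵀ * S * (x : Matrix ι ι F) = c • S) :
    ∃ g : GL ι F, (g : Matrix ι ι F).det = 1 ∧ g⁻¹ * x * g ∈ Cfsg.Geo.quadSimilarityGroup Q := by
  obtain ⟨P, hP, hP'⟩ := exists_congr h2 (gram Q) S (gram_transpose Q) (det_gram_ne_zero hQ) hS hdet
  refine ⟨P⁻¹, ?_, ?_⟩
  · have h1 := congrArg Matrix.det (mul_inv_self' P)
    rwa [Matrix.det_mul, hP, Matrix.det_one, one_mul] at h1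
  · rw [mem_sim_iff h2 hQ, inv_inv]
    refine ⟨c, hc, ?_⟩
    have hT : ((P⁻¹ : GL ι F) : Matrix ι ι F)ᵀ * (P : Matrix ι ι F)ᵀ = 1 := by
      rw [← Matrix.transpose_mul, mul_inv_self', Matrix.transpose_one]
    calc ((P * x * P⁻¹ : GL ι F) : Matrix ι ι F)ᵀ * gram Q * ((P * x * P⁻¹ : GL ι F) : Matrix ι ι F)
        = ((P⁻¹ : GL ι F) : Matrix ι ι F)ᵀ * ((x : Matrix ι ι F)ᵀ * ((P : Matrix ι ι F)ᵀ * gram Q *
          (P : Matrix ι ι F)) * (x : Matrix ι ι F)) * ((P⁻¹ : GL ι F) : Matrix ι ι F) := by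
          rw [Units.val_mul, Units.val_mul, Matrix.transpose_mul, Matrix.transpose_mul]
          simp only [Matrix.mul_assoc]
      _ = c • ((((P⁻¹ : GL ι F) : Matrix ι ι F)ᵀ * (P : Matrix ι ι F)ᵀ) * gram Q *
          ((P : Matrix ι ι F) * ((P⁻¹ : GL ι F) : Matrix ι ι F))) := by
          rw [hP', hx, ← hP', Matrix.mul_smul, Matrix.smul_mul]
          simp only [Matrix.mul_assoc]
      _ = c • gram Q := by rw [hT, mul_inv_self', Matrix.one_mul, Matrix.mul_one]

/-- **diagonalisable similarities.** -/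
theorem diag_sim_sl [Finite F] (h2 : (2 : F) ≠ 0) (hQ : Cfsg.Geo.IsNondegenerateQuadraticForm Q)
    (x T : GL ι F) (d : ι → F)
    (hx : (x : Matrix ι ι F) = (T : Matrix ι ι F) * Matrix.diagonal d * ((T⁻¹ : GL ι F) : Matrix ι ι F))
    (π : Equiv.Perm ι) (hπ : ∀ i, π (π i) = i) {i0 : ι} (hi0 : π i0 = i0) {c : F} (hc : c ≠ 0)
    (h : ∀ i, d i * d (π i) = c) :
    ∃ g : GL ι F, (g : Matrix ι ι F).det = 1 ∧ g⁻¹ * x * g ∈ Cfsg.Geo.quadSimilarityGroup Q := by
  have : Nonempty ι := ⟨i0⟩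
  let m : F := (Equiv.Perm.sign π : ℤ) * (gram Q).det * (T : Matrix ι ι F).det ^ 2
  let μ : ι → F := Function.update (fun _ => (1 : F)) i0 m
  have hμπ : ∀ i, μ (π i) = μ i := by
    intro i
    rcases eq_or_ne i i0 with h | h
    · rw [h, hi0]
    · have h' : π i ≠ i0 := by
        intro h''
        apply h
        rw [← hπ i, h'', hi0]
      simp only [μ]
      rw [Function.update_of_ne h, Function.update_of_ne h']
  let Δ : Matrix ι ι F := Matrix.of fun i j => if j = π i then μ i else 0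
  have hΔT : Δᵀ = Δ := by
    ext i j
    simp only [Δ, Matrix.transpose_apply, Matrix.of_apply]
    by_cases h' : j = π i
    · subst h'
      rw [if_pos (hπ i).symm, if_pos rfl, hμπ]
    · rw [if_neg h', if_neg]
      intro h''
      apply h'
      rw [h'', hπ]
  have hsgn : ((Equiv.Perm.sign π : ℤ) : F) * ((Equiv.Perm.sign π : ℤ) : F) = 1 := by
    rcases Int.units_eq_one_or (Equiv.Perm.sign π) with h | h <;> simp [h]
  have hΔdet : Δ.det = (gram Q).det * (T : Matrix ι ι F).det ^ 2 := by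
    have h1 : Δ = Matrix.diagonal μ * (π.permMatrix F) := by
      ext i j
      rw [Matrix.diagonal_mul]
      simp only [Δ, Matrix.of_apply, Equiv.Perm.permMatrix, PEquiv.toMatrix_apply, Equiv.toPEquiv_apply,
        Option.mem_def, Option.some.injEq]
      by_cases h : π i = j
      · rw [if_pos h, if_pos h.symm, mul_one]
      · rw [if_neg h, if_neg (fun h' => h h'.symm), mul_zero]
    rw [h1, Matrix.det_mul, Matrix.det_permutation, Matrix.det_diagonal,
      Finset.prod_update_of_mem (Finset.mem_univ i0)]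
    simp only [Finset.prod_const_one, mul_one, m]
    linear_combination ((gram Q).det * (T : Matrix ι ι F).det ^ 2) * hsgn
  have hT0 : (T : Matrix ι ι F).det ≠ 0 := (Matrix.GeneralLinearGroup.det T).ne_zero
  have hTT : ((T⁻¹ : GL ι F) : Matrix ι ι F).det * (T : Matrix ι ι F).det = 1 := by
    rw [← Matrix.det_mul, inv_mul_self', Matrix.det_one]
  have hTt : (T : Matrix ι ι F)ᵀ * ((T⁻¹ : GL ι F) : Matrix ι ι F)ᵀ = 1 := by
    rw [← Matrix.transpose_mul, inv_mul_self', Matrix.transpose_one]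
  refine sim_of_matrix h2 hQ x (((T⁻¹ : GL ι F) : Matrix ι ι F)ᵀ * Δ * ((T⁻¹ : GL ι F) : Matrix ι ι F)) ?_ ?_ hc ?_
  · rw [Matrix.transpose_mul, Matrix.transpose_mul, Matrix.transpose_transpose, hΔT, Matrix.mul_assoc]
  · rw [Matrix.det_mul, Matrix.det_mul, Matrix.det_transpose, hΔdet]
    linear_combination ((gram Q).det * (((T⁻¹ : GL ι F) : Matrix ι ι F).det * (T : Matrix ι ι F).det + 1)) * hTT
  · have hD : Matrix.diagonal d * Δ * Matrix.diagonal d = c • Δ := by
      ext i j
      rw [Matrix.mul_diagonal, Matrix.diagonal_mul, Matrix.smul_apply, smul_eq_mul]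
      simp only [Δ, Matrix.of_apply]
      by_cases h' : j = π i
      · subst h'
        rw [if_pos rfl, ← h i]
        ring
      · rw [if_neg h']
        ring
    calc (x : Matrix ι ι F)ᵀ * (((T⁻¹ : GL ι F) : Matrix ι ι F)ᵀ * Δ * ((T⁻¹ : GL ι F) : Matrix ι ι F)) *
          (x : Matrix ι ι F)
        = ((T⁻¹ : GL ι F) : Matrix ι ι F)ᵀ * (Matrix.diagonal d * ((T : Matrix ι ι F)ᵀ *
            ((T⁻¹ : GL ι F) : Matrix ι ι F)ᵀ) * Δ * (((T⁻¹ : GL ι F) : Matrix ι ι F) * (T : Matrix ι ι F)) *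
            Matrix.diagonal d) * ((T⁻¹ : GL ι F) : Matrix ι ι F) := by
          rw [hx, Matrix.transpose_mul, Matrix.transpose_mul, Matrix.diagonal_transpose]
          simp only [Matrix.mul_assoc]
      _ = _ := by
        rw [hTt, inv_mul_self', Matrix.mul_one, Matrix.mul_one, hD, Matrix.mul_smul, Matrix.smul_mul]

/-- **Eigenvalues of similarities** of quadratic forms. -/
theorem eig_of_sim (h2 : (2 : F) ≠ 0) (hQ : Cfsg.Geo.IsNondegenerateQuadraticForm Q)
    (E : Type*) [Field E] [Algebra F E] [IsAlgClosed E] {g x : GL ι F}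
    (hg : g⁻¹ * x * g ∈ Cfsg.Geo.quadSimilarityGroup Q) {r : ℕ} (hr : (r : F) ≠ 0) {s : F} (hs : s ≠ 0)
    (hx : (x : Matrix ι ι F) ^ r = s • (1 : Matrix ι ι F)) :
    ∃ c : F, c ≠ 0 ∧ eig E (x : Matrix ι ι F) =
      (eig E (x : Matrix ι ι F)).map (fun z => algebraMap F E c / z) := by
  obtain ⟨c, hc0, hc⟩ := (mem_sim_iff h2 hQ _).1 hg
  refine ⟨c, hc0, ?_⟩
  have heig : eig E ((g⁻¹ * x * g : GL ι F) : Matrix ι ι F) = eig E (x : Matrix ι ι F) := by
    rw [Units.val_mul, Units.val_mul, eig_conj']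
  have hyr : ((g⁻¹ * x * g : GL ι F) : Matrix ι ι F) ^ r = s • (1 : Matrix ι ι F) := by
    have h4 : (g⁻¹ * x * g) ^ r = g⁻¹ * x ^ r * g := by
      have := conj_pow (a := g⁻¹) (b := x) (i := r)
      rwa [inv_inv] at this
    rw [← Units.val_pow_eq_pow_val, h4, Units.val_mul, Units.val_mul, Units.val_pow_eq_pow_val, hx,
      Matrix.mul_smul, Matrix.smul_mul, Matrix.mul_one, inv_mul_self']
  have hd := eig_dual (E := E) hr hs _ _ (Matrix.GeneralLinearGroup.mkOfDetNeZero (gram Q) (det_gram_ne_zero hQ))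
    hyr hc0 hc
  rw [heig] at hd
  exact hd

end Cfsg.Agent.H956.OrthSim
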