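import Mathlib
import Cfsg.Agent.H956.EigMult

/-!
# Elements of prime order of `GL_n(q)` with prescribed eigenvalues

`F` a finite field with `q` elements, `r` a prime, `(r : F) ≠ 0`, `i = orderOf (q : ZMod r)`, `E` an algebraically
closed extension.
* `IsOrbit q r O`: `O` is (the multiset of the elements of) an orbit of `z ↦ z ^ q` on the primitive `r`-th roots of
  unity of `E`;
* `exists_matrix`: an `i × i` matrix of order `r` whose eigenvalues form an orbit;
* `exists_block`: an element of order `r` of `SL_n(q)` (`2 ≤ i ≤ n`) with eigenvalues one orbit and `1` (`n - i` times).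
-/

set_option autoImplicit false

namespace Cfsg.Agent.H956.PrimeElt

open Matrix Polynomial
open Cfsg.Agent.H956.EigMult

section arith

/-- the order of `q` modulo `r` is positive when `r` is a prime not dividing `q`. -/
theorem orderOf_pos' {q r : ℕ} [Fact r.Prime] (hq : ¬ r ∣ q) : 0 < orderOf (q : ZMod r) := by
  have h0 : (q : ZMod r) ≠ 0 := by rwa [Ne, ZMod.natCast_eq_zero_iff]
  have h1 : IsUnit (q : ZMod r) := isUnit_iff_ne_zero.2 h0
  obtain ⟨u, hu⟩ := h1
  rw [← hu, orderOf_units]
  exact orderOf_pos u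

/-- a prime different from the characteristic does not divide the order of the field. -/
theorem not_dvd_card {F : Type*} [Field F] [Fintype F] {q r : ℕ} (hq : Fintype.card F = q)
    [Fact r.Prime] (hr : (r : F) ≠ 0) : ¬ r ∣ q := by
  have hrp : r.Prime := Fact.out
  intro hd
  obtain ⟨p, hp⟩ := CharP.exists F
  have := hp
  have hpp : p.Prime := CharP.char_is_prime F p
  have : Fact p.Prime := ⟨hpp⟩
  obtain ⟨⟨m, hm⟩, hm2⟩ := FiniteField.card F p
  rw [← hq, hm2.2] at hd
  have h3 : r = p := (Nat.prime_dvd_prime_iff_eq hrp hpp).1 (hrp.dvd_of_dvd_pow hd)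
  apply hr
  rw [h3]
  exact CharP.cast_eq_zero F p

/-- `r ∣ q ^ n - 1` iff the order of `q` modulo `r` divides `n`. -/
theorem dvd_pow_sub_one_iff {q r : ℕ} [Fact r.Prime] (hq0 : 0 < q) (n : ℕ) :
    r ∣ q ^ n - 1 ↔ orderOf (q : ZMod r) ∣ n := by
  rw [orderOf_dvd_iff_pow_eq_one, ← ZMod.natCast_eq_zero_iff, Nat.cast_sub (Nat.one_le_pow _ _ hq0), Nat.cast_pow,
    Nat.cast_one, sub_eq_zero]

/-- if `r` divides the order of `GL_n(q)` then `ord_r(q) ≤ n`. -/
theorem orderOf_le_of_dvd_card_GL {F : Type*} [Field F] [Fintype F] {q r : ℕ} (hq : Fintype.card F = q)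
    [Fact r.Prime] (hr : (r : F) ≠ 0) {n : ℕ} (h : r ∣ Nat.card (GL (Fin n) F)) :
    orderOf (q : ZMod r) ≤ n := by
  have hrp : r.Prime := Fact.out
  have hrq : ¬ r ∣ q := not_dvd_card hq hr
  rw [Matrix.card_GL_field, hq] at h
  obtain ⟨j, -, hj⟩ := (hrp.prime.dvd_finsetProd_iff _).1 h
  have hjn : (j : ℕ) < n := j.2
  have hq1 : 0 < q := by rw [← hq]; exact Fintype.card_pos
  have h2 : q ^ n - q ^ (j : ℕ) = q ^ (j : ℕ) * (q ^ (n - j) - 1) := by
    rw [Nat.mul_sub, mul_one, ← pow_add]
    congr 2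
    omega
  rw [h2] at hj
  rcases hrp.dvd_mul.1 hj with h3 | h3
  · exact absurd (hrp.dvd_of_dvd_pow h3) hrq
  · rw [dvd_pow_sub_one_iff hq1] at h3
    exact (Nat.le_of_dvd (by omega) h3).trans (by omega)

end arith

section orbit

variable {E : Type*} [Field E]

/-- `O` is an orbit of `z ↦ z ^ q` on the primitive `r`-th roots of unity. -/
structure IsOrbit (q r : ℕ) (O : Multiset E) : Prop where
  nodup : O.Nodup
  card_eq : Multiset.card O = orderOf (q : ZMod r)
  prim : ∀ z ∈ O, IsPrimitiveRoot z r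
  frob : ∀ z ∈ O, z ^ q ∈ O

theorem IsOrbit.pow_mem {q r : ℕ} {O : Multiset E} (h : IsOrbit q r O) {z : E} (hz : z ∈ O) (j : ℕ) :
    z ^ (q ^ j) ∈ O := by
  induction j with
  | zero => simpa using hz
  | succ j ih => rw [pow_succ, pow_mul]; exact h.frob _ ih

/-- the powers `z ^ (q ^ j)`, `j < ord_r(q)`, of a primitive `r`-th root of unity are distinct. -/
theorem pow_inj_of_prim {q r : ℕ} [Fact r.Prime] {z : E} (hz : IsPrimitiveRoot z r) {j k : ℕ}
    (hj : j < orderOf (q : ZMod r)) (hk : k < orderOf (q : ZMod r)) (h : z ^ (q ^ j) = z ^ (q ^ k)) : j = k := by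
  have h1 : q ^ j ≡ q ^ k [MOD r] := by
    have hfin : IsOfFinOrder z := isOfFinOrder_iff_pow_eq_one.2 ⟨r, (Fact.out : r.Prime).pos, hz.pow_eq_one⟩
    have := hz.eq_orderOf
    rw [this]
    exact hfin.pow_eq_pow_iff_modEq.1 h
  have h2 : (q : ZMod r) ^ j = (q : ZMod r) ^ k := by
    rw [← Nat.cast_pow, ← Nat.cast_pow]
    exact (ZMod.natCast_eq_natCast_iff _ _ _).2 h1
  exact pow_injOn_Iio_orderOf hj hk h2

/-- if `ord_r(q) ≥ 2` an orbit contains two different elements. -/
theorem IsOrbit.frob_ne {q r : ℕ} [Fact r.Prime] {O : Multiset E} (h : IsOrbit q r O)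
    (h2 : 2 ≤ orderOf (q : ZMod r)) {z : E} (hz : z ∈ O) : z ^ q ≠ z := by
  intro h3
  have := pow_inj_of_prim (q := q) (h.prim z hz) (j := 1) (k := 0) (by omega) (by omega) (by rw [pow_one, pow_zero, pow_one, h3])
  omega

theorem IsOrbit.mem_iff {q r : ℕ} [Fact r.Prime] {O : Multiset E} (h : IsOrbit q r O) {z : E} (hz : z ∈ O) (w : E) :
    w ∈ O ↔ ∃ j < orderOf (q : ZMod r), w = z ^ (q ^ j) := by
  classical
  constructor
  · intro hw
    let T : Finset E := (Finset.range (orderOf (q : ZMod r))).image (fun j => z ^ (q ^ j))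
    have hT : T.card = orderOf (q : ZMod r) := by
      rw [Finset.card_image_of_injOn, Finset.card_range]
      intro j hj k hk hjk
      simp only [Finset.coe_range, Set.mem_Iio] at hj hk
      exact pow_inj_of_prim (h.prim z hz) hj hk hjk
    have hsub : T ⊆ O.toFinset := by
      intro x hx
      obtain ⟨j, -, rfl⟩ := Finset.mem_image.1 hx
      rw [Multiset.mem_toFinset]
      exact h.pow_mem hz j
    have hcard : O.toFinset.card ≤ T.card := by
      rw [hT, ← h.card_eq]
      exact Multiset.toFinset_card_le O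
    have heq := Finset.eq_of_subset_of_card_le hsub hcard
    have : w ∈ T := by rw [heq, Multiset.mem_toFinset]; exact hw
    obtain ⟨j, hj, hjw⟩ := Finset.mem_image.1 this
    exact ⟨j, Finset.mem_range.1 hj, hjw.symm⟩
  · rintro ⟨j, -, rfl⟩
    exact h.pow_mem hz j

end orbit

section exist

variable {F : Type*} [Field F] [Fintype F] (E : Type*) [Field E] [Algebra F E] [IsAlgClosed E]

/-- **An `i × i` matrix of order `r`, `i = ord_r(q)`, whose eigenvalues form an orbit of the Frobenius map.** -/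
theorem exists_matrix {q r : ℕ} (hq : Fintype.card F = q) [Fact r.Prime] (hr : (r : F) ≠ 0) :
    ∃ A : Matrix (Fin (orderOf (q : ZMod r))) (Fin (orderOf (q : ZMod r))) F,
      A ^ r = 1 ∧ IsOrbit q r (eig E A) := by
  have hrp : r.Prime := Fact.out
  obtain ⟨p, hp⟩ := CharP.exists F
  have := hp
  have hpp : p.Prime := CharP.char_is_prime F p
  have : Fact p.Prime := ⟨hpp⟩
  obtain ⟨⟨f, hf⟩, hf2⟩ := FiniteField.card F p
  have hcop : p.Coprime r := by
    rw [Nat.coprime_primes hpp hrp]
    rintro rfl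
    exact hr (CharP.cast_eq_zero F p)
  have hrE : (r : E) ≠ 0 := by
    intro h
    apply hr
    apply (algebraMap F E).injective
    rw [map_natCast, h, map_zero]
  have hNZ : NeZero (r : E) := ⟨hrE⟩
  -- an irreducible factor of the cyclotomic polynomial
  obtain ⟨P0, hP0irr, hP0dvd⟩ := Polynomial.exists_irreducible_of_degree_pos (f := cyclotomic r F) (by
    rw [degree_cyclotomic]
    exact_mod_cast Nat.totient_pos.2 hrp.pos)
  let P : F[X] := P0 * C P0.leadingCoeff⁻¹
  have hPmon : P.Monic := monic_mul_leadingCoeff_inv hP0irr.ne_zero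
  have hPirr : Irreducible P := irreducible_mul_leadingCoeff_inv.mpr hP0irr
  have hPdvd : P ∣ cyclotomic r F := by
    have hu : IsUnit (C P0.leadingCoeff⁻¹ : F[X]) := isUnit_C.2 (by
      simp [hP0irr.ne_zero])
    exact hu.mul_right_dvd.2 hP0dvd
  have hPdeg : P.natDegree = orderOf (q : ZMod r) := by
    rw [Polynomial.natDegree_of_dvd_cyclotomic_of_irreducible hf2.2 hcop hPdvd hPirr, ← orderOf_units,
      ZMod.coe_unitOfCoprime, ← hq, hf2.2]
  let pB := AdjoinRoot.powerBasis hPirr.ne_zero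
  have hdim : pB.dim = orderOf (q : ZMod r) := by
    rw [← hPdeg]
    exact AdjoinRoot.powerBasis_dim hPirr.ne_zero
  have hgen : pB.gen = AdjoinRoot.root P := AdjoinRoot.powerBasis_gen hPirr.ne_zero
  let A0 : Matrix (Fin pB.dim) (Fin pB.dim) F := Algebra.leftMulMatrix pB.basis pB.gen
  have hchar : A0.charpoly = P := by
    rw [show A0 = Algebra.leftMulMatrix pB.basis pB.gen from rfl, charpoly_leftMulMatrix, hgen]
    have := AdjoinRoot.minpoly_root hPirr.ne_zero
    rw [this, hPmon.leadingCoeff]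
    simp
  let e : Fin pB.dim ≃ Fin (orderOf (q : ZMod r)) := finCongr hdim
  refine ⟨Matrix.reindex e e A0, ?_, ?_⟩
  · have h1 : (Matrix.reindexAlgEquiv F F e) A0 = Matrix.reindex e e A0 := rfl
    rw [← h1, ← map_pow]
    have h2 : A0 ^ r = 1 := by
      rw [show A0 = Algebra.leftMulMatrix pB.basis pB.gen from rfl, ← map_pow]
      have h3 : pB.gen ^ r = 1 := by
        rw [hgen]
        have h4 : P ∣ X ^ r - 1 := hPdvd.trans (cyclotomic.dvd_X_pow_sub_one r F)
        have h5 : aeval (AdjoinRoot.root P) (X ^ r - 1 : F[X]) = 0 := by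
          rw [AdjoinRoot.aeval_eq, AdjoinRoot.mk_eq_zero]
          exact h4
        rw [map_sub, map_pow, aeval_X, map_one, sub_eq_zero] at h5
        exact h5
      rw [h3, map_one]
    rw [h2, map_one]
  · rw [eig_reindex]
    have hfr := eig_frob (E := E) hq A0
    have heig : eig E A0 = (P.map (algebraMap F E)).roots := by
      unfold eig
      rw [hchar]
    have hsep : (P.map (algebraMap F E)).Separable := by
      have h1 : (cyclotomic r F).Separable := by
        have : NeZero (r : F) := ⟨hr⟩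
        exact separable_cyclotomic r F
      exact (h1.of_dvd hPdvd).map
    refine ⟨?_, ?_, ?_, ?_⟩
    · rw [heig]
      exact nodup_roots hsep
    · rw [card_eig, Fintype.card_fin, hdim]
    · intro z hz
      rw [heig, mem_roots'] at hz
      have h1 : (cyclotomic r E).IsRoot z := by
        have h2 : P.map (algebraMap F E) ∣ cyclotomic r E := by
          rw [← map_cyclotomic r (algebraMap F E)]
          exact Polynomial.map_dvd _ hPdvd
        exact hz.2.dvd h2
      exact isRoot_cyclotomic_iff.1 h1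
    · intro z hz
      rw [← hfr]
      exact Multiset.mem_map_of_mem _ hz

variable {E}

omit [Fintype F] in
theorem det_eq_one_of_pow [Fintype F] {q r : ℕ} (hq : Fintype.card F = q) [Fact r.Prime]
    (h2 : orderOf (q : ZMod r) ≠ 1) {x : F} (hx : x ^ r = 1) : x = 1 := by
  have hrp : r.Prime := Fact.out
  have hx0 : x ≠ 0 := by
    rintro rfl
    rw [zero_pow hrp.ne_zero] at hx
    exact zero_ne_one hx
  have h3 : x ^ (q - 1) = 1 := by rw [← hq]; exact FiniteField.pow_card_sub_one_eq_one x hx0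
  have hq1 : 0 < q := by rw [← hq]; exact Fintype.card_pos
  have h4 : ¬ r ∣ q - 1 := by
    intro h
    rw [← pow_one q, dvd_pow_sub_one_iff hq1] at h
    exact h2 (Nat.dvd_one.1 h)
  have h5 : Nat.Coprime r (q - 1) := (hrp.coprime_iff_not_dvd).2 h4
  have h6 := orderOf_dvd_of_pow_eq_one hx
  have h7 := orderOf_dvd_of_pow_eq_one h3
  have h8 := Nat.dvd_gcd h6 h7
  rw [h5] at h8
  exact orderOf_eq_one_iff.1 (Nat.dvd_one.1 h8)

end exist

section block

variable {F : Type*} [Field F] [Fintype F] (E : Type*) [Field E] [Algebra F E] [IsAlgClosed E]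
variable {ι : Type*} [Fintype ι] [DecidableEq ι]

/-- Block diagonal elements `[A, 1]` with `A` a prescribed matrix of order `r`. -/
theorem exists_extend {κ : Type*} [Fintype κ] [DecidableEq κ] {r : ℕ} (hr0 : r ≠ 0) (A : Matrix κ κ F) (hA : A ^ r = 1)
    (hn : Fintype.card κ ≤ Fintype.card ι) :
    ∃ x : GL ι F, (x : Matrix ι ι F).det = A.det ∧ x ^ r = 1 ∧
      eig E (x : Matrix ι ι F) = eig E A + Multiset.replicate (Fintype.card ι - Fintype.card κ) 1 := by
  classical
  let e : κ ⊕ Fin (Fintype.card ι - Fintype.card κ) ≃ ι := Fintype.equivOfCardEq (by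
    rw [Fintype.card_sum, Fintype.card_fin]; omega)
  let M : Matrix ι ι F := Matrix.reindex e e (Matrix.fromBlocks A 0 0 1)
  have hpow : ∀ k : ℕ, (Matrix.fromBlocks A 0 0 (1 : Matrix (Fin (Fintype.card ι - Fintype.card κ))
      (Fin (Fintype.card ι - Fintype.card κ)) F)) ^ k = Matrix.fromBlocks (A ^ k) 0 0 1 := by
    intro k
    induction k with
    | zero => simp [Matrix.fromBlocks_one]
    | succ k ih => rw [pow_succ, ih, Matrix.fromBlocks_multiply]; simp [pow_succ]
  have hM : M ^ r = 1 := by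
    have h1 : (Matrix.reindexAlgEquiv F F e) (Matrix.fromBlocks A 0 0 1) = M := rfl
    rw [← h1, ← map_pow, hpow, hA, Matrix.fromBlocks_one, map_one]
  refine ⟨Units.ofPowEqOne M r hM hr0, ?_, ?_, ?_⟩
  · change M.det = _
    rw [Matrix.det_reindex_self, Matrix.det_fromBlocks_zero₁₂, Matrix.det_one, mul_one]
  · ext1
    rw [Units.val_pow_eq_pow_val]
    exact hM
  · change eig E M = _
    rw [eig_reindex, eig_fromBlocks, eig_one, Fintype.card_fin]

/-- **An element of order `r` of `SL_n(q)` whose eigenvalues are one orbit of the Frobenius map and `1`.** -/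
theorem exists_block {q r : ℕ} (hq : Fintype.card F = q) [Fact r.Prime] (hr : (r : F) ≠ 0)
    (h1 : orderOf (q : ZMod r) ≠ 1) (hn : orderOf (q : ZMod r) ≤ Fintype.card ι) :
    ∃ x : GL ι F, (x : Matrix ι ι F).det = 1 ∧ x ^ r = 1 ∧
      ∃ O : Multiset E, IsOrbit q r O ∧ eig E (x : Matrix ι ι F) =
        O + Multiset.replicate (Fintype.card ι - orderOf (q : ZMod r)) 1 := by
  have hrp : r.Prime := Fact.out
  obtain ⟨A, hA, hO⟩ := exists_matrix E hq hr
  obtain ⟨x, hx1, hx2, hx3⟩ := exists_extend E (ι := ι) hrp.ne_zero A hA (by rwa [Fintype.card_fin])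
  refine ⟨x, ?_, hx2, eig E A, hO, ?_⟩
  · rw [hx1]
    refine det_eq_one_of_pow hq h1 (x := A.det) ?_
    rw [← Matrix.det_pow, hA, Matrix.det_one]
  · rw [hx3, Fintype.card_fin]

end block

end Cfsg.Agent.H956.PrimeElt
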