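import Mathlib
import Cfsg.Agent.H956.PrimeElt
import Cfsg.Agent.H956.EigMult

/-!
# Elements of order `r` without fixed vectors; products of linear forms
-/

set_option autoImplicit false

namespace Cfsg.Agent.H956.FreeElt

open Matrix Polynomial
open scoped MatrixGroups
open Cfsg.Agent.H956.EigMult Cfsg.Agent.H956.PrimeElt

variable {F : Type*} [Field F]

/-- **If `ord_r(q) > 1` divides `n` there is an element of `SL_n(q)` of order `r` without fixed vectors.** -/
theorem exists_free [Fintype F] {q r : ℕ} (hq : Fintype.card F = q) [Fact r.Prime] (hr : (r : F) ≠ 0)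
    (h1 : orderOf (q : ZMod r) ≠ 1) {n : ℕ} (hn : orderOf (q : ZMod r) ∣ n) :
    ∃ x : GL (Fin n) F, (x : Matrix (Fin n) (Fin n) F).det = 1 ∧ x ^ r = 1 ∧
      ∀ v : Fin n → F, (x : Matrix (Fin n) (Fin n) F) *ᵥ v = v → v = 0 := by
  classical
  have hrp : r.Prime := Fact.out
  obtain ⟨i, hi⟩ : ∃ i, i = orderOf (q : ZMod r) := ⟨_, rfl⟩
  obtain ⟨A, hA, hO⟩ : ∃ A : Matrix (Fin i) (Fin i) F, A ^ r = 1 ∧ IsOrbit q r (eig (AlgebraicClosure F) A) := by
    rw [hi]
    exact exists_matrix (E := AlgebraicClosure F) hq hr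
  rw [← hi] at hn
  obtain ⟨t, ht⟩ := hn
  have hAdet : A.det = 1 := by
    apply det_eq_one_of_pow hq h1
    rw [← Matrix.det_pow, hA, Matrix.det_one]
  have hA1 : (A - 1).det ≠ 0 := by
    intro h
    have h2 : A.charpoly.eval 1 = 0 := by
      rw [Matrix.eval_charpoly, map_one]
      have : (1 : Matrix (Fin i) (Fin i) F) - A = -(A - 1) := by abel
      rw [this, Matrix.det_neg, h, mul_zero]
    have h3 : (1 : AlgebraicClosure F) ∈ eig (AlgebraicClosure F) A := by
      unfold eig
      rw [Polynomial.mem_roots (Polynomial.map_ne_zero (Matrix.charpoly_monic A).ne_zero), Polynomial.IsRoot.def,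
        ← map_one (algebraMap F (AlgebraicClosure F)), Polynomial.eval_map_algebraMap, Polynomial.aeval_algebraMap_apply,
        Polynomial.aeval_def, Algebra.algebraMap_self, Polynomial.eval₂_id, h2, map_zero]
    exact (hO.prim 1 h3).ne_one hrp.one_lt rfl
  let e : Fin n ≃ Fin i × Fin t := Fintype.equivOfCardEq (by simp [ht])
  let M : Matrix (Fin n) (Fin n) F := Matrix.reindexAlgEquiv F F e.symm (Matrix.blockDiagonal (fun _ : Fin t => A))
  have hMdet : M.det = 1 := by
    simp only [M]
    rw [Matrix.det_reindexAlgEquiv, Matrix.det_blockDiagonal]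
    simp [hAdet]
  have hMr : M ^ r = 1 := by
    simp only [M]
    rw [← map_pow, ← Matrix.blockDiagonal_pow]
    have : (fun _ : Fin t => A) ^ r = 1 := by
      ext1 j
      simp [hA]
    rw [this, Matrix.blockDiagonal_one, map_one]
  let x : GL (Fin n) F := Matrix.GeneralLinearGroup.mkOfDetNeZero M (by rw [hMdet]; exact one_ne_zero)
  have hx : (x : Matrix (Fin n) (Fin n) F) = M := rfl
  refine ⟨x, by rw [hx, hMdet], ?_, ?_⟩
  · ext1
    rw [Units.val_pow_eq_pow_val, hx, hMr, Units.val_one]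
  · intro v hv
    rw [hx] at hv
    have h4 : (M - 1).det ≠ 0 := by
      have : M - 1 = Matrix.reindexAlgEquiv F F e.symm (Matrix.blockDiagonal (fun _ : Fin t => A - 1)) := by
        have h5 : (fun _ : Fin t => A - 1) = (fun _ : Fin t => A) - 1 := by
          ext1 j
          rfl
        rw [h5, Matrix.blockDiagonal_sub, Matrix.blockDiagonal_one, map_sub, map_one]
      rw [this, Matrix.det_reindexAlgEquiv, Matrix.det_blockDiagonal]
      exact Finset.prod_ne_zero_iff.2 fun _ _ => hA1
    apply Matrix.eq_zero_of_mulVec_eq_zero h4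
    rw [Matrix.sub_mulVec, hv, Matrix.one_mulVec, sub_self]

/-- two linear forms with zero product: one is zero. -/
theorem eq_zero_or_eq_zero {V : Type*} [AddCommGroup V] [Module F V] (φ ψ : V →ₗ[F] F) (h : ∀ v, φ v * ψ v = 0) :
    φ = 0 ∨ ψ = 0 := by
  by_contra hcon
  push Not at hcon
  obtain ⟨h1, h2⟩ := hcon
  obtain ⟨v, hv⟩ := DFunLike.ne_iff.1 h1
  obtain ⟨w, hw⟩ := DFunLike.ne_iff.1 h2
  rw [LinearMap.zero_apply] at hv hw
  have e1 : ψ v = 0 := (mul_eq_zero.1 (h v)).resolve_left hv
  have e2 : φ w = 0 := (mul_eq_zero.1 (h w)).resolve_right hw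
  have e3 := h (v + w)
  rw [map_add, map_add, e1, e2, add_zero, zero_add] at e3
  rcases mul_eq_zero.1 e3 with h | h
  · exact hv h
  · exact hw h

end Cfsg.Agent.H956.FreeElt
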