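import Cfsg.Agent.H956.SUTorus
import Cfsg.Agent.H504.ZerosLie
import Cfsg.Agent.H674.TwelvePSU
import Cfsg.Agent.S0283

/-!
# Zeros of characters: `PSU_3(q)`, `q ≥ 3` (S4895)
-/

set_option autoImplicit false
set_option maxRecDepth 20000

namespace Cfsg.Agent.H504.Zeros

open Cfsg Cfsg.Agent.H504.ZeroTI

/-- a `CC`-subgroup and a `p`-defect zero character -/
theorem big_of_cc_dz {G : Type*} [Group G] [Finite G] {p : ℕ} [Fact p.Prime] {A : Subgroup G} (hA : CC A)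
    {e m k : ℕ} (he : eIdx A = e) (hm : 2 ≤ m) (hem : Nat.card A = e * m + 1)
    (hk : k ≤ Nat.card (ConjClasses G)) (hdz : Cfsg.Agent.H665.NoPQ.HasDZ p G) (hpA : ¬ p ∣ Nat.card A)
    (t : Finset G) (ht : NonConj t) (htp : ∀ g ∈ t, p ∣ orderOf g)
    (h : 8 ≤ (m - 1) * (k - (e + m)) + (t.card - 1)) : Big G := by
  obtain ⟨s, hs, hsc, hsA⟩ := exists_reps (m := m) hA (by rw [he]; exact hem)
  obtain ⟨χ, hχ⟩ := hdz
  have hne : ∀ g ∈ s, ∀ h ∈ t, ¬ IsConj g h := by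
    intro g hg h hh hc
    have h1 : orderOf g = orderOf h := by
      obtain ⟨c, rfl⟩ := isConj_iff.1 hc
      exact ((MulAut.conj c).orderOf_eq g).symm
    have h2 : orderOf g ∣ Nat.card A := by
      have := orderOf_dvd_natCard (⟨g, (hsA g hg).1⟩ : A)
      rwa [← Subgroup.orderOf_coe] at this
    exact hpA ((htp h hh).trans (h1 ▸ h2))
  refine big_of_family (ι := Bool) Finset.univ (fun b => if b then s else t) ?_
    (fun b => if b then (NV A)ᶜ else {χ}) ?_ ?_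
  · intro i _ j _ g hg h hh hc
    cases i <;> cases j <;> simp only [if_true, if_false, Bool.false_eq_true] at hg hh
    · exact ⟨rfl, ht g hg h hh hc⟩
    · exact absurd hc.symm (hne h hh g hg)
    · exact absurd hc (hne g hg h hh)
    · exact ⟨rfl, hs g hg h hh hc⟩
  · intro i _ χ' hχ' g hg
    cases i <;> simp only [if_true, if_false, Bool.false_eq_true] at hg hχ'
    · rw [Set.mem_singleton_iff.1 hχ']
      exact Cfsg.Agent.H713.irr_zero_of_singular hχ (htp g hg)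
    · exact apply_eq_zero_of_compl hχ' (hsA g hg).1 (hsA g hg).2
  · rw [Fintype.sum_bool]
    simp only [if_true, if_false, Bool.false_eq_true]
    rw [hsc, Set.ncard_singleton, mul_one]
    exact h.trans (Nat.add_le_add_right (Nat.mul_le_mul_left _ (le_ncard_compl hA he hm hem hk)) _)

end Cfsg.Agent.H504.Zeros

namespace Cfsg.Agent.H956.ZerosPSU3

open Matrix Cfsg.Agent.H92 Cfsg.Agent.LieClassical Cfsg.Agent.H674.SUTools Cfsg.Agent.H674.SUBlock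
open Cfsg.Agent.H674.Explicit Cfsg.Agent.H674.ExplicitCases Cfsg.Agent.H504.ZeroTI Cfsg.Agent.H504.Zeros

/-- the torus of order `a = (q ^ 2 - q + 1) / d`, `d = gcd(3, q + 1)`, and its automizer -/
theorem exists_torus {F : Type} [Field F] [Fintype F] {q : ℕ} (hF : Fintype.card F = q ^ 2) (h2 : q ≠ 2) :
    ∃ (A : Subgroup (Cfsg.PSU 3 F q)) (m : ℕ), CC A ∧ eIdx A = 3 ∧ Nat.card A = 3 * m + 1 ∧
      Nat.gcd 3 (q + 1) * (3 * m + 1) + q = q ^ 2 + 1 := by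
  have hq := ClassicalGeometry.GUBasic.two_le hF
  have hq3 : 3 ≤ q := by omega
  obtain ⟨A, hA, hc⟩ := SUTorus.exists_cc (n := 3) hF (by norm_num) (by decide) (by omega)
  have hG := Cfsg.Agent.S0280.result hF 3 (by norm_num)
  simp only [Finset.prod_range_succ, Finset.prod_range_zero] at hG
  norm_num at hG
  set d := Nat.gcd 3 (q + 1) with hd
  have hd0 : 0 < d := Nat.gcd_pos_of_pos_left _ (by norm_num)
  obtain ⟨s, rfl⟩ : ∃ s, q = s + 3 := ⟨q - 3, by omega⟩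
  -- `d a = q ^ 2 - q + 1`
  have hda : d * Nat.card A + (s + 3) = (s + 3) ^ 2 + 1 := by
    have h1 : (d * Nat.card A) * (s + 3 + 1) = (s + 3) ^ 3 + 1 := by rw [← hc]; ring
    have h3 : (d * Nat.card A) * (s + 3 + 1) + (s + 3) * (s + 3 + 1) = ((s + 3) ^ 2 + 1) * (s + 3 + 1) := by
      rw [h1]; ring
    rw [← add_mul] at h3
    exact Nat.eq_of_mul_eq_mul_right (by omega) h3
  have hq1 : (s + 3) ^ 2 - 1 = s ^ 2 + 6 * s + 8 := by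
    have : (s + 3) ^ 2 = s ^ 2 + 6 * s + 8 + 1 := by ring
    omega
  rw [hq1] at hG
  have hcard : Nat.card (Cfsg.PSU 3 F (s + 3)) =
      Nat.card A * ((s + 3) ^ 3 * (s ^ 2 + 6 * s + 8) * (s + 3 + 1)) := by
    apply Nat.eq_of_mul_eq_mul_left (show 0 < d * (s + 3 + 1) by positivity)
    calc d * (s + 3 + 1) * Nat.card (Cfsg.PSU 3 F (s + 3)) = d * ((s + 3 + 1) * Nat.card (Cfsg.PSU 3 F (s + 3))) := by
          ring
      _ = (s + 3) ^ 3 * ((s + 3 + 1) * (s ^ 2 + 6 * s + 8) * ((s + 3) ^ 3 + 1)) := hG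
      _ = (s + 3) ^ 3 * ((s + 3 + 1) * (s ^ 2 + 6 * s + 8) * (Nat.card A * d * (s + 3 + 1))) := by rw [← hc]
      _ = _ := by ring
  have ha7 : 3 < Nat.card A := by
    have h3 : d ≤ 3 := Nat.gcd_le_left _ (by norm_num)
    by_contra hcon
    have h4 : d * Nat.card A ≤ 3 * 3 := Nat.mul_le_mul h3 (by omega)
    have h5 : (s + 3) ^ 2 + 1 = s ^ 2 + 5 * s + 7 + (s + 3) := by ring
    have h6 : s = 0 := by nlinarith
    subst h6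
    have h7 : d = 1 := by rw [hd]; norm_num
    rw [h7] at hda
    omega
  have he : eIdx A = 3 := by
    rw [eIdx_eq_mod hA (by omega) hcard]
    have h4 : (s + 3) ^ 3 * (s ^ 2 + 6 * s + 8) * (s + 3 + 1) =
        3 + (d * Nat.card A) * (s ^ 4 + 14 * s ^ 3 + 72 * s ^ 2 + 159 * s + 123) := by
      have h5 : d * Nat.card A = s ^ 2 + 5 * s + 7 := by
        have : (s + 3) ^ 2 + 1 = s ^ 2 + 5 * s + 7 + (s + 3) := by ring
        omega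
      rw [h5]
      ring
    rw [h4, show d * Nat.card A * (s ^ 4 + 14 * s ^ 3 + 72 * s ^ 2 + 159 * s + 123) =
      Nat.card A * (d * (s ^ 4 + 14 * s ^ 3 + 72 * s ^ 2 + 159 * s + 123)) by ring, Nat.add_mul_mod_self_left,
      Nat.mod_eq_of_lt ha7]
  obtain ⟨m, hm⟩ := exists_m hA
  rw [he] at hm
  exact ⟨A, m, hA, he, hm, by rw [← hm, hda]⟩

/-- `q ≥ 7` -/
theorem big_large {F : Type} [Field F] [Fintype F] {q : ℕ} (hF : Fintype.card F = q ^ 2) (h7 : 7 ≤ q) :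
    Big (Cfsg.PSU 3 F q) := by
  obtain ⟨A, m, hA, he, hm, hd⟩ := exists_torus hF (by omega)
  have h1 := (Cfsg.Agent.H674.SteinbergSU.sq_le_three hF 0).trans (card_classes_le hF (le_refl 3))
  set d := Nat.gcd 3 (q + 1) with hd'
  set k := Nat.card (ConjClasses (Cfsg.PSU 3 F q)) with hk
  have hd0 : 0 < d := Nat.gcd_pos_of_pos_left _ (by norm_num)
  have h3 : d ≤ 3 := Nat.gcd_le_left _ (by norm_num)
  clear_value d k
  obtain ⟨t, rfl⟩ : ∃ t, q = t + 7 := ⟨q - 7, by omega⟩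
  have h4 : (t + 7) ^ 2 = t ^ 2 + 14 * t + 49 := by ring
  rw [h4] at h1 hd
  have hm2 : 2 ≤ m := by
    interval_cases d <;> omega
  have hk8 : 8 ≤ k - (3 + m) := by
    interval_cases d <;> omega
  refine big_of_ti hA he hm2 hm hk.le ?_
  calc 8 ≤ 1 * (k - (3 + m)) := by omega
    _ ≤ (m - 1) * (k - (3 + m)) := Nat.mul_le_mul_right _ (by omega)

/-- `q = 4` -/
theorem big_four {F : Type} [Field F] [Fintype F] (hF : Fintype.card F = 4 ^ 2) :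
    Big (Cfsg.PSU 3 F 4) := by
  obtain ⟨A, m, hA, he, hm, hd⟩ := exists_torus hF (by norm_num)
  norm_num at hd
  have hm4 : m = 4 := by omega
  subst hm4
  have h1 := Cfsg.Agent.H674.TwelvePSU.twelve_le_psu F 3 4 hF le_rfl (by norm_num)
  exact big_of_ti hA he (by norm_num) hm h1 (by norm_num)

/-- thirteen classes of `SU_3(3)` -/
def m33 : List (Matrix (Fin 3) (Fin 3) F9) :=
  [!![⟨0, 0⟩, ⟨0, 1⟩, ⟨0, 0⟩; ⟨0, 0⟩, ⟨0, 0⟩, ⟨2, 0⟩; ⟨0, 1⟩, ⟨0, 0⟩, ⟨0, 0⟩],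
   !![⟨1, 0⟩, ⟨0, 0⟩, ⟨0, 0⟩; ⟨0, 0⟩, ⟨1, 0⟩, ⟨0, 0⟩; ⟨0, 0⟩, ⟨0, 0⟩, ⟨1, 0⟩],
   !![⟨0, 0⟩, ⟨0, 0⟩, ⟨1, 0⟩; ⟨0, 0⟩, ⟨0, 1⟩, ⟨0, 0⟩; ⟨0, 1⟩, ⟨0, 0⟩, ⟨0, 0⟩],
   !![⟨0, 2⟩, ⟨0, 0⟩, ⟨0, 0⟩; ⟨0, 0⟩, ⟨0, 0⟩, ⟨1, 0⟩; ⟨0, 0⟩, ⟨0, 2⟩, ⟨0, 0⟩],
   !![⟨1, 0⟩, ⟨0, 0⟩, ⟨0, 0⟩; ⟨0, 0⟩, ⟨0, 2⟩, ⟨0, 0⟩; ⟨0, 0⟩, ⟨0, 0⟩, ⟨0, 1⟩],
   !![⟨0, 0⟩, ⟨2, 2⟩, ⟨2, 1⟩; ⟨0, 2⟩, ⟨0, 0⟩, ⟨0, 0⟩; ⟨0, 0⟩, ⟨1, 2⟩, ⟨1, 1⟩],
   !![⟨1, 2⟩, ⟨0, 0⟩, ⟨1, 2⟩; ⟨1, 2⟩, ⟨0, 0⟩, ⟨2, 1⟩; ⟨0, 0⟩, ⟨0, 1⟩, ⟨0, 0⟩],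
   !![⟨1, 0⟩, ⟨0, 0⟩, ⟨0, 0⟩; ⟨0, 0⟩, ⟨2, 2⟩, ⟨2, 1⟩; ⟨0, 0⟩, ⟨1, 1⟩, ⟨2, 1⟩],
   !![⟨0, 0⟩, ⟨0, 0⟩, ⟨0, 1⟩; ⟨0, 0⟩, ⟨2, 0⟩, ⟨0, 0⟩; ⟨0, 2⟩, ⟨0, 0⟩, ⟨0, 0⟩],
   !![⟨0, 0⟩, ⟨1, 1⟩, ⟨1, 2⟩; ⟨1, 0⟩, ⟨0, 0⟩, ⟨0, 0⟩; ⟨0, 0⟩, ⟨1, 1⟩, ⟨2, 1⟩],
   !![⟨0, 2⟩, ⟨0, 0⟩, ⟨0, 0⟩; ⟨0, 0⟩, ⟨0, 2⟩, ⟨0, 0⟩; ⟨0, 0⟩, ⟨0, 0⟩, ⟨2, 0⟩],
   !![⟨2, 2⟩, ⟨0, 0⟩, ⟨2, 1⟩; ⟨1, 1⟩, ⟨0, 0⟩, ⟨2, 1⟩; ⟨0, 0⟩, ⟨2, 0⟩, ⟨0, 0⟩],
   !![⟨0, 1⟩, ⟨0, 0⟩, ⟨0, 0⟩; ⟨0, 0⟩, ⟨0, 1⟩, ⟨0, 0⟩; ⟨0, 0⟩, ⟨0, 0⟩, ⟨2, 0⟩]]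

theorem good_m33 : m33.all (good 3) = true := by decide +kernel

theorem nodup_m33 : (m33.map (inv [1, 2, 3, 4, 6, 7, 8])).Nodup := by decide +kernel

/-- `13 ≤ k(PSU_3(3))` -/
theorem thirteen_le {F : Type} [Field F] [Fintype F] (hF : Fintype.card F = 3 ^ 2) :
    13 ≤ Nat.card (ConjClasses (Cfsg.PSU 3 F 3)) := by
  have h9 := Cfsg.Agent.H674.TwelvePSU.h9
  rw [KTools.card_classes_congr (FieldTransfer.psuCongr 3 3 (FiniteField.ringEquivOfCardEq (hF.trans h9.symm)))]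
  have h1 := card_classes_le (F := F9) (n := 3) (q := 3) h9 le_rfl
  have h2 := length_le_SU (n := 3) (q := 3) h9 (inv [1, 2, 3, 4, 6, 7, 8]) (inv_conj _) m33
    (fun M hM => List.all_eq_true.1 good_m33 M hM) nodup_m33
  have h3 : Nat.gcd 3 (3 + 1) = 1 := by norm_num
  have h5 : m33.length = 13 := rfl
  rw [h3, one_mul] at h1
  rw [h5] at h2
  exact h2.trans h1

/-- `q = 3` -/
theorem big_three {F : Type} [Field F] [Fintype F] (hF : Fintype.card F = 3 ^ 2) :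
    Big (Cfsg.PSU 3 F 3) := by
  obtain ⟨A, m, hA, he, hm, hd⟩ := exists_torus hF (by norm_num)
  norm_num at hd
  have hm4 : m = 2 := by omega
  subst hm4
  exact big_of_ti hA he (by norm_num) hm (thirteen_le hF) (by norm_num)

/-- an element of order ten of `SU_3(5)` -/
def m10 : Matrix (Fin 3) (Fin 3) F25 :=
  !![⟨1, 0⟩, ⟨0, 0⟩, ⟨0, 0⟩; ⟨0, 0⟩, ⟨4, 2⟩, ⟨4, 2⟩; ⟨0, 0⟩, ⟨1, 2⟩, ⟨4, 3⟩]

theorem good_m10 : good 5 m10 = true := by decide +kernel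

theorem ord_m10 : ordIs m10 10 = true := by decide +kernel

theorem hasOrd_ten : KTools.HasOrd (Cfsg.PSU 3 F25 5) 10 := by
  have h25 := Cfsg.Agent.H674.TwelvePSU.h25
  obtain ⟨x, hx⟩ := hasOrd_of h25 good_m10 (by norm_num) ord_m10
  refine ⟨pr x, ?_⟩
  have h1 : orderOf (pr x) ∣ 10 := hx ▸ orderOf_map_dvd pr x
  have h2 : 10 ∣ orderOf (pr x) * 3 := by
    have h3 : pr (x ^ orderOf (pr x)) = 1 := by rw [map_pow, pow_orderOf_eq_one]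
    rw [pr_eq_one_iff] at h3
    have h4 : Nat.card (Subgroup.center (Cfsg.SU 3 F25 5)) = 3 := by
      rw [Cfsg.Agent.S0279.result h25 3 le_rfl]
      norm_num
    have h5 := pow_card_eq_one' (x := (⟨x ^ orderOf (pr x), h3⟩ : Subgroup.center (Cfsg.SU 3 F25 5)))
    rw [h4] at h5
    have h6 : (x ^ orderOf (pr x)) ^ 3 = 1 := congrArg Subtype.val h5
    rw [← pow_mul] at h6
    rw [← hx]
    exact orderOf_dvd_of_pow_eq_one h6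
  have h3 : 10 ∣ orderOf (pr x) := Nat.Coprime.dvd_of_dvd_mul_right (by norm_num) h2
  exact Nat.dvd_antisymm h1 h3

/-- `q = 5` -/
theorem big_five {F : Type} [Field F] [Fintype F] (hF : Fintype.card F = 5 ^ 2) :
    Big (Cfsg.PSU 3 F 5) := by
  have h25 := Cfsg.Agent.H674.TwelvePSU.h25
  refine Big.of_equiv (FieldTransfer.psuCongr 3 5 (FiniteField.ringEquivOfCardEq (hF.trans h25.symm))) ?_
  obtain ⟨A, m, hA, he, hm, hd⟩ := exists_torus h25 (by norm_num)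
  norm_num at hd
  have hm4 : m = 2 := by omega
  subst hm4
  have h5 : Fact (Nat.Prime 5) := ⟨by norm_num⟩
  have hch : CharP F25 5 := charP_of_card_eq_prime_pow h25
  have hsimp : IsSimpleGroup (Cfsg.PSU 3 F25 5) := Cfsg.Agent.S0283.result h25 3 le_rfl (by norm_num)
  have hL : IsLieTypeChar 5 (Cfsg.PSU 3 F25 5) :=
    Or.inr (Or.inr (Or.inl ⟨F25, inferInstance, inferInstance, hch, 3, 5, h25, le_rfl, by norm_num,
      ⟨MulEquiv.refl _⟩⟩))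
  have hdz := hasDZ_of_hasSt (Cfsg.Agent.H167.StChar.hasSt_of_lie (by norm_num : Nat.Prime 5) hL)
  obtain ⟨t, ht, htc, hto⟩ := exists_of_orders (G := Cfsg.PSU 3 F25 5) {5, 10} (by
    intro n hn
    simp only [Finset.mem_insert, Finset.mem_singleton] at hn
    rcases hn with rfl | rfl
    · exact hasOrd_ten.of_dvd (by norm_num) (by norm_num)
    · exact hasOrd_ten)
  have h1 := Cfsg.Agent.H674.TwelvePSU.twelve_le_psu F25 3 5 h25 le_rfl (by norm_num)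
  refine big_of_cc_dz hA he (by norm_num) hm h1 hdz (by rw [hm]; norm_num) t ht ?_ ?_
  · intro g hg
    have := hto g hg
    simp only [Finset.mem_insert, Finset.mem_singleton] at this
    rcases this with h | h
    · rw [h]
    · rw [h]; norm_num
  · rw [htc]
    norm_num

/-- **`PSU_3(q)`, `q ≥ 3`** (task 799) -/
theorem big_psu3 {F : Type} [Field F] [Fintype F] {q : ℕ} (hF : Fintype.card F = q ^ 2) (h2 : q ≠ 2) :
    Big (Cfsg.PSU 3 F q) := by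
  have hq := ClassicalGeometry.GUBasic.two_le hF
  have h6 : q ≠ 6 := by
    rintro rfl
    obtain ⟨p, hp⟩ := CharP.exists F
    obtain ⟨k, hpp, hk⟩ := FiniteField.card F p
    rw [hF] at hk
    have h3 : 2 = p := (Nat.prime_dvd_prime_iff_eq (by norm_num) hpp).1
      (Nat.Prime.dvd_of_dvd_pow (by norm_num) (hk ▸ (by norm_num : 2 ∣ 6 ^ 2)))
    have h4 : 3 = p := (Nat.prime_dvd_prime_iff_eq (by norm_num) hpp).1
      (Nat.Prime.dvd_of_dvd_pow (by norm_num) (hk ▸ (by norm_num : 3 ∣ 6 ^ 2)))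
    omega
  rcases Nat.lt_or_ge q 7 with h7 | h7
  · have : q = 3 ∨ q = 4 ∨ q = 5 := by omega
    rcases this with rfl | rfl | rfl
    · exact big_three hF
    · exact big_four hF
    · exact big_five hF
  · exact big_large hF h7

end Cfsg.Agent.H956.ZerosPSU3
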