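import Mathlib
import Cfsg.Agent.H956.EigBasis

/-!
# Matrices with distinct eigenvalues in an extension have a commutative centralizer (helper956)
-/

set_option autoImplicit false

namespace Cfsg.Agent.H956.CommEig

open Matrix Module

variable {F K : Type*} [Field F] [Field K] [Algebra F K] {ι : Type*} [Fintype ι] [DecidableEq ι]

/-- `μ` is an eigenvalue of `M` in the extension `K` -/
def Ev (M : Matrix ι ι F) (μ : K) : Prop := (M.map (algebraMap F K) - μ • (1 : Matrix ι ι K)).det = 0

theorem Ev.exists_vec {M : Matrix ι ι F} {μ : K} (h : Ev M μ) :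
    ∃ v : ι → K, v ≠ 0 ∧ (M.map (algebraMap F K)) *ᵥ v = μ • v := by
  obtain ⟨v, hv, hv2⟩ := Matrix.exists_mulVec_eq_zero_iff.2 h
  refine ⟨v, hv, ?_⟩
  rw [Matrix.sub_mulVec, Matrix.smul_mulVec, Matrix.one_mulVec, sub_eq_zero] at hv2
  exact hv2

theorem Ev.of_vec {M : Matrix ι ι F} {μ : K} {v : ι → K} (hv : v ≠ 0)
    (h : (M.map (algebraMap F K)) *ᵥ v = μ • v) : Ev M μ := by
  refine Matrix.exists_mulVec_eq_zero_iff.1 ⟨v, hv, ?_⟩
  rw [Matrix.sub_mulVec, Matrix.smul_mulVec, Matrix.one_mulVec, sub_eq_zero]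
  exact h

theorem Ev.transpose {M : Matrix ι ι F} {μ : K} (h : Ev M μ) : Ev Mᵀ μ := by
  unfold Ev at h ⊢
  rw [← Matrix.det_transpose] at h
  convert h using 2
  rw [Matrix.transpose_sub, Matrix.transpose_smul, Matrix.transpose_one, Matrix.transpose_map]

theorem Ev.inv {M N : Matrix ι ι F} {μ : K} (h : Ev M μ) (hNM : N * M = 1) : Ev N μ⁻¹ := by
  obtain ⟨v, hv, hv2⟩ := h.exists_vec
  have h1 : (N.map (algebraMap F K)) * (M.map (algebraMap F K)) = 1 := by
    rw [← Matrix.map_mul, hNM, Matrix.map_one _ (map_zero _) (map_one _)]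
  have h2 : v = μ • (N.map (algebraMap F K)) *ᵥ v := by
    rw [← Matrix.mulVec_smul, ← hv2, Matrix.mulVec_mulVec, h1, Matrix.one_mulVec]
  have hμ : μ ≠ 0 := by
    rintro rfl
    rw [zero_smul] at h2
    exact hv h2
  refine Ev.of_vec hv ?_
  conv_rhs => rw [h2]
  rw [smul_smul, inv_mul_cancel₀ hμ, one_smul]

theorem Ev.frob {M : Matrix ι ι F} {μ : K} (h : Ev M μ) (p j : ℕ) [ExpChar F p] [ExpChar K p] :
    Ev (M.map (fun x => x ^ p ^ j)) (μ ^ p ^ j) := by
  unfold Ev at h ⊢
  have h1 := congrArg (iterateFrobenius K p j) h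
  rw [RingHom.map_det, map_zero] at h1
  convert h1 using 2
  ext a b
  simp only [Matrix.sub_apply, Matrix.map_apply, Matrix.smul_apply, RingHom.mapMatrix_apply, map_sub,
    iterateFrobenius_def, smul_eq_mul, map_pow, mul_pow]
  rcases eq_or_ne a b with rfl | hab
  · rw [Matrix.one_apply_eq, one_pow]
  · rw [Matrix.one_apply_ne hab, zero_pow (pow_ne_zero _ (expChar_pos F p).ne')]

theorem Ev.card [Fintype F] {M : Matrix ι ι F} {μ : K} (h : Ev M μ) : Ev M (μ ^ Fintype.card F) := by
  obtain ⟨p, hp⟩ := CharP.exists F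
  obtain ⟨k, hpp, hk⟩ := FiniteField.card F p
  have : Fact p.Prime := ⟨hpp⟩
  have : CharP K p := charP_of_injective_algebraMap (algebraMap F K).injective p
  have : ExpChar F p := ExpChar.prime hpp
  have : ExpChar K p := ExpChar.prime hpp
  have h1 := h.frob p k
  rw [← hk] at h1
  convert h1 using 1
  ext a b
  rw [Matrix.map_apply, FiniteField.pow_card]

/-- distinct eigenvalues in an extension: the centralizer is commutative -/
theorem comm_of_ev {M : Matrix ι ι F} (e : ι → K) (he : Function.Injective e) (hev : ∀ i, Ev M (e i))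
    {A B : Matrix ι ι F} (hA : A * M = M * A) (hB : B * M = M * B) : A * B = B * A := by
  classical
  choose v hv0 hv using fun i => (hev i).exists_vec
  set MK := M.map (algebraMap F K) with hMK
  have hlin : LinearIndependent K v := by
    refine Module.End.eigenvectors_linearIndependent' (Matrix.toLin' MK) e he v fun i => ?_
    rw [Module.End.hasEigenvector_iff, Module.End.mem_eigenspace_iff]
    exact ⟨by rw [Matrix.toLin'_apply]; exact hv i, hv0 i⟩
  have hcard : Fintype.card ι = finrank K (ι → K) := by simp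
  obtain ⟨i₀⟩ | hne : IsEmpty ι ∨ Nonempty ι := isEmpty_or_nonempty ι
  · ext i
    exact i₀.elim i
  let b : Basis ι K (ι → K) := basisOfLinearIndependentOfCardEqFinrank hlin hcard
  have hb : ∀ i, b i = v i := fun i => by
    rw [coe_basisOfLinearIndependentOfCardEqFinrank]
  have hcoord : ∀ (j : ι) (w : ι → K), b.coord j (MK *ᵥ w) = e j * b.coord j w := by
    intro j w
    have h1 : (b.coord j).comp (Matrix.toLin' MK) = e j • b.coord j := by
      apply b.ext
      intro k
      rw [LinearMap.comp_apply, Matrix.toLin'_apply, LinearMap.smul_apply, hb, hv k, ← hb, map_smul,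
        Basis.coord_apply, Basis.repr_self, smul_eq_mul, smul_eq_mul]
      rcases eq_or_ne k j with rfl | hkj
      · rfl
      · rw [Finsupp.single_eq_of_ne hkj.symm, mul_zero, mul_zero]
    have h2 := congrArg (fun f : (ι → K) →ₗ[K] K => f w) h1
    simpa [Matrix.toLin'_apply] using h2
  have key : ∀ {C : Matrix ι ι F}, C * M = M * C → ∀ i, ∃ c : K, (C.map (algebraMap F K)) *ᵥ (v i) = c • v i := by
    intro C hC i
    set w := (C.map (algebraMap F K)) *ᵥ (v i) with hw
    have hCM : (C.map (algebraMap F K)) * MK = MK * (C.map (algebraMap F K)) := by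
      rw [hMK, ← Matrix.map_mul, ← Matrix.map_mul, hC]
    have h1 : MK *ᵥ w = e i • w := by
      rw [hw, Matrix.mulVec_mulVec, ← hCM, ← Matrix.mulVec_mulVec, hv i, Matrix.mulVec_smul]
    refine ⟨b.coord i w, ?_⟩
    conv_lhs => rw [← b.sum_repr w]
    rw [Finset.sum_eq_single i]
    · rw [hb]; rfl
    · intro j _ hji
      have h2 := hcoord j w
      rw [h1, map_smul, smul_eq_mul] at h2
      have h3 : (e i - e j) * b.coord j w = 0 := by rw [sub_mul, h2, sub_self]
      have h4 : e i - e j ≠ 0 := sub_ne_zero.2 (he.ne hji.symm)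
      have h5 := (mul_eq_zero.1 h3).resolve_left h4
      rw [Basis.coord_apply] at h5
      rw [h5, zero_smul]
    · intro h
      exact absurd (Finset.mem_univ i) h
  have hfin : (A * B).map (algebraMap F K) = (B * A).map (algebraMap F K) := by
    apply Matrix.toLin'.injective
    apply b.ext
    intro i
    rw [Matrix.toLin'_apply, Matrix.toLin'_apply, hb, Matrix.map_mul, Matrix.map_mul, ← Matrix.mulVec_mulVec,
      ← Matrix.mulVec_mulVec]
    obtain ⟨a, ha⟩ := key hA i
    obtain ⟨c, hc⟩ := key hB i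
    rw [hc, ha, Matrix.mulVec_smul, Matrix.mulVec_smul, ha, hc, smul_smul, smul_smul, mul_comm]
  ext i j
  have h1 := congrFun (congrFun hfin i) j
  exact (algebraMap F K).injective h1

/-- an eigenvalue different from `1` -/
theorem exists_ev_ne_one [IsAlgClosed K] {M : Matrix ι ι F} {r : ℕ} (hr : 0 < r) (hrF : (r : F) ≠ 0) (hM : M ^ r = 1)
    (hM1 : M ≠ 1) : ∃ μ : Kˣ, μ ^ r = 1 ∧ μ ≠ 1 ∧ Ev M (μ : K) := by
  classical
  have hrK : (r : K) ≠ 0 := by
    rw [← map_natCast (algebraMap F K)]
    exact fun h => hrF ((algebraMap F K).injective (h.trans (map_zero _).symm))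
  have : NeZero (r : K) := ⟨hrK⟩
  obtain ⟨ζ, hζ⟩ := HasEnoughRootsOfUnity.exists_primitiveRoot K r
  set MK := M.map (algebraMap F K) with hMK
  have hMKr : MK ^ r = 1 := by
    rw [hMK]
    have h1 := congrArg (fun X : Matrix ι ι F => X.map (algebraMap F K)) hM
    rw [Matrix.map_one _ (map_zero _) (map_one _)] at h1
    rw [← h1]
    exact (map_pow (algebraMap F K).mapMatrix M r).symm
  have htop : ⨆ a, Module.End.eigenspace (Matrix.toLin' MK) a = ⊤ := by
    refine EigBasis.iSup_eigenspace_of_pow hr hζ (Matrix.toLin' MK) (t := 1) one_ne_zero ?_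
    rw [← Matrix.toLin'_pow, hMKr, Matrix.toLin'_one, one_pow, one_smul]
    rfl
  obtain ⟨S, d, hSd⟩ := EigBasis.exists_conj_diagonal MK htop
  have h1 : ∃ i, d i ≠ 1 := by
    by_contra h
    push Not at h
    have h2 : d = fun _ => 1 := funext h
    rw [h2, Matrix.diagonal_one, mul_one, ← Units.val_mul, mul_inv_cancel, Units.val_one] at hSd
    apply hM1
    ext i j
    apply (algebraMap F K).injective
    have h3 := congrFun (congrFun hSd i) j
    rw [hMK, Matrix.map_apply] at h3
    rw [h3, Matrix.one_apply, Matrix.one_apply]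
    split_ifs <;> simp
  obtain ⟨i, hi⟩ := h1
  -- the eigenvector `S e_i`
  have hvec : MK *ᵥ ((S : Matrix ι ι K) *ᵥ Pi.single i 1) = d i • ((S : Matrix ι ι K) *ᵥ Pi.single i 1) := by
    rw [hSd, Matrix.mulVec_mulVec, mul_assoc, mul_assoc, ← Units.val_mul, inv_mul_cancel, Units.val_one, mul_one,
      ← Matrix.mulVec_mulVec, Matrix.diagonal_mulVec_single, mul_one, ← Matrix.mulVec_smul]
    congr 1
    ext j
    simp [Pi.single_apply]
  have hne : ((S : Matrix ι ι K) *ᵥ Pi.single i 1) ≠ 0 := by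
    intro h
    have h2 := congrArg (fun w => ((S⁻¹ : GL ι K) : Matrix ι ι K) *ᵥ w) h
    simp only [Matrix.mulVec_mulVec, Matrix.mulVec_zero] at h2
    rw [← Units.val_mul, inv_mul_cancel, Units.val_one, Matrix.one_mulVec] at h2
    have h3 := congrFun h2 i
    simp at h3
  have hpow : ∀ k : ℕ, MK ^ k *ᵥ ((S : Matrix ι ι K) *ᵥ Pi.single i 1) =
      d i ^ k • ((S : Matrix ι ι K) *ᵥ Pi.single i 1) := by
    intro k
    induction k with
    | zero => simp
    | succ k ih =>
      rw [pow_succ, ← Matrix.mulVec_mulVec, hvec, Matrix.mulVec_smul, ih, smul_smul, pow_succ, mul_comm]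
  have hdr : d i ^ r = 1 := by
    have h2 := hpow r
    rw [hMKr, Matrix.one_mulVec] at h2
    by_contra hne1
    apply hne
    have h3 : (1 - d i ^ r) • ((S : Matrix ι ι K) *ᵥ Pi.single i 1) = 0 := by
      rw [sub_smul, one_smul, ← h2, sub_self]
    exact (smul_eq_zero.1 h3).resolve_left (sub_ne_zero.2 (Ne.symm hne1))
  have hd0 : d i ≠ 0 := by
    intro h0
    rw [h0, zero_pow hr.ne'] at hdr
    exact zero_ne_one hdr
  refine ⟨Units.mk0 (d i) hd0, ?_, ?_, ?_⟩
  · apply Units.ext
    simpa using hdr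
  · intro h
    apply hi
    have := congrArg Units.val h
    simpa using this
  · exact Ev.of_vec hne hvec

/-- **The criterion.** `M ^ r = 1 ≠ M`, the set of eigenvalues is closed under `μ ↦ μ ^ t` and `t` has order `n = dim`
modulo `r`: the centralizer of `M` is commutative. -/
theorem comm_of_orbit {M : Matrix ι ι F} {r : ℕ} (hr : r.Prime) (hrF : (r : F) ≠ 0) (hM : M ^ r = 1)
    (hM1 : M ≠ 1) (t : ℤ) (ht : orderOf (t : ZMod r) = Fintype.card ι)
    (hcl : ∀ μ : (AlgebraicClosure F)ˣ, Ev M (μ : AlgebraicClosure F) →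
      Ev M ((μ ^ t : (AlgebraicClosure F)ˣ) : AlgebraicClosure F))
    {A B : Matrix ι ι F} (hA : A * M = M * A) (hB : B * M = M * B) : A * B = B * A := by
  classical
  obtain ⟨u, hur, hu1, hev⟩ := exists_ev_ne_one (K := AlgebraicClosure F) hr.pos hrF hM hM1
  have hou : orderOf u = r := by
    have : Fact r.Prime := ⟨hr⟩
    exact orderOf_eq_prime hur hu1
  let f : ℕ → AlgebraicClosure F := fun i => ((u ^ (t ^ i) : (AlgebraicClosure F)ˣ) : AlgebraicClosure F)
  have hf : ∀ i, Ev M (f i) := by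
    intro i
    induction i with
    | zero => simpa [f] using hev
    | succ i ih =>
      have h1 := hcl _ ih
      rw [← _root_.zpow_mul, ← pow_succ] at h1
      exact h1
  let e : ι → AlgebraicClosure F := fun i => f (Fintype.equivFin ι i : ℕ)
  refine comm_of_ev e ?_ (fun i => hf _) hA hB
  intro i j hij
  apply (Fintype.equivFin ι).injective
  apply Fin.ext
  have h1 : u ^ (t ^ (Fintype.equivFin ι i : ℕ)) = u ^ (t ^ (Fintype.equivFin ι j : ℕ)) := Units.ext hij
  rw [zpow_eq_zpow_iff_modEq, hou, ← ZMod.intCast_eq_intCast_iff, Int.cast_pow, Int.cast_pow] at h1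
  exact pow_injOn_Iio_orderOf (Set.mem_Iio.2 (by rw [ht]; exact (Fintype.equivFin ι i).2))
    (Set.mem_Iio.2 (by rw [ht]; exact (Fintype.equivFin ι j).2)) h1

end Cfsg.Agent.H956.CommEig
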