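import Mathlib
import Cfsg.Agent.H956.Conj

/-!
# Conjugacy of matrices killed by the same irreducible polynomial
-/

set_option autoImplicit false

namespace Cfsg.Agent.H956.ConjIrr

open Matrix Polynomial Module
open scoped MatrixGroups

variable {ι : Type*} [Fintype ι] [DecidableEq ι] {F : Type*} [Field F]

/-- the space of column vectors, on which the matrix `A` acts -/
@[nolint unusedArguments]
def VM (_A : Matrix ι ι F) : Type _ := ι → F

noncomputable instance instACG (A : Matrix ι ι F) : AddCommGroup (VM A) := inferInstanceAs (AddCommGroup (ι → F))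

noncomputable instance instMod (A : Matrix ι ι F) : Module F (VM A) := inferInstanceAs (Module F (ι → F))

instance instFin (A : Matrix ι ι F) : Module.Finite F (VM A) := inferInstanceAs (Module.Finite F (ι → F))

instance instFree (A : Matrix ι ι F) : Module.Free F (VM A) := inferInstanceAs (Module.Free F (ι → F))

theorem finrank_VM (A : Matrix ι ι F) : finrank F (VM A) = Fintype.card ι :=
  Module.finrank_fintype_fun_eq_card F

/-- The action of `F[X]` on the space of `A`. -/
noncomputable def act0 (A : Matrix ι ι F) : F[X] →+* Module.End F (VM A) :=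
  (Matrix.toLinAlgEquiv' (R := F) (n := ι)).toAlgHom.toRingHom.comp (aeval A).toRingHom

theorem act0_apply (A : Matrix ι ι F) (f : F[X]) : act0 A f = Matrix.toLinAlgEquiv' (aeval A f) := rfl

/-- The action of `F[X]/(P)` on the space of `A` when `P(A) = 0`. -/
noncomputable def act (P : F[X]) (A : Matrix ι ι F) (hA : aeval A P = 0) : AdjoinRoot P →+* Module.End F (VM A) :=
  Ideal.Quotient.lift (Ideal.span {P}) (act0 A) (by
      intro a ha
      obtain ⟨b, rfl⟩ := Ideal.mem_span_singleton'.1 ha
      rw [act0_apply, map_mul, hA, mul_zero]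
      exact map_zero (Matrix.toLinAlgEquiv' (R := F) (n := ι)))

theorem act_root (P : F[X]) (A : Matrix ι ι F) (hA : aeval A P = 0) (v : VM A) :
    act P A hA (AdjoinRoot.root P) v = (A *ᵥ v : ι → F) := by
  have : act P A hA (AdjoinRoot.root P) = Matrix.toLinAlgEquiv' A := by
    change act0 A X = _
    rw [act0_apply, aeval_X]
  rw [this]
  rfl

theorem act_of (P : F[X]) (A : Matrix ι ι F) (hA : aeval A P = 0) (c : F) (v : VM A) :
    act P A hA (algebraMap F (AdjoinRoot P) c) v = c • v := by
  have : act P A hA (algebraMap F (AdjoinRoot P) c) = algebraMap F (Module.End F (VM A)) c := by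
    change act0 A (C c) = _
    rw [act0_apply, aeval_C]
    exact (Matrix.toLinAlgEquiv' (R := F) (n := ι)).toAlgHom.commutes c
  rw [this]
  rfl

/-- the module structure over `F[X]/(P)`. -/
@[reducible]
noncomputable def modK (P : F[X]) (A : Matrix ι ι F) (hA : aeval A P = 0) : Module (AdjoinRoot P) (VM A) :=
  Module.compHom (VM A) (act P A hA)

variable {P : F[X]}

/-- **Two matrices killed by the same irreducible polynomial are conjugate.** -/
theorem exists_conj (hP : Irreducible P) (x y : GL ι F) (hx : aeval (x : Matrix ι ι F) P = 0)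
    (hy : aeval (y : Matrix ι ι F) P = 0) : ∃ g : GL ι F, g⁻¹ * x * g = y := by
  have := Fact.mk hP
  let _ := modK P (x : Matrix ι ι F) hx
  let _ := modK P (y : Matrix ι ι F) hy
  have tx : IsScalarTower F (AdjoinRoot P) (VM (x : Matrix ι ι F)) := by
    refine ⟨fun a k v => ?_⟩
    rw [Algebra.smul_def, mul_smul]
    exact act_of P _ hx a _
  have ty : IsScalarTower F (AdjoinRoot P) (VM (y : Matrix ι ι F)) := by
    refine ⟨fun a k v => ?_⟩
    rw [Algebra.smul_def, mul_smul]
    exact act_of P _ hy a _
  have fx : Module.Finite (AdjoinRoot P) (VM (x : Matrix ι ι F)) := Module.Finite.of_restrictScalars_finite F _ _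
  have fy : Module.Finite (AdjoinRoot P) (VM (y : Matrix ι ι F)) := Module.Finite.of_restrictScalars_finite F _ _
  have hfr : finrank (AdjoinRoot P) (VM (x : Matrix ι ι F)) = finrank (AdjoinRoot P) (VM (y : Matrix ι ι F)) := by
    have h1 := finrank_mul_finrank F (AdjoinRoot P) (VM (x : Matrix ι ι F))
    have h2 := finrank_mul_finrank F (AdjoinRoot P) (VM (y : Matrix ι ι F))
    rw [finrank_VM] at h1 h2
    have h3 : 0 < finrank F (AdjoinRoot P) := by
      have pb := AdjoinRoot.powerBasis hP.ne_zero
      rw [pb.finrank]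
      exact pb.dim_pos
    exact Nat.eq_of_mul_eq_mul_left h3 (h1.trans h2.symm)
  let T : VM (y : Matrix ι ι F) ≃ₗ[AdjoinRoot P] VM (x : Matrix ι ι F) := LinearEquiv.ofFinrankEq _ _ hfr.symm
  let T' : (ι → F) ≃ₗ[F] (ι → F) := T.restrictScalars F
  have hT0 : ∀ v : VM (y : Matrix ι ι F), T (act P _ hy (AdjoinRoot.root P) v) =
      act P _ hx (AdjoinRoot.root P) (T v) := fun v => T.map_smul (AdjoinRoot.root P) v
  have hT : ∀ v : ι → F, T' ((y : Matrix ι ι F) *ᵥ v) = (x : Matrix ι ι F) *ᵥ (T' v) := by
    intro v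
    exact (congrArg T (act_root P _ hy v)).symm.trans ((hT0 v).trans (act_root P _ hx (T v)))
  let M : Matrix ι ι F := LinearMap.toMatrix' T'.toLinearMap
  let M' : Matrix ι ι F := LinearMap.toMatrix' T'.symm.toLinearMap
  have hMM' : M * M' = 1 := by
    rw [← LinearMap.toMatrix'_comp, ← LinearMap.toMatrix'_id]
    congr 1
    ext v : 1
    simp
  have hM'M : M' * M = 1 := mul_eq_one_comm.1 hMM'
  let g : GL ι F := ⟨M, M', hMM', hM'M⟩
  refine ⟨g, ?_⟩
  have key : (x : Matrix ι ι F) * M = M * (y : Matrix ι ι F) := by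
    apply Matrix.toLin'.injective
    apply LinearMap.ext
    intro w
    rw [Matrix.toLin'_mul, Matrix.toLin'_mul, LinearMap.comp_apply, LinearMap.comp_apply, Matrix.toLin'_apply,
      Matrix.toLin'_apply y.1]
    have h1 : ∀ w, Matrix.toLin' M w = T' w := by
      intro w
      rw [Matrix.toLin'_apply]
      exact LinearMap.toMatrix'_mulVec T'.toLinearMap w
    rw [h1, h1]
    exact (hT w).symm
  rw [mul_assoc, inv_mul_eq_iff_eq_mul]
  ext1
  rw [Units.val_mul, Units.val_mul]
  exact key

/-- **The centraliser of a matrix killed by an irreducible polynomial contains matrices of every nonzero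
determinant** (finite fields). -/
theorem exists_commute_det [Finite F] [Nonempty ι] (hP : Irreducible P) (x : GL ι F)
    (hx : aeval (x : Matrix ι ι F) P = 0) (t : F) (ht : t ≠ 0) :
    ∃ h : GL ι F, h * x = x * h ∧ (h : Matrix ι ι F).det = t := by
  classical
  have := Fact.mk hP
  let _ := modK P (x : Matrix ι ι F) hx
  have tx : IsScalarTower F (AdjoinRoot P) (VM (x : Matrix ι ι F)) := by
    refine ⟨fun a k v => ?_⟩
    rw [Algebra.smul_def, mul_smul]
    exact act_of P _ hx a _
  have fx : Module.Finite (AdjoinRoot P) (VM (x : Matrix ι ι F)) := Module.Finite.of_restrictScalars_finite F _ _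
  have fK : Module.Finite F (AdjoinRoot P) := (AdjoinRoot.powerBasis hP.ne_zero).finite
  have hfin : Finite (AdjoinRoot P) := Module.finite_of_finite F
  obtain ⟨u, hu⟩ := FiniteField.norm_surjective F (AdjoinRoot P) t
  let b := Module.finBasis (AdjoinRoot P) (VM (x : Matrix ι ι F))
  have hpos : 0 < finrank (AdjoinRoot P) (VM (x : Matrix ι ι F)) := by
    have h1 := finrank_mul_finrank F (AdjoinRoot P) (VM (x : Matrix ι ι F))
    rw [finrank_VM] at h1
    rcases Nat.eq_zero_or_pos (finrank (AdjoinRoot P) (VM (x : Matrix ι ι F))) with h | h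
    · rw [h, mul_zero] at h1
      exact absurd h1.symm Fintype.card_ne_zero
    · exact h
  let k0 : Fin (finrank (AdjoinRoot P) (VM (x : Matrix ι ι F))) := ⟨0, hpos⟩
  let f : VM (x : Matrix ι ι F) →ₗ[AdjoinRoot P] VM (x : Matrix ι ι F) :=
    Matrix.toLin b b (Matrix.diagonal (Function.update (fun _ => (1 : AdjoinRoot P)) k0 u))
  have hdetf : LinearMap.det f = u := by
    rw [LinearMap.det_toLin, Matrix.det_diagonal, Finset.prod_update_of_mem (Finset.mem_univ k0)]
    simp
  have hdetF : LinearMap.det (f.restrictScalars F) = t := by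
    rw [LinearMap.det_restrictScalars, hdetf, hu]
  let f' : (ι → F) →ₗ[F] (ι → F) := f.restrictScalars F
  have hdetf' : LinearMap.det f' = t := hdetF
  let M : Matrix ι ι F := LinearMap.toMatrix' f'
  have hdetM : M.det = t := by
    rw [LinearMap.det_toMatrix']
    exact hdetf'
  let h : GL ι F := Matrix.GeneralLinearGroup.mkOfDetNeZero M (by rw [hdetM]; exact ht)
  refine ⟨h, ?_, hdetM⟩
  have hf0 : ∀ v : VM (x : Matrix ι ι F), f (act P _ hx (AdjoinRoot.root P) v) =
      act P _ hx (AdjoinRoot.root P) (f v) := fun v => f.map_smul (AdjoinRoot.root P) v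
  have hf : ∀ v : ι → F, f' ((x : Matrix ι ι F) *ᵥ v) = (x : Matrix ι ι F) *ᵥ (f' v) := by
    intro v
    exact (congrArg f (act_root P _ hx v)).symm.trans ((hf0 v).trans (act_root P _ hx (f v)))
  have key : M * (x : Matrix ι ι F) = (x : Matrix ι ι F) * M := by
    apply Matrix.toLin'.injective
    apply LinearMap.ext
    intro w
    rw [Matrix.toLin'_mul, Matrix.toLin'_mul, LinearMap.comp_apply, LinearMap.comp_apply, Matrix.toLin'_apply x.1,
      Matrix.toLin'_apply x.1]
    have h1 : ∀ w, Matrix.toLin' M w = f' w := by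
      intro w
      rw [Matrix.toLin'_apply]
      exact LinearMap.toMatrix'_mulVec f' w
    rw [h1, h1]
    exact hf w
  ext1
  rw [Units.val_mul, Units.val_mul]
  exact key

/-- **Two matrices killed by the same irreducible polynomial are conjugate by a matrix of determinant one**
(finite fields). -/
theorem exists_conj_sl [Finite F] [Nonempty ι] (hP : Irreducible P) (x y : GL ι F)
    (hx : aeval (x : Matrix ι ι F) P = 0) (hy : aeval (y : Matrix ι ι F) P = 0) :
    ∃ g : GL ι F, (g : Matrix ι ι F).det = 1 ∧ g⁻¹ * x * g = y := by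
  obtain ⟨g, hg⟩ := exists_conj hP x y hx hy
  exact Conj.adjust x y g hg (exists_commute_det hP x hx)

end Cfsg.Agent.H956.ConjIrr
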