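import Mathlib
import Cfsg.Agent.H956.ConjIrr

/-!
# The determinant of a matrix killed by an irreducible polynomial
-/

set_option autoImplicit false

namespace Cfsg.Agent.H956.DetIrr

open Matrix Polynomial Module
open scoped MatrixGroups
open Cfsg.Agent.H956.ConjIrr

variable {ι : Type*} [Fintype ι] [DecidableEq ι] {F : Type*} [Field F] {P : F[X]}

theorem det_eq (hP : Irreducible P) (hm : P.Monic) (x : Matrix ι ι F) (hx : aeval x P = 0) :
    ∃ k : ℕ, P.natDegree * k = Fintype.card ι ∧ x.det = ((-1) ^ P.natDegree * P.coeff 0) ^ k := by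
  classical
  have := Fact.mk hP
  let _ := modK P x hx
  have tx : IsScalarTower F (AdjoinRoot P) (VM x) := by
    refine ⟨fun a k v => ?_⟩
    rw [Algebra.smul_def, mul_smul]
    exact act_of P _ hx a _
  have fx : Module.Finite (AdjoinRoot P) (VM x) := Module.Finite.of_restrictScalars_finite F _ _
  have fK : Module.Finite F (AdjoinRoot P) := (AdjoinRoot.powerBasis hP.ne_zero).finite
  refine ⟨finrank (AdjoinRoot P) (VM x), ?_, ?_⟩
  · have h1 := finrank_mul_finrank F (AdjoinRoot P) (VM x)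
    rw [finrank_VM, (AdjoinRoot.powerBasis hP.ne_zero).finrank, AdjoinRoot.powerBasis_dim] at h1
    exact h1
  · let f : VM x →ₗ[AdjoinRoot P] VM x := LinearMap.lsmul (AdjoinRoot P) (VM x) (AdjoinRoot.root P)
    have hdetf : LinearMap.det f = (AdjoinRoot.root P) ^ finrank (AdjoinRoot P) (VM x) := by
      have h1 : f = (AdjoinRoot.root P) • (LinearMap.id : VM x →ₗ[AdjoinRoot P] VM x) := by
        ext v
        rfl
      rw [h1, LinearMap.det_smul, LinearMap.det_id, mul_one]
    have hnorm : Algebra.norm F (AdjoinRoot.root P) = (-1) ^ P.natDegree * P.coeff 0 := by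
      have h1 := Algebra.PowerBasis.norm_gen_eq_coeff_zero_minpoly (AdjoinRoot.powerBasis hP.ne_zero)
      rw [AdjoinRoot.powerBasis_gen, AdjoinRoot.powerBasis_dim, AdjoinRoot.minpoly_root hP.ne_zero, hm.leadingCoeff,
        inv_one, C_1, mul_one] at h1
      exact h1
    have hdetF : LinearMap.det (f.restrictScalars F) =
        ((-1) ^ P.natDegree * P.coeff 0) ^ finrank (AdjoinRoot P) (VM x) := by
      rw [LinearMap.det_restrictScalars, hdetf, map_pow, hnorm]
    have h2 : (f.restrictScalars F : VM x →ₗ[F] VM x) = (Matrix.toLin' x : (ι → F) →ₗ[F] (ι → F)) := by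
      apply LinearMap.ext
      intro v
      exact act_root P x hx v
    rw [← hdetF, h2]
    exact (LinearMap.det_toLin' x).symm

/-- `x ^ r = z` with `X ^ r - z` irreducible. -/
theorem det_of_pow_eq {r : ℕ} (hr : r ≠ 0) {z : F} (hP : Irreducible (X ^ r - C z : F[X])) (x : Matrix ι ι F)
    (hx : x ^ r = z • (1 : Matrix ι ι F)) :
    ∃ k : ℕ, r * k = Fintype.card ι ∧ x.det = ((-1) ^ (r + 1) * z) ^ k := by
  obtain ⟨k, hk1, hk2⟩ := det_eq hP (monic_X_pow_sub_C z hr) x (by
    rw [map_sub, map_pow, aeval_X, aeval_C, hx, Algebra.algebraMap_eq_smul_one, sub_self])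
  rw [natDegree_X_pow_sub_C] at hk1 hk2
  refine ⟨k, hk1, ?_⟩
  rw [hk2]
  congr 1
  rw [coeff_sub, coeff_X_pow, coeff_C_zero, if_neg (fun h => hr h.symm), zero_sub, pow_succ]
  ring

theorem irreducible_sq {z : F} (h : ¬ IsSquare z) : Irreducible (X ^ 2 - C z : F[X]) := by
  apply (X_pow_sub_C_irreducible_iff_of_prime Nat.prime_two).2
  intro b hb
  exact h ⟨b, by rw [← hb, pow_two]⟩

end Cfsg.Agent.H956.DetIrr
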