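import Mathlib
import Cfsg.Agent.H956.CommEig
import Cfsg.Agent.H956.CDelgado
import Cfsg.Agent.H972.NSm
import Cfsg.Agent.ClassicalGeometry.GUBasic
import Cfsg.Agent.S0270
import Cfsg.Agent.S0279
import Cfsg.Agent.S0280
import Cfsg.Agent.S0283
import Cfsg.Agent.LieClassical.SympCenter
import Cfsg.Agent.LieClassical.SympCount

/-!
# S2242: nilpotent `p'`-subgroups of `PSU_3, PSU_4, PSU_5, PSp_4` (helper956)
-/

set_option autoImplicit false

namespace Cfsg.Agent.H956.OffClassical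

open Matrix Cfsg.Agent.H972 Cfsg.Agent.H956.CommEig

section General

/-- abelian centralizers modulo the centre -/
theorem comm_quot {H : Type*} [Group H] [Finite H] {r : ℕ} (hr : r.Prime)
    (hrZ : ¬ r ∣ Nat.card (Subgroup.center H))
    (hH : ∀ x : H, orderOf x = r → ∀ a b : H, a * x = x * a → b * x = x * b → a * b = b * a)
    (y : H ⧸ Subgroup.center H) (hy : orderOf y = r) (a b : H ⧸ Subgroup.center H) (ha : a * y = y * a)
    (hb : b * y = y * b) : a * b = b * a := by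
  classical
  have : Fact r.Prime := ⟨hr⟩
  let π : H →* H ⧸ Subgroup.center H := QuotientGroup.mk' (Subgroup.center H)
  have hπs : Function.Surjective π := QuotientGroup.mk'_surjective _
  have hker : ∀ g : H, π g = 1 ↔ g ∈ Subgroup.center H := fun g => QuotientGroup.eq_one_iff g
  have hz : ∀ z ∈ Subgroup.center H, z ^ r = 1 → z = 1 := by
    intro z hzc hzr
    by_contra hne
    apply hrZ
    have h1 : orderOf z = r := orderOf_eq_prime hzr hne
    have h2 : orderOf (⟨z, hzc⟩ : Subgroup.center H) ∣ Nat.card (Subgroup.center H) := orderOf_dvd_natCard _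
    rwa [Subgroup.orderOf_mk, h1] at h2
  obtain ⟨x₀, hx₀⟩ := hπs y
  obtain ⟨k, hk1, hk2⟩ := Nat.chineseRemainder ((Nat.Prime.coprime_iff_not_dvd hr).2 hrZ) 1 0
  set x := x₀ ^ k with hx
  have hπx : π x = y := by
    rw [hx, map_pow, hx₀]
    have h1 : y ^ k = y ^ 1 := by
      rw [pow_eq_pow_iff_modEq, hy]
      exact hk1
    rw [h1, pow_one]
  have hxr : x ^ r = 1 := by
    have h1 : x₀ ^ r ∈ Subgroup.center H := by
      rw [← hker, map_pow, hx₀, ← hy, pow_orderOf_eq_one]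
    have h2 : Nat.card (Subgroup.center H) ∣ k := (Nat.modEq_zero_iff_dvd).1 hk2
    obtain ⟨m, hm⟩ := h2
    have h3 : (x₀ ^ r) ^ Nat.card (Subgroup.center H) = 1 := by
      have h4 : (⟨x₀ ^ r, h1⟩ : Subgroup.center H) ^ Nat.card (Subgroup.center H) = 1 := pow_card_eq_one'
      exact congrArg Subtype.val h4
    rw [hx, ← pow_mul, hm, show Nat.card (Subgroup.center H) * m * r = r * Nat.card (Subgroup.center H) * m by ring, pow_mul, pow_mul, h3, one_pow]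
  have hx1 : x ≠ 1 := by
    intro h
    rw [h, map_one] at hπx
    rw [← hπx, orderOf_one] at hy
    exact hr.one_lt.ne hy
  have hxo : orderOf x = r := orderOf_eq_prime hxr hx1
  have lift : ∀ g : H, π g * y = y * π g → g * x = x * g := by
    intro g hg
    have h2 : g * x * g⁻¹ * x⁻¹ ∈ Subgroup.center H := by
      rw [← hker, map_mul, map_mul, map_mul, map_inv, map_inv, hπx, hg]
      group
    have h3 : (g * x * g⁻¹ * x⁻¹) ^ r = 1 := by
      have h4 : g * x * g⁻¹ = (g * x * g⁻¹ * x⁻¹) * x := by group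
      have h5 : (g * x * g⁻¹) ^ r = 1 := by
        rw [conj_pow, hxr]; group
      rw [h4] at h5
      have h6 : Commute (g * x * g⁻¹ * x⁻¹) x := (Subgroup.mem_center_iff.1 h2 x).symm
      rwa [h6.mul_pow, hxr, mul_one] at h5
    have h4 := hz _ h2 h3
    have h6 : g * x = (g * x * g⁻¹ * x⁻¹) * (x * g) := by group
    rw [h6, h4, one_mul]
  obtain ⟨g, rfl⟩ := hπs a
  obtain ⟨h, rfl⟩ := hπs b
  rw [← map_mul, ← map_mul, hH x hxo g h (lift g ha) (lift h hb)]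

/-- abelian centralizers of the elements of order `p` -/
theorem smallAt_of_comm {G : Type*} [Group G] [Finite G] [IsSimpleGroup G] (hG : ¬ IsMulCommutative G) {p : ℕ}
    (hp : p.Prime) (h : ∀ x : G, orderOf x = p → ∀ a b : G, a * x = x * a → b * x = x * b → a * b = b * a) :
    NSm.SmallAt p G := by
  refine NSm.smallAt_of_cent hp fun x hx => ⟨Nat.card ↥(Subgroup.centralizer ({x} : Set G)), NSm.nle_card, ?_⟩
  refine CDelgado.card_sq_lt_of_comm hG _ ?_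
  intro a ha b hb
  exact h x hx a b (Subgroup.mem_centralizer_singleton_iff.1 ha) (Subgroup.mem_centralizer_singleton_iff.1 hb)

theorem not_comm_of_card {G : Type*} [Group G] [Finite G] [IsSimpleGroup G] {a b : ℕ} (ha : 1 < a) (hb : 1 < b)
    (h : Nat.card G = a * b) : ¬ IsMulCommutative G := by
  intro hc
  let _ : CommGroup G := { (inferInstance : Group G) with mul_comm := fun x y => hc.is_comm.comm x y }
  have h1 : (Nat.card G).Prime := IsSimpleGroup.prime_card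
  rw [h] at h1
  exact Nat.not_prime_mul ha.ne' hb.ne' h1

/-- the final step: `|G| = p ^ a * (M * K)`, `M < p ^ a * K`, abelian centralizers for the primes of `K` -/
theorem off_of_card {G : Type*} [Group G] [Finite G] [IsSimpleGroup G] {p a M K : ℕ} (hp : p.Prime) (ha : a ≠ 0)
    (hn : Nat.card G = p ^ a * (M * K)) (hM1 : 1 < M) (hMK : M < p ^ a * K)
    (h : ∀ r : ℕ, r.Prime → r ∣ K → ∀ x : G, orderOf x = r → ∀ a b : G, a * x = x * a → b * x = x * b →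
      a * b = b * a) : NSm.SmallOff p G := by
  have hK0 : K ≠ 0 := by
    rintro rfl
    rw [mul_zero] at hMK
    omega
  have hpa : 1 < p ^ a := Nat.one_lt_pow ha hp.one_lt
  have hG : ¬ IsMulCommutative G := not_comm_of_card hpa
    (lt_of_lt_of_le hM1 (Nat.le_mul_of_pos_right M (Nat.pos_of_ne_zero hK0))) hn
  refine NSm.smallOff_of_smallAt hp K.primeFactors a M K hn
    (fun r hr hrK => Nat.mem_primeFactors.2 ⟨hr, hrK, hK0⟩) ?_ ?_
  · rw [hn, sq]
    calc M * M < M * (p ^ a * K) := Nat.mul_lt_mul_of_pos_left hMK (by omega)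
      _ = _ := by ring
  · intro r hrS hr
    exact smallAt_of_comm hG hr (h r hr (Nat.dvd_of_mem_primeFactors hrS))

end General

section PSp

variable {F : Type*} [Field F] [Fintype F]

theorem cast_ne_zero' {r : ℕ} (hr : r.Prime) (hrq : ¬ r ∣ Fintype.card F) : (r : F) ≠ 0 := by
  intro h
  obtain ⟨p, hp⟩ := CharP.exists F
  obtain ⟨n, hpp, hn⟩ := FiniteField.card F p
  have h1 : p ∣ r := (CharP.cast_eq_zero_iff F p r).1 h
  have h2 : p = r := (Nat.prime_dvd_prime_iff_eq hpp hr).1 h1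
  apply hrq
  rw [hn, ← h2]
  exact dvd_pow_self p n.ne_zero

/-- the order of `q` modulo an odd prime divisor of `q ^ 2 + 1` is four -/
theorem orderOf_four {r : ℕ} (hr : r.Prime) (h2 : r ≠ 2) {t : ZMod r} (h : t ^ 2 = -1) : orderOf t = 4 := by
  have : Fact r.Prime := ⟨hr⟩
  have h3 : (4 : ℕ) = 2 ^ (1 + 1) := by norm_num
  rw [h3]
  refine orderOf_eq_prime_pow ?_ ?_
  · rw [pow_one, h]
    intro h4
    have h5 : ((2 : ℕ) : ZMod r) = 0 := by
      have : (2 : ZMod r) = 1 - (-1) := by ring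
      rw [Nat.cast_two, this, h4, sub_self]
    rw [ZMod.natCast_eq_zero_iff] at h5
    exact h2 ((Nat.prime_dvd_prime_iff_eq hr Nat.prime_two).1 h5)
  · rw [show (2 : ℕ) ^ (1 + 1) = 2 * 2 by norm_num, pow_mul, h]
    ring

/-- elements of order `r | q ^ 2 + 1` of `Sp_4(q)` -/
theorem comm_sp {r : ℕ} (hr : r.Prime) (h2 : r ≠ 2) (h : r ∣ Fintype.card F ^ 2 + 1)
    (x : Matrix.symplecticGroup (Fin 2) F) (hx : orderOf x = r) (a b : Matrix.symplecticGroup (Fin 2) F)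
    (ha : a * x = x * a) (hb : b * x = x * b) : a * b = b * a := by
  have : Fact r.Prime := ⟨hr⟩
  have hrq : ¬ r ∣ Fintype.card F := by
    intro h3
    have h4 : r ∣ Fintype.card F ^ 2 := h3.trans (dvd_pow_self _ two_ne_zero)
    exact hr.one_lt.ne' (Nat.dvd_one.1 ((Nat.dvd_add_right h4).1 h))
  have hord : orderOf (((Fintype.card F : ℕ) : ℤ) : ZMod r) = Fintype.card (Fin 2 ⊕ Fin 2) := by
    rw [Fintype.card_sum, Fintype.card_fin, Int.cast_natCast]
    refine orderOf_four hr h2 ?_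
    have h3 : ((Fintype.card F ^ 2 + 1 : ℕ) : ZMod r) = 0 := (ZMod.natCast_eq_zero_iff _ _).2 h
    rw [Nat.cast_add, Nat.cast_pow, Nat.cast_one] at h3
    exact eq_neg_of_add_eq_zero_left h3
  apply Subtype.ext
  refine comm_of_orbit (M := (x : Matrix (Fin 2 ⊕ Fin 2) (Fin 2 ⊕ Fin 2) F)) hr (cast_ne_zero' hr hrq) ?_ ?_
    ((Fintype.card F : ℕ) : ℤ) hord ?_ (congrArg Subtype.val ha) (congrArg Subtype.val hb)
  · have h3 : x ^ r = 1 := by rw [← hx, pow_orderOf_eq_one]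
    exact (SubmonoidClass.coe_pow x r).symm.trans (congrArg Subtype.val h3)
  · intro h3
    have h4 : x = 1 := Subtype.ext h3
    rw [h4, orderOf_one] at hx
    exact hr.one_lt.ne hx
  · intro μ hμ
    have h3 := hμ.card
    rw [zpow_natCast, Units.val_pow_eq_pow_val]
    exact h3

/-- **`PSp_4(q)`** -/
theorem off_PSp {F : Type*} [Field F] [Fintype F] (h3 : 3 ≤ Fintype.card F) {p : ℕ} (hp : p.Prime)
    (hc : CharP F p) : NSm.SmallOff p (Cfsg.PSp 2 F) := by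
  classical
  have hs := S0270.result (F := F) 2 le_rfl (fun _ => h3)
  obtain ⟨n, -, hn⟩ := FiniteField.card F p
  set q := Fintype.card F with hq
  have hcard : Nat.gcd 2 (q - 1) * Nat.card (Cfsg.PSp 2 F) = q ^ 4 * ((q ^ 2 - 1) * (q ^ 4 - 1)) := by
    have h4 := LieClassical.SympCenter.card_center (F := F) (m := 2) (by norm_num)
    have h5 := Subgroup.card_eq_card_quotient_mul_card_subgroup
      (Subgroup.center (Matrix.symplecticGroup (Fin 2) F))
    rw [LieClassical.SympCount.card_symplecticGroup, h4] at h5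
    change _ = Nat.card (Cfsg.PSp 2 F) * _ at h5
    rw [mul_comm, ← h5, ← hq]
    simp [Finset.prod_range_succ]
  -- `q ^ 2 + 1 = g K`
  obtain ⟨K, hK⟩ : Nat.gcd 2 (q - 1) ∣ q ^ 2 + 1 := by
    rcases Nat.even_or_odd q with he | ho
    · have : Nat.gcd 2 (q - 1) = 1 := by
        have h5 : Odd (q - 1) := by
          obtain ⟨k, hk⟩ := he
          exact ⟨k - 1, by omega⟩
        exact Nat.coprime_two_left.2 h5
      rw [this]
      exact one_dvd _
    · refine (Nat.gcd_dvd_left _ _).trans ?_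
      exact (Odd.add_odd (ho.pow) odd_one).two_dvd
  have hg : Nat.gcd 2 (q - 1) = 1 ∨ Nat.gcd 2 (q - 1) = 2 :=
    (Nat.dvd_prime Nat.prime_two).1 (Nat.gcd_dvd_left _ _)
  have hg0 : 0 < Nat.gcd 2 (q - 1) := by omega
  have hK2 : ¬ 2 ∣ K := by
    rintro ⟨m, hm⟩
    rcases Nat.even_or_odd q with he | ho
    · have : Odd (q ^ 2 + 1) := (he.pow_of_ne_zero two_ne_zero).add_one
      rw [hK, hm] at this
      exact (Nat.not_even_iff_odd.2 this) ⟨Nat.gcd 2 (q - 1) * m, by ring⟩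
    · have hg2 : Nat.gcd 2 (q - 1) = 2 := by
        obtain ⟨k, hk⟩ := ho
        rw [hk]
        simp
      obtain ⟨k, hk⟩ := ho
      rw [hg2, hm, hk] at hK
      have : (2 * k + 1) ^ 2 + 1 = 4 * (k * k + k) + 2 := by ring
      omega
  have hK0 : 0 < K := Nat.pos_of_ne_zero (by rintro rfl; exact hK2 (dvd_zero 2))
  have hq4 : q ^ 4 - 1 = (q ^ 2 - 1) * (q ^ 2 + 1) := by
    have h5 : 1 ≤ q ^ 2 := Nat.one_le_pow _ _ (by omega)
    obtain ⟨m, hm⟩ := Nat.exists_eq_add_of_le h5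
    rw [show q ^ 4 = (q ^ 2) ^ 2 by ring, hm]
    have : (1 + m) ^ 2 = 1 + (m * (1 + m + 1)) := by ring
    rw [this]
    simp
  have hn' : Nat.card (Cfsg.PSp 2 F) = p ^ ((n : ℕ) * 4) * ((q ^ 2 - 1) ^ 2 * K) := by
    apply Nat.eq_of_mul_eq_mul_left hg0
    rw [hcard, hq4, hK, pow_mul, ← hn]
    ring
  have hq2 : 9 ≤ q ^ 2 := by nlinarith
  refine off_of_card hp (by positivity) hn' ?_ ?_ ?_
  · have : 1 < q ^ 2 - 1 := by omega
    exact Nat.one_lt_pow two_ne_zero this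
  · rw [pow_mul, ← hn]
    calc (q ^ 2 - 1) ^ 2 < (q ^ 2) ^ 2 := Nat.pow_lt_pow_left (by omega) two_ne_zero
      _ = q ^ 4 := by ring
      _ ≤ q ^ 4 * K := Nat.le_mul_of_pos_right _ hK0
  · intro r hr hrK
    have hr2 : r ≠ 2 := by
      rintro rfl
      exact hK2 hrK
    refine comm_quot hr ?_ (comm_sp hr hr2 ?_)
    · rw [LieClassical.SympCenter.card_center (by norm_num)]
      intro h5
      have h6 : r ∣ 2 := h5.trans (Nat.gcd_dvd_left _ _)
      exact hr2 ((Nat.prime_dvd_prime_iff_eq hr Nat.prime_two).1 h6)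
    · rw [← hq, hK]
      exact hrK.trans (dvd_mul_left _ _)

end PSp

section PSU

variable {F : Type*} [Field F] [Fintype F] {q : ℕ}

/-- the eigenvalues of a unitary matrix are closed under `μ ↦ μ ^ (-q)` -/
theorem ev_su {n : ℕ} (hF : Fintype.card F = q ^ 2) (x : Cfsg.SU n F q) {K : Type*} [Field K] [Algebra F K]
    {μ : K} (h : Ev ((x : Matrix.SpecialLinearGroup (Fin n) F) : Matrix (Fin n) (Fin n) F) μ) :
    Ev ((x : Matrix.SpecialLinearGroup (Fin n) F) : Matrix (Fin n) (Fin n) F) (μ ^ q)⁻¹ := by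
  classical
  obtain ⟨p, hp⟩ := CharP.exists F
  obtain ⟨k, hpp, hk⟩ := FiniteField.card F p
  have hdvd : q ∣ p ^ (k : ℕ) := by
    rw [← hk, hF]
    exact dvd_pow_self q two_ne_zero
  obtain ⟨j, -, hj⟩ := (Nat.dvd_prime_pow hpp).1 hdvd
  have : Fact p.Prime := ⟨hpp⟩
  have : CharP K p := charP_of_injective_algebraMap (algebraMap F K).injective p
  have : ExpChar F p := ExpChar.prime hpp
  have : ExpChar K p := ExpChar.prime hpp
  have hq := ClassicalGeometry.GUBasic.two_le hF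
  set A : Matrix (Fin n) (Fin n) F := ((x : Matrix.SpecialLinearGroup (Fin n) F) : Matrix (Fin n) (Fin n) F) with hA
  have h1 : Aᵀ * A.map (fun x => x ^ q) = 1 := ClassicalGeometry.GUBasic.transpose_mul_map (by omega) x.2
  have h2 : (A.map (fun x => x ^ q))ᵀ * A = 1 := by
    have h3 := congrArg Matrix.transpose h1
    rwa [Matrix.transpose_mul, Matrix.transpose_transpose, Matrix.transpose_one] at h3
  have h3 : A * (A.map (fun x => x ^ q))ᵀ = 1 := mul_eq_one_comm.1 h2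
  have h4 := h.frob p j
  rw [← hj] at h4
  exact h4.transpose.inv h3

/-- elements of order `r` of `SU_n(q)`, `-q` of order `n` modulo `r` -/
theorem comm_su {n : ℕ} (hF : Fintype.card F = q ^ 2) {r : ℕ} (hr : r.Prime) (hrq : ¬ r ∣ q)
    (hord : orderOf ((-(q : ℤ) : ℤ) : ZMod r) = n)
    (x : Cfsg.SU n F q) (hx : orderOf x = r) (a b : Cfsg.SU n F q)
    (ha : a * x = x * a) (hb : b * x = x * b) : a * b = b * a := by
  have : Fact r.Prime := ⟨hr⟩
  have hrF : (r : F) ≠ 0 := by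
    refine cast_ne_zero' hr ?_
    rw [hF]
    exact fun h => hrq (hr.dvd_of_dvd_pow h)
  apply Subtype.ext
  apply Subtype.ext
  refine comm_of_orbit (M := ((x : Matrix.SpecialLinearGroup (Fin n) F) : Matrix (Fin n) (Fin n) F)) hr hrF ?_ ?_
    (-(q : ℤ)) (by rw [hord, Fintype.card_fin]) ?_ (congrArg (fun y : Cfsg.SU n F q => y.1.1) ha)
    (congrArg (fun y : Cfsg.SU n F q => y.1.1) hb)
  · have h3 : x ^ r = 1 := by rw [← hx, pow_orderOf_eq_one]
    have h4 : (x : Matrix.SpecialLinearGroup (Fin n) F) ^ r = 1 := by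
      rw [← Subgroup.coe_pow, h3]; rfl
    rw [← Matrix.SpecialLinearGroup.coe_pow, h4]
    rfl
  · intro h3
    have h4 : x = 1 := Subtype.ext (Subtype.ext h3)
    rw [h4, orderOf_one] at hx
    exact hr.one_lt.ne hx
  · intro μ hμ
    have h3 := ev_su hF x hμ
    rw [_root_.zpow_neg, zpow_natCast, Units.val_inv_eq_inv_val, Units.val_pow_eq_pow_val]
    exact h3

theorem not_dvd_q {r : ℕ} (hr : r.Prime) {n : ℕ} (hn : n ≠ 0) (h : orderOf ((-(q : ℤ) : ℤ) : ZMod r) = n) :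
    ¬ r ∣ q := by
  have : Fact r.Prime := ⟨hr⟩
  intro h1
  have h2 : ((q : ℕ) : ZMod r) = 0 := (ZMod.natCast_eq_zero_iff _ _).2 h1
  have h3 : ((-(q : ℤ) : ℤ) : ZMod r) = 0 := by
    rw [Int.cast_neg, Int.cast_natCast, h2, neg_zero]
  rw [h3] at h
  have h4 : (0 : ZMod r) ^ n = 1 := by rw [← h, pow_orderOf_eq_one]
  rw [zero_pow hn] at h4
  exact zero_ne_one h4

/-- the general row -/
theorem off_su {n : ℕ} (hF : Fintype.card F = q ^ 2) (hn : 3 ≤ n) (hnq : ¬ (n = 3 ∧ q = 2)) {p : ℕ} (hp : p.Prime)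
    {a M K : ℕ} (ha : a ≠ 0) (hcard : Nat.card (Cfsg.PSU n F q) = p ^ a * (M * K)) (hM1 : 1 < M)
    (hMK : M < p ^ a * K)
    (h : ∀ r : ℕ, r.Prime → r ∣ K → ¬ r ∣ n ∧ orderOf ((-(q : ℤ) : ℤ) : ZMod r) = n) :
    NSm.SmallOff p (Cfsg.PSU n F q) := by
  have hs := S0283.result hF n hn hnq
  refine off_of_card hp ha hcard hM1 hMK ?_
  intro r hr hrK
  obtain ⟨h1, h2⟩ := h r hr hrK
  refine comm_quot hr ?_ (comm_su hF hr (not_dvd_q hr (by omega) h2) h2)
  rw [S0279.result hF n hn]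
  exact fun h3 => h1 (h3.trans (Nat.gcd_dvd_left _ _))

theorem card_psu_three (hF : Fintype.card F = q ^ 2) :
    Nat.gcd 3 (q + 1) * Nat.card (Cfsg.PSU 3 F q) = q ^ 3 * ((q ^ 2 - 1) * (q ^ 3 + 1)) := by
  have h := S0280.result hF 3 (by norm_num)
  simp only [Finset.prod_range_succ, Finset.prod_range_zero, Nat.even_iff] at h
  norm_num at h
  have h1 : 0 < q + 1 := by omega
  apply Nat.eq_of_mul_eq_mul_left h1
  calc _ = Nat.gcd 3 (q + 1) * ((q + 1) * Nat.card (Cfsg.PSU 3 F q)) := by ring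
    _ = _ := h
    _ = _ := by ring

theorem card_psu_four (hF : Fintype.card F = q ^ 2) :
    Nat.gcd 4 (q + 1) * Nat.card (Cfsg.PSU 4 F q) = q ^ 6 * ((q ^ 2 - 1) * (q ^ 3 + 1) * (q ^ 4 - 1)) := by
  have h := S0280.result hF 4 (by norm_num)
  simp only [Finset.prod_range_succ, Finset.prod_range_zero, Nat.even_iff] at h
  norm_num at h
  have h1 : 0 < q + 1 := by omega
  apply Nat.eq_of_mul_eq_mul_left h1
  calc _ = Nat.gcd 4 (q + 1) * ((q + 1) * Nat.card (Cfsg.PSU 4 F q)) := by ring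
    _ = _ := h
    _ = _ := by ring

theorem card_psu_five (hF : Fintype.card F = q ^ 2) :
    Nat.gcd 5 (q + 1) * Nat.card (Cfsg.PSU 5 F q) =
      q ^ 10 * ((q ^ 2 - 1) * (q ^ 3 + 1) * (q ^ 4 - 1) * (q ^ 5 + 1)) := by
  have h := S0280.result hF 5 (by norm_num)
  simp only [Finset.prod_range_succ, Finset.prod_range_zero, Nat.even_iff] at h
  norm_num at h
  have h1 : 0 < q + 1 := by omega
  apply Nat.eq_of_mul_eq_mul_left h1
  calc _ = Nat.gcd 5 (q + 1) * ((q + 1) * Nat.card (Cfsg.PSU 5 F q)) := by ring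
    _ = _ := h
    _ = _ := by ring

/-- `q = p ^ j` -/
theorem exists_pow (hF : Fintype.card F = q ^ 2) {p : ℕ} (hp : p.Prime) (hc : CharP F p) :
    ∃ j : ℕ, j ≠ 0 ∧ q = p ^ j := by
  obtain ⟨k, hpp, hk⟩ := FiniteField.card F p
  have hdvd : q ∣ p ^ (k : ℕ) := by
    rw [← hk, hF]
    exact dvd_pow_self q two_ne_zero
  obtain ⟨j, -, hj⟩ := (Nat.dvd_prime_pow hp).1 hdvd
  refine ⟨j, ?_, hj⟩
  rintro rfl
  have := ClassicalGeometry.GUBasic.two_le hF
  rw [hj, pow_zero] at this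
  omega

theorem card_sub {q k : ℕ} (hq : 2 ≤ q) (hk : k ≠ 0) : 1 < q ^ (2 * k) - 1 := by
  have h1 : 4 ≤ q ^ (2 * k) := by
    calc 4 = 2 ^ 2 := by norm_num
      _ ≤ q ^ 2 := Nat.pow_le_pow_left hq 2
      _ ≤ q ^ (2 * k) := Nat.pow_le_pow_right (by omega) (by omega)
  omega

/-- **`PSU_3(q)`** -/
theorem off_three (hF : Fintype.card F = q ^ 2) (hq2 : q ≠ 2) {p : ℕ} (hp : p.Prime) (hc : CharP F p) :
    NSm.SmallOff p (Cfsg.PSU 3 F q) := by
  obtain ⟨j, hj0, hj⟩ := exists_pow hF hp hc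
  have hq3 : 3 ≤ q := by
    have := ClassicalGeometry.GUBasic.two_le hF
    omega
  obtain ⟨m, rfl⟩ : ∃ m, q = m + 1 := ⟨q - 1, by omega⟩
  -- `Φ = q² - q + 1 = m² + m + 1`
  have hΦ : (m + 1) ^ 3 + 1 = (m + 1 + 1) * (m ^ 2 + m + 1) := by ring
  have hsq : (m + 1) ^ 2 - 1 = m * (m + 2) := by
    have : (m + 1) ^ 2 = m * (m + 2) + 1 := by ring
    omega
  have hd : Nat.gcd 3 (m + 1 + 1) = 1 ∨ Nat.gcd 3 (m + 1 + 1) = 3 :=
    (Nat.dvd_prime Nat.prime_three).1 (Nat.gcd_dvd_left _ _)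
  have hdd : Nat.gcd 3 (m + 1 + 1) ∣ m ^ 2 + m + 1 := by
    rcases hd with h | h
    · rw [h]; exact one_dvd _
    · rw [h]
      have h1 : 3 ∣ m + 1 + 1 := by rw [← h]; exact Nat.gcd_dvd_right _ _
      obtain ⟨k, hk⟩ := h1
      have h2 : m = 3 * (k - 1) + 1 := by omega
      rw [h2]
      exact ⟨3 * (k - 1) ^ 2 + 3 * (k - 1) + 1, by ring⟩
  obtain ⟨K, hK⟩ := hdd
  have hd0 : 0 < Nat.gcd 3 (m + 1 + 1) := by omega
  have hK3 : ¬ 3 ∣ K := by
    rintro ⟨l, hl⟩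
    rcases hd with h | h
    · rw [h, hl] at hK
      have h1 : ¬ 3 ∣ m + 1 + 1 := by
        intro h1
        have h2 : 3 ∣ Nat.gcd 3 (m + 1 + 1) := Nat.dvd_gcd dvd_rfl h1
        rw [h] at h2
        omega
      have h3 : m % 3 = 0 ∨ m % 3 = 2 := by omega
      have h4 : (m ^ 2 + m + 1) % 3 = 1 := by
        rcases h3 with h3 | h3 <;> simp [Nat.pow_mod, Nat.add_mod, h3]
      omega
    · rw [h, hl] at hK
      have h1 : 3 ∣ m + 1 + 1 := by rw [← h]; exact Nat.gcd_dvd_right _ _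
      have h2 : m % 9 = 1 ∨ m % 9 = 4 ∨ m % 9 = 7 := by omega
      have h4 : (m ^ 2 + m + 1) % 9 = 3 := by
        rcases h2 with h2 | h2 | h2 <;> simp [Nat.pow_mod, Nat.add_mod, h2]
      omega
  have hK2 : 2 ≤ K := by
    have h1 : 7 ≤ m ^ 2 + m + 1 := by nlinarith
    rcases hd with h | h <;> rw [h] at hK <;> omega
  have hcard : Nat.card (Cfsg.PSU 3 F (m + 1)) = p ^ (j * 3) * (((m + 1) ^ 2 - 1) * (m + 1 + 1) * K) := by
    apply Nat.eq_of_mul_eq_mul_left hd0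
    rw [card_psu_three hF, hΦ, hK, pow_mul, ← hj]
    ring
  refine off_su hF le_rfl (by omega) hp (by omega) hcard ?_ ?_ ?_
  · have h1 := card_sub (q := m + 1) (k := 1) (by omega) one_ne_zero
    rw [mul_one] at h1
    exact h1.trans_le (Nat.le_mul_of_pos_right _ (by omega))
  · rw [pow_mul, ← hj, hsq]
    calc m * (m + 2) * (m + 1 + 1) < (m + 1) ^ 3 * 2 := by nlinarith
      _ ≤ (m + 1) ^ 3 * K := Nat.mul_le_mul_left _ hK2
  · intro r hr hrK
    have hr3 : r ≠ 3 := by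
      rintro rfl
      exact hK3 hrK
    refine ⟨fun h => hr3 ((Nat.prime_dvd_prime_iff_eq hr Nat.prime_three).1 h), ?_⟩
    have : Fact r.Prime := ⟨hr⟩
    have : Fact (Nat.Prime 3) := ⟨Nat.prime_three⟩
    have h1 : ((m ^ 2 + m + 1 : ℕ) : ZMod r) = 0 :=
      (ZMod.natCast_eq_zero_iff _ _).2 (hrK.trans (hK ▸ dvd_mul_left _ _))
    push_cast at h1
    apply orderOf_eq_prime
    · push_cast
      have h2 : (-((m : ZMod r) + 1)) ^ 3 - 1 = -((m : ZMod r) + 2) * ((m : ZMod r) ^ 2 + m + 1) := by ring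
      rw [h1, mul_zero, sub_eq_zero] at h2
      exact h2
    · push_cast
      intro h2
      have h3 : (m : ZMod r) = -2 := by linear_combination -h2
      rw [h3] at h1
      have h4 : ((3 : ℕ) : ZMod r) = 0 := by
        push_cast
        linear_combination h1
      rw [ZMod.natCast_eq_zero_iff] at h4
      exact hr3 ((Nat.prime_dvd_prime_iff_eq hr Nat.prime_three).1 h4)

/-- **`PSU_4(q)`** -/
theorem off_four (hF : Fintype.card F = q ^ 2) {p : ℕ} (hp : p.Prime) (hc : CharP F p) :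
    NSm.SmallOff p (Cfsg.PSU 4 F q) := by
  obtain ⟨j, hj0, hj⟩ := exists_pow hF hp hc
  have hq2 : 2 ≤ q := ClassicalGeometry.GUBasic.two_le hF
  have hq4 : q ^ 4 - 1 = (q ^ 2 - 1) * (q ^ 2 + 1) := by
    have h5 : 1 ≤ q ^ 2 := Nat.one_le_pow _ _ (by omega)
    obtain ⟨m, hm⟩ := Nat.exists_eq_add_of_le h5
    rw [show q ^ 4 = (q ^ 2) ^ 2 by ring, hm]
    have : (1 + m) ^ 2 = 1 + (m * (1 + m + 1)) := by ring
    rw [this]
    simp
  -- `q ^ 2 + 1 = g K`, `q ^ 2 - 1 = d e`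
  set d := Nat.gcd 4 (q + 1) with hd
  have hd0 : 0 < d := Nat.gcd_pos_of_pos_left _ (by norm_num)
  obtain ⟨e, he⟩ : d ∣ q ^ 2 - 1 := by
    refine (Nat.gcd_dvd_right 4 (q + 1)).trans ?_
    have := Nat.sq_sub_sq q 1
    rw [one_pow] at this
    rw [this]
    exact dvd_mul_right _ _
  have hsq : 3 ≤ q ^ 2 - 1 := by
    have : 2 ^ 2 ≤ q ^ 2 := Nat.pow_le_pow_left hq2 2
    omega
  have he0 : 0 < e := by
    rcases Nat.eq_zero_or_pos e with h | h
    · rw [h, mul_zero] at he; omega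
    · exact h
  obtain ⟨g, K, hK, hK2, hg⟩ : ∃ g K : ℕ, q ^ 2 + 1 = g * K ∧ ¬ 2 ∣ K ∧ ((g = 1 ∧ Even q) ∨ (g = 2 ∧ Odd q)) := by
    rcases Nat.even_or_odd q with h | h
    · refine ⟨1, q ^ 2 + 1, by ring, ?_, Or.inl ⟨rfl, h⟩⟩
      have h1 : Odd (q ^ 2 + 1) := (h.pow_of_ne_zero two_ne_zero).add_one
      intro h2
      exact (Nat.not_even_iff_odd.2 h1) (even_iff_two_dvd.2 h2)
    · obtain ⟨k, hk⟩ := h
      refine ⟨2, 2 * (k ^ 2 + k) + 1, by rw [hk]; ring, by omega, Or.inr ⟨rfl, ⟨k, hk⟩⟩⟩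
  have hK0 : 0 < K := Nat.pos_of_ne_zero (by rintro rfl; exact hK2 (dvd_zero 2))
  have hg0 : 0 < g := by rcases hg with h | h <;> omega
  have hcard : Nat.card (Cfsg.PSU 4 F q) = p ^ (j * 6) * ((e * (q ^ 3 + 1) * (q ^ 2 - 1) * g) * K) := by
    apply Nat.eq_of_mul_eq_mul_left hd0
    rw [card_psu_four hF, hq4, hK, pow_mul, ← hj]
    calc q ^ 6 * ((q ^ 2 - 1) * (q ^ 3 + 1) * ((q ^ 2 - 1) * (g * K))) =
        (q ^ 2 - 1) * (q ^ 6 * ((q ^ 3 + 1) * (q ^ 2 - 1) * (g * K))) := by ring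
      _ = d * e * (q ^ 6 * ((q ^ 3 + 1) * (q ^ 2 - 1) * (g * K))) := by rw [← he]
      _ = _ := by ring
  refine off_su hF (by norm_num) (by omega) hp (by omega) hcard ?_ ?_ ?_
  · calc 1 < q ^ 2 - 1 := by omega
      _ ≤ (q ^ 2 - 1) * (e * (q ^ 3 + 1) * g) := Nat.le_mul_of_pos_right _ (by positivity)
      _ = _ := by ring
  · rw [pow_mul, ← hj]
    -- multiply by `d g`
    have hdg : 0 < d * g := Nat.mul_pos hd0 hg0
    refine Nat.lt_of_mul_lt_mul_left (a := d * g) ?_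
    have e1 : d * g * (e * (q ^ 3 + 1) * (q ^ 2 - 1) * g) = g ^ 2 * ((q ^ 2 - 1) ^ 2 * (q ^ 3 + 1)) := by
      calc d * g * (e * (q ^ 3 + 1) * (q ^ 2 - 1) * g) = (d * e) * (g ^ 2 * ((q ^ 2 - 1) * (q ^ 3 + 1))) := by ring
        _ = (q ^ 2 - 1) * (g ^ 2 * ((q ^ 2 - 1) * (q ^ 3 + 1))) := by rw [← he]
        _ = _ := by ring
    have e2 : d * g * (q ^ 6 * K) = d * (q ^ 6 * (q ^ 2 + 1)) := by rw [hK]; ring
    rw [e1, e2]
    have h1 : (q ^ 2 - 1) ^ 2 ≤ q ^ 4 := by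
      calc (q ^ 2 - 1) ^ 2 ≤ (q ^ 2) ^ 2 := Nat.pow_le_pow_left (by omega) 2
        _ = q ^ 4 := by ring
    have h2 : (q ^ 2 - 1) ^ 2 * (q ^ 3 + 1) ≤ q ^ 7 + q ^ 4 := by
      calc (q ^ 2 - 1) ^ 2 * (q ^ 3 + 1) ≤ q ^ 4 * (q ^ 3 + 1) := Nat.mul_le_mul_right _ h1
        _ = _ := by ring
    have h3 : q ^ 6 * (q ^ 2 + 1) = q ^ 8 + q ^ 6 := by ring
    have h4 : q ^ 4 < q ^ 6 := Nat.pow_lt_pow_right (by omega) (by norm_num)
    rcases hg with ⟨h5, -⟩ | ⟨h5, h6⟩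
    · rw [h5, one_pow, one_mul]
      have h7 : q ^ 7 ≤ q ^ 8 := Nat.pow_le_pow_right (by omega) (by norm_num)
      calc (q ^ 2 - 1) ^ 2 * (q ^ 3 + 1) ≤ q ^ 7 + q ^ 4 := h2
        _ < q ^ 8 + q ^ 6 := by omega
        _ = q ^ 6 * (q ^ 2 + 1) := h3.symm
        _ ≤ d * (q ^ 6 * (q ^ 2 + 1)) := Nat.le_mul_of_pos_left _ hd0
    · rw [h5]
      have h7 : 2 ≤ d := by
        obtain ⟨k, hk⟩ := h6
        have h8 : 2 ∣ d := Nat.dvd_gcd (by norm_num) ⟨k + 1, by omega⟩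
        exact Nat.le_of_dvd hd0 h8
      have hq3 : 3 ≤ q := by
        obtain ⟨k, hk⟩ := h6
        omega
      have h8 : 3 * q ^ 7 ≤ q ^ 8 := by
        rw [pow_succ q 7, mul_comm]
        exact Nat.mul_le_mul_left _ hq3
      have h9 : q ^ 4 * 9 ≤ q ^ 6 := by
        rw [show (6 : ℕ) = 4 + 2 by norm_num, pow_add]
        exact Nat.mul_le_mul_left _ (by nlinarith)
      calc 2 ^ 2 * ((q ^ 2 - 1) ^ 2 * (q ^ 3 + 1)) ≤ 2 ^ 2 * (q ^ 7 + q ^ 4) := Nat.mul_le_mul_left _ h2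
        _ < 2 * (q ^ 8 + q ^ 6) := by omega
        _ = 2 * (q ^ 6 * (q ^ 2 + 1)) := by rw [h3]
        _ ≤ d * (q ^ 6 * (q ^ 2 + 1)) := Nat.mul_le_mul_right _ h7
  · intro r hr hrK
    have hr2 : r ≠ 2 := by
      rintro rfl
      exact hK2 hrK
    refine ⟨fun h => hr2 ?_, orderOf_four hr hr2 ?_⟩
    · have h1 : r ∣ 2 ^ 2 := by simpa using h
      exact (Nat.prime_dvd_prime_iff_eq hr Nat.prime_two).1 (hr.dvd_of_dvd_pow h1)
    · have h3 : ((q ^ 2 + 1 : ℕ) : ZMod r) = 0 :=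
        (ZMod.natCast_eq_zero_iff _ _).2 (hK ▸ hrK.trans (dvd_mul_left _ _))
      push_cast at h3 ⊢
      linear_combination h3

/-- **`PSU_5(q)`** -/
theorem off_five (hF : Fintype.card F = q ^ 2) {p : ℕ} (hp : p.Prime) (hc : CharP F p) :
    NSm.SmallOff p (Cfsg.PSU 5 F q) := by
  obtain ⟨j, hj0, hj⟩ := exists_pow hF hp hc
  have hq2 : 2 ≤ q := ClassicalGeometry.GUBasic.two_le hF
  have p5 : Nat.Prime 5 := by norm_num
  obtain ⟨m, rfl⟩ : ∃ m, q = m + 1 := ⟨q - 1, by omega⟩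
  have hm1 : 1 ≤ m := by omega
  -- `Φ = q⁴ - q³ + q² - q + 1 = m⁴ + 3 m³ + 4 m² + 2 m + 1`
  have hΦ : (m + 1) ^ 5 + 1 = (m + 1 + 1) * (m ^ 4 + 3 * m ^ 3 + 4 * m ^ 2 + 2 * m + 1) := by ring
  have hsq : (m + 1) ^ 2 - 1 = m * (m + 2) := by
    have : (m + 1) ^ 2 = m * (m + 2) + 1 := by ring
    omega
  have hq4 : (m + 1) ^ 4 - 1 = m * (m + 2) * (m ^ 2 + 2 * m + 2) := by
    have : (m + 1) ^ 4 = m * (m + 2) * (m ^ 2 + 2 * m + 2) + 1 := by ring
    omega
  have hd : Nat.gcd 5 (m + 1 + 1) = 1 ∨ Nat.gcd 5 (m + 1 + 1) = 5 :=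
    (Nat.dvd_prime p5).1 (Nat.gcd_dvd_left _ _)
  set Φ := m ^ 4 + 3 * m ^ 3 + 4 * m ^ 2 + 2 * m + 1 with hΦd
  have hdd : Nat.gcd 5 (m + 1 + 1) ∣ Φ := by
    rcases hd with h | h
    · rw [h]; exact one_dvd _
    · rw [h]
      have h1 : 5 ∣ m + 1 + 1 := by rw [← h]; exact Nat.gcd_dvd_right _ _
      have h2 : m % 5 = 3 := by omega
      have h3 : Φ % 5 = 0 := by
        rw [hΦd]
        simp [Nat.pow_mod, Nat.add_mod, Nat.mul_mod, h2]
      omega
  obtain ⟨K, hK⟩ := hdd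
  have hd0 : 0 < Nat.gcd 5 (m + 1 + 1) := by omega
  have hK5 : ¬ 5 ∣ K := by
    rintro ⟨l, hl⟩
    rcases hd with h | h
    · rw [h, hl] at hK
      have h1 : ¬ 5 ∣ m + 1 + 1 := by
        intro h1
        have h2 : 5 ∣ Nat.gcd 5 (m + 1 + 1) := Nat.dvd_gcd dvd_rfl h1
        rw [h] at h2
        omega
      have h3 : m % 5 = 0 ∨ m % 5 = 1 ∨ m % 5 = 2 ∨ m % 5 = 4 := by omega
      have h4 : Φ % 5 = 1 := by
        rw [hΦd]
        rcases h3 with h3 | h3 | h3 | h3 <;> simp [Nat.pow_mod, Nat.add_mod, Nat.mul_mod, h3]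
      omega
    · rw [h, hl] at hK
      have h1 : 5 ∣ m + 1 + 1 := by rw [← h]; exact Nat.gcd_dvd_right _ _
      have h2 : m % 25 = 3 ∨ m % 25 = 8 ∨ m % 25 = 13 ∨ m % 25 = 18 ∨ m % 25 = 23 := by omega
      have h4 : Φ % 25 = 5 := by
        rw [hΦd]
        rcases h2 with h2 | h2 | h2 | h2 | h2 <;> simp [Nat.pow_mod, Nat.add_mod, Nat.mul_mod, h2]
      omega
  have hcard : Nat.card (Cfsg.PSU 5 F (m + 1)) = p ^ (j * 10) *
      ((((m + 1) ^ 2 - 1) * ((m + 1) ^ 3 + 1) * ((m + 1) ^ 4 - 1) * (m + 1 + 1)) * K) := by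
    apply Nat.eq_of_mul_eq_mul_left hd0
    rw [card_psu_five hF, hΦ, hK, pow_mul, ← hj]
    ring
  refine off_su hF (by norm_num) (by omega) hp (by omega) hcard ?_ ?_ ?_
  · have h1 := card_sub (q := m + 1) (k := 1) (by omega) one_ne_zero
    have h2 := card_sub (q := m + 1) (k := 2) (by omega) (by norm_num)
    rw [mul_one] at h1
    rw [show 2 * 2 = 4 by norm_num] at h2
    calc 1 < (m + 1) ^ 2 - 1 := h1
      _ ≤ ((m + 1) ^ 2 - 1) * (((m + 1) ^ 3 + 1) * ((m + 1) ^ 4 - 1) * (m + 1 + 1)) :=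
        Nat.le_mul_of_pos_right _ (Nat.mul_pos (Nat.mul_pos (by omega) (by omega)) (by omega))
      _ = _ := by ring
  · rw [pow_mul, ← hj]
    have hdle : Nat.gcd 5 (m + 1 + 1) ≤ 5 := by omega
    refine Nat.lt_of_mul_lt_mul_left (a := 5) ?_
    have e2 : (m + 1) ^ 10 * Φ ≤ 5 * ((m + 1) ^ 10 * K) := by
      rw [hK]
      calc (m + 1) ^ 10 * (Nat.gcd 5 (m + 1 + 1) * K) ≤ (m + 1) ^ 10 * (5 * K) :=
            Nat.mul_le_mul_left _ (Nat.mul_le_mul_right _ hdle)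
        _ = _ := by ring
    refine lt_of_lt_of_le ?_ e2
    have h1 : (m + 1) ^ 2 - 1 ≤ (m + 1) ^ 2 := Nat.sub_le _ _
    have h2 : (m + 1) ^ 4 - 1 ≤ (m + 1) ^ 4 := Nat.sub_le _ _
    calc 5 * (((m + 1) ^ 2 - 1) * ((m + 1) ^ 3 + 1) * ((m + 1) ^ 4 - 1) * (m + 1 + 1)) ≤
        5 * ((m + 1) ^ 2 * ((m + 1) ^ 3 + 1) * (m + 1) ^ 4 * (m + 1 + 1)) := by gcongr
      _ = (m + 1) ^ 6 * (5 * ((m + 1) ^ 3 + 1) * (m + 1 + 1)) := by ring
      _ < (m + 1) ^ 6 * ((m + 1) ^ 4 * Φ) := by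
        apply Nat.mul_lt_mul_of_pos_left _ (by positivity)
        rw [hΦd]
        obtain ⟨k, rfl⟩ : ∃ k, m = k + 1 := ⟨m - 1, by omega⟩
        ring_nf
        linarith [Nat.zero_le k, Nat.zero_le (k ^ 2), Nat.zero_le (k ^ 3), Nat.zero_le (k ^ 4), Nat.zero_le (k ^ 5),
          Nat.zero_le (k ^ 6), Nat.zero_le (k ^ 7), Nat.zero_le (k ^ 8)]
      _ = _ := by ring
  · intro r hr hrK
    have hr5 : r ≠ 5 := by
      rintro rfl
      exact hK5 hrK
    refine ⟨fun h => hr5 ((Nat.prime_dvd_prime_iff_eq hr p5).1 h), ?_⟩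
    have : Fact r.Prime := ⟨hr⟩
    have : Fact (Nat.Prime 5) := ⟨p5⟩
    have h1 : ((Φ : ℕ) : ZMod r) = 0 :=
      (ZMod.natCast_eq_zero_iff _ _).2 (hrK.trans (hK ▸ dvd_mul_left _ _))
    rw [hΦd] at h1
    push_cast at h1
    apply orderOf_eq_prime
    · push_cast
      have h2 : (-((m : ZMod r) + 1)) ^ 5 - 1 =
          -((m : ZMod r) + 2) * ((m : ZMod r) ^ 4 + 3 * m ^ 3 + 4 * m ^ 2 + 2 * m + 1) := by ring
      rw [h1, mul_zero, sub_eq_zero] at h2
      exact h2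
    · push_cast
      intro h2
      have h3 : (m : ZMod r) = -2 := by linear_combination -h2
      rw [h3] at h1
      have h4 : ((5 : ℕ) : ZMod r) = 0 := by
        push_cast
        linear_combination h1
      rw [ZMod.natCast_eq_zero_iff] at h4
      exact hr5 ((Nat.prime_dvd_prime_iff_eq hr p5).1 h4)

/-- **task 440** -/
theorem off_PSU {F : Type*} [Field F] [Fintype F] {n q : ℕ} (hF : Fintype.card F = q ^ 2)
    (hn : n = 3 ∨ n = 4 ∨ n = 5) (hq : ¬ (n = 3 ∧ q = 2)) {p : ℕ} (hp : p.Prime) (hc : CharP F p) :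
    NSm.SmallOff p (Cfsg.PSU n F q) := by
  rcases hn with rfl | rfl | rfl
  · exact off_three hF (fun h => hq ⟨rfl, h⟩) hp hc
  · exact off_four hF hp hc
  · exact off_five hF hp hc

end PSU

end Cfsg.Agent.H956.OffClassical
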