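import Cfsg.Agent.H504.ZerosIso
import Cfsg.Agent.H809.SelfCentUni
import Cfsg.Agent.H926.CcSLa
import Cfsg.Agent.Lib.Zsigmondy
import Cfsg.Agent.H674.SUBlock
import Cfsg.Agent.S0279

/-!
# The Coxeter torus of `PSU_n(q)`, `n` an odd prime (S4895)

`exists_cc` : for an odd prime `n` and `(n, q) ≠ (3, 2)` the group `PSU_n(q)` has a `CC`-subgroup of
order `(q ^ n + 1) / ((q + 1) gcd(n, q + 1))`.
-/

set_option autoImplicit false

namespace Cfsg.Agent.H956.SUTorus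

open Matrix Polynomial Cfsg.Agent.H504.ZeroTI Cfsg.Agent.H674.SUTools Cfsg.Agent.H674.SUBlock
open Cfsg.Agent.H809.SelfCent Cfsg.Agent.LieClassical

/-- the numbers: `N = (q ^ n + 1) / (q + 1)`, `k = (q ^ (2 n) - 1) / (q ^ 2 - 1)`, `gcd(k, q ^ n + 1) = N` -/
theorem exists_num {n q : ℕ} (hn : Odd n) (hq : 2 ≤ q) : ∃ N k : ℕ, N * (q + 1) = q ^ n + 1 ∧
    k * (q ^ 2 - 1) = (q ^ 2) ^ n - 1 ∧ Nat.gcd k (q ^ n + 1) = N ∧ 0 < N := by
  obtain ⟨N, hN⟩ : q + 1 ∣ q ^ n + 1 := by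
    have := Odd.nat_add_dvd_pow_add_pow q 1 hn
    rwa [one_pow] at this
  have hN0 : 0 < N := by
    rcases Nat.eq_zero_or_pos N with h | h
    · rw [h, mul_zero] at hN; omega
    · exact h
  obtain ⟨j, hj⟩ := hn
  obtain ⟨W, hW⟩ : q ^ 2 - 1 ∣ q ^ (2 * j) - 1 := by
    have := Nat.sub_dvd_pow_sub_pow (q ^ 2) 1 j
    rwa [one_pow, ← pow_mul] at this
  have hs : q ^ 2 - 1 = (q + 1) * (q - 1) := by
    have := Nat.sq_sub_sq q 1
    rwa [one_pow] at this
  obtain ⟨s, rfl⟩ : ∃ s, q = s + 1 := ⟨q - 1, by omega⟩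
  have h1 : 1 ≤ (s + 1) ^ (2 * j) := Nat.one_le_pow _ _ (by omega)
  set M := (s + 1) * (s + 2) * W + 1 with hM
  have hMq : (s + 1) ^ n = M * s + 1 := by
    have h2 : (s + 1) ^ (2 * j) = (s + 2) * s * W + 1 := by
      rw [hs] at hW
      have : (s + 1 + 1) * (s + 1 - 1) = (s + 2) * s := by simp
      rw [this] at hW
      omega
    rw [hj, pow_succ, h2, hM]
    ring
  refine ⟨N, N * M, ?_, ?_, ?_, hN0⟩
  · rw [hN, mul_comm]
  · have h3 : ((s + 1) ^ 2) ^ n - 1 = ((s + 1) ^ n + 1) * ((s + 1) ^ n - 1) := by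
      rw [← pow_mul, mul_comm 2 n, pow_mul]
      have := Nat.sq_sub_sq ((s + 1) ^ n) 1
      rwa [one_pow] at this
    rw [h3, hN, hs, hMq]
    simp only [Nat.add_sub_cancel]
    ring
  · rw [hN, mul_comm (s + 1 + 1) N, Nat.gcd_mul_left]
    have h4 : Nat.gcd M (s + 1 + 1) = 1 := by
      rw [hM, show (s + 1) * (s + 2) * W + 1 = 1 + (s + 1 + 1) * ((s + 1) * W) by ring]
      simp
    rw [h4, mul_one]

variable {F : Type} [Field F] [Fintype F] {n q : ℕ}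

/-- an element of order a primitive prime divisor of `q ^ (2 n) - 1` -/
theorem exists_x (hF : Fintype.card F = q ^ 2) (hn : n.Prime) (hodd : Odd n) (h : ¬ (n = 3 ∧ q = 2)) :
    ∃ (r : ℕ) (x : Cfsg.SU n F q), r.Prime ∧ orderOf x = r ∧ r ∣ (q ^ 2) ^ n - 1 ∧ ¬ r ∣ q ^ 2 - 1 ∧
      ¬ r ∣ q ^ 2 ∧ r ∣ q ^ n + 1 := by
  have hq := ClassicalGeometry.GUBasic.two_le hF
  have hn3 : 3 ≤ n := by
    have h1 := hn.two_le
    rcases Nat.eq_or_lt_of_le h1 with h2 | h2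
    · rw [← h2] at hodd
      exact absurd hodd (by decide)
    · exact h2
  obtain ⟨r, hr, hm, -, hrq⟩ := Cfsg.Agent.Lib.Zsigmondy.exists_primitive (a := q) (n := 2 * n) hq (by omega)
    (by omega) (by omega)
  have h1 : r ∣ (q ^ 2) ^ n - 1 := by
    rw [← pow_mul]
    exact (hm _).2 dvd_rfl
  have h2 : ¬ r ∣ q ^ 2 - 1 := by
    rw [hm]
    intro h2
    have := Nat.le_of_dvd (by norm_num) h2
    omega
  have h3 : ¬ r ∣ q ^ 2 := fun h => hrq (hr.dvd_of_dvd_pow h)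
  have h5 : ¬ r ∣ q ^ n - 1 := by
    rw [hm]
    intro h2
    have := Nat.le_of_dvd (by omega) h2
    omega
  have h4 : r ∣ q ^ n + 1 := by
    have h6 : (q ^ 2) ^ n - 1 = (q ^ n + 1) * (q ^ n - 1) := by
      rw [← pow_mul, mul_comm 2 n, pow_mul]
      have := Nat.sq_sub_sq (q ^ n) 1
      rwa [one_pow] at this
    rw [h6] at h1
    exact ((Nat.Prime.dvd_mul hr).1 h1).resolve_right h5
  have h7 : ¬ r ∣ q + 1 := by
    intro h8
    apply h2
    have := Nat.sq_sub_sq q 1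
    rw [one_pow] at this
    rw [this]
    exact Dvd.dvd.mul_right h8 _
  have h8 : r ∣ Nat.card (Cfsg.SU n F q) := by
    refine dvd_card_SU hF (by omega) hr ?_ h7
    refine Dvd.dvd.mul_left ?_ _
    refine Dvd.dvd.trans ?_ (Finset.dvd_prod_of_mem _ (Finset.mem_range.2 (show n - 1 < n by omega)))
    have h9 : Even (n - 1) := by
      obtain ⟨j, hj⟩ := hodd
      exact ⟨j, by omega⟩
    rw [if_pos h9, Nat.sub_add_cancel (by omega)]
    exact h4
  have : Fact r.Prime := ⟨hr⟩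
  obtain ⟨x, hx⟩ := exists_prime_orderOf_dvd_card' r h8
  exact ⟨r, x, hr, hx, h1, h2, h3, h4⟩

omit [Fintype F] in
/-- the field generated by an irreducible matrix -/
theorem exists_phi {M : Matrix (Fin n) (Fin n) F} (hM : Irreducible (minpoly F M))
    (hd : (minpoly F M).natDegree = n) :
    ∃ (E : Type) (_ : Field E) (_ : Algebra F E) (_ : FiniteDimensional F E)
      (φ : E →ₐ[F] Matrix (Fin n) (Fin n) F), Module.finrank F E = n ∧ (∀ f : F[X], ∃ a, aeval M f = φ a) ∧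
      (∀ a, ∃ f : F[X], φ a = aeval M f) := by
  have hfac : Fact (Irreducible (minpoly F M)) := ⟨hM⟩
  let L : (F[X] ⧸ Ideal.span {minpoly F M}) →ₐ[F] Matrix (Fin n) (Fin n) F :=
    Ideal.Quotient.liftₐ _ (aeval M) (by
      intro a ha
      obtain ⟨b, rfl⟩ := Ideal.mem_span_singleton'.1 ha
      rw [map_mul, minpoly.aeval, mul_zero])
  let φ : AdjoinRoot (minpoly F M) →ₐ[F] Matrix (Fin n) (Fin n) F := L
  have hL : ∀ g : F[X], φ (AdjoinRoot.mk _ g) = aeval M g := fun g => rfl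
  refine ⟨AdjoinRoot (minpoly F M), inferInstance, inferInstance,
    (AdjoinRoot.powerBasis hM.ne_zero).finite, φ, ?_, ?_, ?_⟩
  · rw [(AdjoinRoot.powerBasis hM.ne_zero).finrank, AdjoinRoot.powerBasis_dim, hd]
  · intro f
    exact ⟨AdjoinRoot.mk _ f, (hL f).symm⟩
  · intro a
    obtain ⟨g, rfl⟩ := AdjoinRoot.mk_surjective a
    exact ⟨g, hL g⟩

section Torus

variable {E : Type} [Field E] [Algebra F E] [FiniteDimensional F E]

omit [Fintype F] [FiniteDimensional F E] in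
theorem ne_zero_of_eq (hn : 0 < n) (φ : E →ₐ[F] Matrix (Fin n) (Fin n) F) {a : E} {y : Cfsg.SU n F q}
    (h : cm y = φ a) : a ≠ 0 := by
  have : Nonempty (Fin n) := ⟨⟨0, hn⟩⟩
  rintro rfl
  have h1 := det_cm y
  rw [h, map_zero, Matrix.det_zero] at h1
  exact zero_ne_one h1

/-- `SU ∩ φ(E)` -/
def Cu (hn : 0 < n) (q : ℕ) (φ : E →ₐ[F] Matrix (Fin n) (Fin n) F) : Subgroup (Cfsg.SU n F q) where
  carrier := {y | ∃ a : E, cm y = φ a}
  mul_mem' := by
    rintro g h ⟨a, ha⟩ ⟨b, hb⟩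
    exact ⟨a * b, by rw [map_mul, ha, hb, map_mul]⟩
  one_mem' := ⟨1, by rw [map_one, map_one]⟩
  inv_mem' := by
    rintro g ⟨a, ha⟩
    refine ⟨a⁻¹, ?_⟩
    have h0 := ne_zero_of_eq hn φ ha
    calc cm g⁻¹ = φ a⁻¹ * (φ a * cm g⁻¹) := by
          rw [← mul_assoc, ← map_mul, inv_mul_cancel₀ h0, map_one, one_mul]
      _ = φ a⁻¹ := by rw [← ha, ← map_mul cm, mul_inv_cancel, map_one, mul_one]

omit [Fintype F] [FiniteDimensional F E] in
theorem mem_Cu {hn : 0 < n} {φ : E →ₐ[F] Matrix (Fin n) (Fin n) F} {y : Cfsg.SU n F q} :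
    y ∈ Cu hn q φ ↔ ∃ a : E, cm y = φ a := Iff.rfl

/-- the elements of `SU ∩ φ(E)` -/
theorem exists_iff (hF : Fintype.card F = q ^ 2) (hn : 0 < n) {φ : E →ₐ[F] Matrix (Fin n) (Fin n) F}
    (hfr : Module.finrank F E = n)
    (hstar : ∀ a : E, φ (a ^ q ^ n) = ((φ a).map (GUOrder.frob hF))ᵀ) {N k : ℕ}
    (hk : k * (q ^ 2 - 1) = (q ^ 2) ^ n - 1) (hg : Nat.gcd k (q ^ n + 1) = N) (a : E) :
    (∃ y : Cfsg.SU n F q, cm y = φ a) ↔ a ^ N = 1 := by
  have : Finite E := Module.finite_of_finite F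
  have : Nonempty (Fin n) := ⟨⟨0, hn⟩⟩
  have hq := ClassicalGeometry.GUBasic.two_le hF
  have hQ : 0 < q ^ 2 - 1 := by
    have : 4 ≤ q ^ 2 := by nlinarith
    omega
  have hnorm : Algebra.norm F a = 1 ↔ a ^ k = 1 := by
    have h1 := FiniteField.algebraMap_norm_eq_pow (K := F) (x := a)
    have h2 : (Nat.card E - 1) / (Nat.card F - 1) = k := by
      rw [Cfsg.Agent.H926.Cc.card_E (F := F) (E := E), hfr, Nat.card_eq_fintype_card (α := F), hF, ← hk,
        Nat.mul_div_cancel _ hQ]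
    rw [h2] at h1
    rw [← h1]
    constructor
    · intro h; rw [h, map_one]
    · intro h
      exact (algebraMap F E).injective (by rw [h, map_one])
  have hdet : (φ a).det = Algebra.norm F a :=
    Cfsg.Agent.H926.Cc.det_phi φ (by rw [hfr, Fintype.card_fin]) a
  have hiso : (φ a)ᵀ * (φ a).map (GUOrder.frob hF) = 1 ↔ a ^ (q ^ n + 1) = 1 := by
    have h1 : (φ a)ᵀ * (φ a).map (GUOrder.frob hF) = (φ (a ^ (q ^ n + 1)))ᵀ := by
      rw [pow_succ, map_mul, hstar, Matrix.transpose_mul, Matrix.transpose_transpose]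
    rw [h1, ← Matrix.transpose_one (n := Fin n) (α := F), Matrix.transpose_inj, ← map_one φ]
    exact φ.toRingHom.injective.eq_iff
  constructor
  · rintro ⟨y, hy⟩
    rw [← hg]
    refine pow_gcd_eq_one.2 ⟨?_, ?_⟩
    · exact hnorm.1 (by rw [← hdet, ← hy, det_cm])
    · exact hiso.1 (by rw [← hy]; exact cm_isom hF y)
  · intro h
    have h1 : a ^ k = 1 := by
      obtain ⟨c, hc⟩ := hg ▸ Nat.gcd_dvd_left k (q ^ n + 1)
      rw [hc, pow_mul, h, one_pow]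
    have h2 : a ^ (q ^ n + 1) = 1 := by
      obtain ⟨c, hc⟩ := hg ▸ Nat.gcd_dvd_right k (q ^ n + 1)
      rw [hc, pow_mul, h, one_pow]
    exact ⟨mkSU hF (φ a) (by rw [hdet, hnorm.2 h1]) (hiso.2 h2), cm_mkSU hF _ _ _⟩

/-- `|SU ∩ φ(E)| = (q ^ n + 1) / (q + 1)` -/
theorem card_Cu (hF : Fintype.card F = q ^ 2) (hn : 0 < n) {φ : E →ₐ[F] Matrix (Fin n) (Fin n) F}
    (hfr : Module.finrank F E = n)
    (hstar : ∀ a : E, φ (a ^ q ^ n) = ((φ a).map (GUOrder.frob hF))ᵀ) {N k : ℕ}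
    (hN : N * (q + 1) = q ^ n + 1)
    (hk : k * (q ^ 2 - 1) = (q ^ 2) ^ n - 1) (hg : Nat.gcd k (q ^ n + 1) = N) :
    Nat.card (Cu hn q φ) = N := by
  classical
  have : Finite E := Module.finite_of_finite F
  have : Nonempty (Fin n) := ⟨⟨0, hn⟩⟩
  have hcard : Nat.card Eˣ = (q ^ n + 1) * (q ^ n - 1) := by
    rw [Nat.card_units, Cfsg.Agent.H926.Cc.card_E (F := F) (E := E), hfr, Nat.card_eq_fintype_card (α := F), hF,
      ← pow_mul, mul_comm 2 n, pow_mul]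
    have := Nat.sq_sub_sq (q ^ n) 1
    rwa [one_pow] at this
  have h1 := IsCyclic.card_powMonoidHom_ker (G := Eˣ) N
  rw [hcard, ← hN, mul_assoc, mul_comm N, Nat.gcd_comm, Nat.gcd_mul_left_right] at h1
  rw [← h1]
  have hinv : ∀ y : Cu hn q φ, ∃ u : (powMonoidHom N : Eˣ →* Eˣ).ker, cm (y : Cfsg.SU n F q) = φ ((u : Eˣ) : E) := by
    rintro ⟨y, a, ha⟩
    have h2 := (exists_iff hF hn hfr hstar hk hg a).1 ⟨y, ha⟩
    refine ⟨⟨Units.mk0 a (ne_zero_of_eq hn φ ha), ?_⟩, ha⟩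
    rw [MonoidHom.mem_ker]
    exact Units.ext h2
  choose f hf using hinv
  refine Nat.card_congr (Equiv.ofBijective f ⟨?_, ?_⟩)
  · intro x y hxy
    apply Subtype.ext
    apply cm_injective
    rw [hf, hf, hxy]
  · rintro ⟨u, hu⟩
    have h2 : (u : E) ^ N = 1 := congrArg Units.val (MonoidHom.mem_ker.1 hu)
    obtain ⟨y, hy⟩ := (exists_iff hF hn hfr hstar hk hg (u : E)).2 h2
    refine ⟨⟨y, u, hy⟩, ?_⟩
    have h3 := hf ⟨y, u, hy⟩
    apply Subtype.ext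
    apply Units.ext
    apply φ.toRingHom.injective
    show φ _ = φ _
    rw [← h3]
    exact hy

omit [FiniteDimensional F E] in
/-- the centre lies in `SU ∩ φ(E)` -/
theorem center_le (hF : Fintype.card F = q ^ 2) (hn3 : 3 ≤ n) (hn : 0 < n)
    (φ : E →ₐ[F] Matrix (Fin n) (Fin n) F) :
    Subgroup.center (Cfsg.SU n F q) ≤ Cu hn q φ := by
  intro z hz
  obtain ⟨c, h1, h2, rfl⟩ := (SUBasic.mem_center_SU_iff hF hn3 z).1 hz
  refine ⟨algebraMap F E c, ?_⟩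
  rw [AlgHom.commutes]
  rfl

/-- the torus of `PSU` -/
def Au (hn : 0 < n) (q : ℕ) (φ : E →ₐ[F] Matrix (Fin n) (Fin n) F) : Subgroup (Cfsg.PSU n F q) :=
  (Cu hn q φ).map pr

omit [FiniteDimensional F E] in
theorem pr_mem_Au (hF : Fintype.card F = q ^ 2) (hn3 : 3 ≤ n) {hn : 0 < n}
    {φ : E →ₐ[F] Matrix (Fin n) (Fin n) F} {y : Cfsg.SU n F q} : pr y ∈ Au hn q φ ↔ y ∈ Cu hn q φ := by
  constructor
  · rintro ⟨x, hx, hxy⟩
    have h1 : pr (x⁻¹ * y) = 1 := by rw [map_mul, map_inv, hxy, inv_mul_cancel]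
    have h2 := center_le hF hn3 hn φ ((pr_eq_one_iff _).1 h1)
    have h3 := (Cu hn q φ).mul_mem hx h2
    rwa [mul_inv_cancel_left] at h3
  · intro h
    exact ⟨y, h, rfl⟩

omit [FiniteDimensional F E] in
theorem card_Au (hF : Fintype.card F = q ^ 2) (hn3 : 3 ≤ n) (hn : 0 < n)
    (φ : E →ₐ[F] Matrix (Fin n) (Fin n) F) :
    Nat.card (Au hn q φ) * Nat.gcd n (q + 1) = Nat.card (Cu hn q φ) := by
  have h1 : (Subgroup.center (Cfsg.SU n F q)).relIndex (Cu hn q φ) = Nat.card (Au hn q φ) := by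
    have := Subgroup.relIndex_ker (Cu hn q φ) (QuotientGroup.mk' (Subgroup.center (Cfsg.SU n F q)))
    rw [QuotientGroup.ker_mk'] at this
    exact this
  have h2 := Subgroup.relIndex_mul_relIndex ⊥ (Subgroup.center (Cfsg.SU n F q)) (Cu hn q φ) bot_le
    (center_le hF hn3 hn φ)
  rw [Subgroup.relIndex_bot_left, Subgroup.relIndex_bot_left, h1, Cfsg.Agent.S0279.result hF n hn3] at h2
  rw [← h2, mul_comm]

/-- elements commuting modulo the centre -/
theorem comm_of_pr (hF : Fintype.card F = q ^ 2) (hn3 : 3 ≤ n) {y z : Cfsg.SU n F q}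
    (h : pr y * pr z = pr z * pr y) : ∃ c : F, cm y * cm z = c • (cm z * cm y) := by
  have h1 : pr ((z * y)⁻¹ * (y * z)) = 1 := by
    rw [map_mul, map_inv, map_mul, map_mul, h, inv_mul_cancel]
  rw [pr_eq_one_iff, SUBasic.mem_center_SU_iff hF hn3] at h1
  obtain ⟨c, hcn, hcq, h7⟩ := h1
  have h8 : y * z = (z * y) * SUBasic.suScalar q c hcn hcq := by
    rw [← h7]; group
  refine ⟨c, ?_⟩
  have h9 : cm y * cm z = cm z * cm y * Matrix.diagonal (fun _ => c) := by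
    calc cm y * cm z = cm (z * y * SUBasic.suScalar q c hcn hcq) := by rw [← h8, map_mul]
      _ = cm z * cm y * cm (SUBasic.suScalar q c hcn hcq) := by rw [map_mul, map_mul]
  rw [h9]
  ext a b
  rw [Matrix.mul_diagonal, Matrix.smul_apply, smul_eq_mul, mul_comm]

/-- **the image of `SU ∩ φ(E)` in `PSU` is a `CC`-subgroup** -/
theorem cc_Au (hF : Fintype.card F = q ^ 2) (hp : n.Prime) (hn3 : 3 ≤ n) (hn : 0 < n)
    {φ : E →ₐ[F] Matrix (Fin n) (Fin n) F} (hfr : Module.finrank F E = n) : CC (Au hn q φ) := by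
  have : Nonempty (Fin n) := ⟨⟨0, hn⟩⟩
  have hfr' : Module.finrank F E = Fintype.card (Fin n) := by rw [hfr, Fintype.card_fin]
  have hcomm : ∀ a ∈ Au hn q φ, ∀ b ∈ Au hn q φ, a * b = b * a := by
    rintro _ ⟨x, ⟨a, ha⟩, rfl⟩ _ ⟨y, ⟨b, hb⟩, rfl⟩
    rw [← map_mul, ← map_mul]
    congr 1
    apply cm_injective
    rw [map_mul, map_mul, ha, hb, ← map_mul, ← map_mul, mul_comm]
  refine ⟨hcomm, ?_⟩
  rintro x hx hx1
  apply le_antisymm
  · intro w hw
    have hw1 : x * w = w * x := Subgroup.mem_centralizer_iff.1 hw x rfl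
    obtain ⟨y, ⟨a, ha⟩, rfl⟩ := hx
    obtain ⟨z, rfl⟩ := pr_surjective w
    rw [pr_mem_Au hF hn3]
    obtain ⟨c, hc⟩ := comm_of_pr hF hn3 hw1
    rw [ha] at hc
    -- the element `y` is not scalar
    have ha' : ∀ t : F, a ≠ algebraMap F E t := by
      rintro t rfl
      apply hx1
      rw [pr_eq_one_iff]
      rw [AlgHom.commutes] at ha
      rw [Subgroup.mem_center_iff]
      intro g
      apply cm_injective
      rw [map_mul (cm : Cfsg.SU n F q →* _), map_mul (cm : Cfsg.SU n F q →* _), ha]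
      exact (Algebra.commutes t (cm g)).symm
    have hL : (toG n F q).range ≤ Cfsg.Geo.specialLinear (Fin n) F := by
      rintro _ ⟨g, rfl⟩
      rw [Cfsg.Agent.H873.mem_specialLinear_iff, toG_val]
      exact det_cm g
    exact Cfsg.Agent.H926.Cc.exists_phi_of_comm (L := (toG n F q).range) (by rw [hfr]; exact hp) hfr'
      (Cfsg.Agent.H926.Cc.rootProp_SL (by rw [hfr]; exact hp) (by rw [hfr]; exact hn3) hfr' hL)
      (c := toG n F q y) ⟨y, rfl⟩ (a := a) ha ha' (g := toG n F q z) (z := c) hc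
  · intro w hw
    rw [Subgroup.mem_centralizer_iff]
    intro t ht
    rw [Set.mem_singleton_iff.1 ht]
    exact hcomm _ hx _ hw

end Torus

/-- **`PSU_n(q)`, `n` an odd prime, has a `CC`-subgroup of order `(q ^ n + 1) / ((q + 1) gcd(n, q + 1))`.** -/
theorem exists_cc (hF : Fintype.card F = q ^ 2) (hn : n.Prime) (hodd : Odd n) (h : ¬ (n = 3 ∧ q = 2)) :
    ∃ A : Subgroup (Cfsg.PSU n F q), CC A ∧ Nat.card A * Nat.gcd n (q + 1) * (q + 1) = q ^ n + 1 := by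
  have hq := ClassicalGeometry.GUBasic.two_le hF
  have hn3 : 3 ≤ n := by
    have h1 := hn.two_le
    rcases Nat.eq_or_lt_of_le h1 with h2 | h2
    · rw [← h2] at hodd
      exact absurd hodd (by decide)
    · exact h2
  obtain ⟨r, x, hr, hx, h1, h2, h3, h4⟩ := exists_x hF hn hodd h
  have hσ : ∀ x, GUOrder.frob hF x = x ^ q := fun x => rfl
  have hx' : orderOf (toG n F q x) = r := by rw [orderOf_injective _ toG_injective, hx]
  obtain ⟨h5, h6⟩ := irr hF hn hr h1 h2 h3 (toG n F q x) hx'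
  obtain ⟨E, _, _, _, φ, hfr, hφ1, hφ2⟩ := exists_phi h5 h6
  obtain ⟨N, k, hN, hk, hg, -⟩ := exists_num hodd hq
  have hn0 : 0 < n := hn.pos
  have hM1 : (toG n F q x : Matrix (Fin n) (Fin n) F) ^ (q ^ n + 1) = 1 := by
    obtain ⟨c, hc⟩ := h4
    rw [hc, pow_mul, ← hx', ← Units.val_pow_eq_pow_val, pow_orderOf_eq_one, Units.val_one, one_pow]
  have hstar : ∀ a : E, φ (a ^ q ^ n) = ((φ a).map (GUOrder.frob hF))ᵀ := by
    intro a
    obtain ⟨f, hf⟩ := hφ2 a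
    rw [map_pow, hf]
    exact pow_eq_star hF hodd hσ (isU_SU hσ (by omega) x) hM1 f
  refine ⟨Au hn0 q φ, cc_Au hF hn hn3 hn0 hfr, ?_⟩
  rw [card_Au hF hn3, card_Cu hF hn0 hfr hstar hN hk hg, hN]

end Cfsg.Agent.H956.SUTorus
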