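import Mathlib
import Cfsg.Agent.H955.Sp
import Cfsg.Agent.ClassicalGeometry.Discriminant

/-!
# Conjugacy of involutions and of square roots of `-1` in symplectic groups
-/

set_option autoImplicit false

namespace Cfsg.Agent.H956.SpConj

open Module Cfsg.Agent.H955

universe u v w

section invol

variable {F : Type u} [Field F] {V : Type v} [AddCommGroup V] [Module F V] [FiniteDimensional F V]
  {V' : Type w} [AddCommGroup V'] [Module F V'] [FiniteDimensional F V']

/-- **Involutions of symplectic spaces with commutator spaces of the same dimension are conjugate.** -/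
theorem conj_of_sq_one (h2 : (2 : F) ≠ 0) {B : LinearMap.BilinForm F V} {B' : LinearMap.BilinForm F V'}
    (hB : IsSp B) (hB' : IsSp B') {T : V ≃ₗ[F] V} {T' : V' ≃ₗ[F] V'} (hT : T ∈ IsoB B) (hT' : T' ∈ IsoB B')
    (hTT : T ^ 2 = 1) (hTT' : T' ^ 2 = 1) (hd : finrank F V = finrank F V')
    (hc : finrank F (comS T) = finrank F (comS T')) :
    ∃ e : V ≃ₗ[F] V', (∀ u v, B' (e u) (e v) = B u v) ∧ ∀ v, e (T v) = T' (e v) := by
  have h2' : ((2 : ℕ) : F) ≠ 0 := by exact_mod_cast h2
  have hsq : ∀ v, T (T v) = v := fun v => by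
    have := LinearEquiv.congr_fun hTT v
    rwa [pow_two, LinearEquiv.mul_apply] at this
  have hsq' : ∀ v, T' (T' v) = v := fun v => by
    have := LinearEquiv.congr_fun hTT' v
    rwa [pow_two, LinearEquiv.mul_apply] at this
  have hW := ndOn_comS hB.nd hT h2' hTT
  have hW' := ndOn_comS hB'.nd hT' h2' hTT'
  have h1 := hB.finrank_orth hW
  have h1' := hB'.finrank_orth hW'
  obtain ⟨e₁, he₁⟩ := exists_sp_equiv (hB.res hW) (hB'.res hW') hc
  obtain ⟨e₂, he₂⟩ := exists_sp_equiv (hB.res (hB.ndOn_orth hW)) (hB'.res (hB'.ndOn_orth hW')) (by omega)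
  obtain ⟨e, he, h3, h4, -⟩ := exists_glue hB hB' hW hW' e₁ he₁ e₂ he₂
  refine ⟨e, he, ?_⟩
  -- the action of `T`
  have hneg : ∀ w ∈ comS T, T w = -w := by
    intro w hw
    obtain ⟨y, rfl⟩ := mem_comS.1 hw
    rw [map_sub, hsq, neg_sub]
  have hneg' : ∀ w ∈ comS T', T' w = -w := by
    intro w hw
    obtain ⟨y, rfl⟩ := mem_comS.1 hw
    rw [map_sub, hsq', neg_sub]
  have hpos : ∀ w ∈ orth B (comS T), T w = w := by
    intro w hw
    have : T w - w = 0 := by
      apply hW _ (sub_mem_comS T w)
      intro y hy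
      have h5 : B y (T w) = 0 := by
        have h6 := hneg y hy
        have h7 : y = T (-y) := by rw [map_neg, h6, neg_neg]
        rw [h7, hT, map_neg, LinearMap.neg_apply, hw y hy, neg_zero]
      rw [hB.swap, map_sub, h5, hw y hy, sub_zero, neg_zero]
    exact sub_eq_zero.1 this
  have hpos' : ∀ w ∈ orth B' (comS T'), T' w = w := by
    intro w hw
    have : T' w - w = 0 := by
      apply hW' _ (sub_mem_comS T' w)
      intro y hy
      have h5 : B' y (T' w) = 0 := by
        have h6 := hneg' y hy
        have h7 : y = T' (-y) := by rw [map_neg, h6, neg_neg]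
        rw [h7, hT', map_neg, LinearMap.neg_apply, hw y hy, neg_zero]
      rw [hB'.swap, map_sub, h5, hw y hy, sub_zero, neg_zero]
    exact sub_eq_zero.1 this
  intro v
  obtain ⟨a, b, rfl⟩ := exists_add_compl (hW.isCompl hB.eps) v
  rw [map_add, map_add, map_add, map_add, hneg a a.2, hpos b b.2, map_neg, h3, h4, hneg' _ (e₁ a).2, hpos' _ (e₂ b).2]

end invol

section negOne

variable {F : Type u} [Field F]

/-- a basis of a plane -/
theorem exists_plane_basis {V : Type v} [AddCommGroup V] [Module F V] [FiniteDimensional F V]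
    {B : LinearMap.BilinForm F V} (hB : IsSp B) {u w : V} (h : B u w = 1) :
    ∃ b : Basis (Fin 2) F (Submodule.span F {u, w}), (b 0 : V) = u ∧ (b 1 : V) = w := by
  have hu : u ∈ Submodule.span F {u, w} := Submodule.subset_span (by simp)
  have hw : w ∈ Submodule.span F {u, w} := Submodule.subset_span (by simp)
  let vec : Fin 2 → Submodule.span F {u, w} := ![⟨u, hu⟩, ⟨w, hw⟩]
  have hli : LinearIndependent F vec := by
    rw [LinearIndependent.pair_iff]
    intro a b hab
    have hab' : a • u + b • w = 0 := congrArg Subtype.val hab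
    have h3 : B w u = -1 := by rw [hB.swap, h]
    have h1 : B (a • u + b • w) u = 0 := by rw [hab', map_zero, LinearMap.zero_apply]
    have h2 : B (a • u + b • w) w = 0 := by rw [hab', map_zero, LinearMap.zero_apply]
    simp only [map_add, map_smul, LinearMap.add_apply, LinearMap.smul_apply, hB.alt, smul_eq_mul,
      mul_zero, zero_add, add_zero, h, h3, mul_one, mul_neg, neg_eq_zero] at h1 h2
    exact ⟨h2, h1⟩
  let b := basisOfLinearIndependentOfCardEqFinrank hli (by
    rw [Fintype.card_fin, finrank_pair hB (by rw [h]; exact one_ne_zero)])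
  refine ⟨b, ?_, ?_⟩
  · simp [b, vec]
  · simp [b, vec]

theorem conj_neg_one [Finite F] (h2 : (2 : F) ≠ 0) (n : ℕ) :
    ∀ {V : Type v} [AddCommGroup V] [Module F V] [FiniteDimensional F V]
      {V' : Type w} [AddCommGroup V'] [Module F V'] [FiniteDimensional F V']
      (B : LinearMap.BilinForm F V) (B' : LinearMap.BilinForm F V') (_ : IsSp B) (_ : IsSp B')
      (T : V →ₗ[F] V) (T' : V' →ₗ[F] V') (_ : ∀ u v, B (T u) (T v) = B u v)
      (_ : ∀ u v, B' (T' u) (T' v) = B' u v) (_ : ∀ v, T (T v) = -v) (_ : ∀ v, T' (T' v) = -v)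
      (_ : finrank F V = 2 * n) (_ : finrank F V' = 2 * n),
      ∃ e : V ≃ₗ[F] V', (∀ u v, B' (e u) (e v) = B u v) ∧ ∀ v, e (T v) = T' (e v) := by
  induction n with
  | zero =>
    intro V _ _ _ V' _ _ _ B B' _ _ T T' _ _ _ _ hd hd'
    have hs : Subsingleton V := by
      rw [← Module.finrank_zero_iff (R := F)]; omega
    have hs' : Subsingleton V' := by
      rw [← Module.finrank_zero_iff (R := F)]; omega
    refine ⟨LinearEquiv.ofFinrankEq _ _ (hd.trans hd'.symm), fun u v => ?_, fun v => Subsingleton.elim _ _⟩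
    rw [Subsingleton.elim u 0, map_zero, map_zero, map_zero, LinearMap.zero_apply, LinearMap.zero_apply]
  | succ n ih =>
    intro V _ _ _ V' _ _ _ B B' hB hB' T T' hT hT' hTT hTT' hd hd'
    -- vectors with `B u (T u) = 1`
    have hex : ∃ u, B u (T u) = 1 := by
      let g : LinearMap.BilinForm F V := B.compRight T
      have hg : ∀ u v, g u v = B u (T v) := fun u v => rfl
      have hS : g.IsSymm := by
        refine ⟨fun u v => ?_⟩
        rw [hg, hg, ← hT u, hTT, map_neg, hB.swap (T u) v, neg_neg]
      have hnd : g.Nondegenerate := by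
        refine (LinearMap.IsRefl.nondegenerate_iff_separatingLeft hS.isRefl).2 fun x hx => ?_
        apply hB.nd
        intro y
        have h5 : y = T (-(T y)) := by rw [map_neg, hTT, neg_neg]
        rw [h5]
        exact hx _
      exact Cfsg.Agent.ClassicalGeometry.Discriminant.exists_value h2 g hS hnd (by omega) 1
    have hex' : ∃ u, B' u (T' u) = 1 := by
      let g : LinearMap.BilinForm F V' := B'.compRight T'
      have hg : ∀ u v, g u v = B' u (T' v) := fun u v => rfl
      have hS : g.IsSymm := by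
        refine ⟨fun u v => ?_⟩
        rw [hg, hg, ← hT' u, hTT', map_neg, hB'.swap (T' u) v, neg_neg]
      have hnd : g.Nondegenerate := by
        refine (LinearMap.IsRefl.nondegenerate_iff_separatingLeft hS.isRefl).2 fun x hx => ?_
        apply hB'.nd
        intro y
        have h5 : y = T' (-(T' y)) := by rw [map_neg, hTT', neg_neg]
        rw [h5]
        exact hx _
      exact Cfsg.Agent.ClassicalGeometry.Discriminant.exists_value h2 g hS hnd (by omega) 1
    obtain ⟨u, hu⟩ := hex
    obtain ⟨u', hu'⟩ := hex'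
    obtain ⟨W, hWdef⟩ : ∃ W, W = Submodule.span F {u, T u} := ⟨_, rfl⟩
    obtain ⟨W', hWdef'⟩ : ∃ W', W' = Submodule.span F {u', T' u'} := ⟨_, rfl⟩
    obtain ⟨b, hb0, hb1⟩ : ∃ b : Basis (Fin 2) F W, (b 0 : V) = u ∧ (b 1 : V) = T u := by
      rw [hWdef]; exact exists_plane_basis hB hu
    obtain ⟨b', hb0', hb1'⟩ : ∃ b : Basis (Fin 2) F W', (b 0 : V') = u' ∧ (b 1 : V') = T' u' := by
      rw [hWdef']; exact exists_plane_basis hB' hu'
    have hW : NdOn B W := by rw [hWdef]; exact ndOn_pair hB (by rw [hu]; exact one_ne_zero)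
    have hW' : NdOn B' W' := by rw [hWdef']; exact ndOn_pair hB' (by rw [hu']; exact one_ne_zero)
    have hfW : finrank F W = 2 := by rw [hWdef]; exact finrank_pair hB (by rw [hu]; exact one_ne_zero)
    have hfW' : finrank F W' = 2 := by rw [hWdef']; exact finrank_pair hB' (by rw [hu']; exact one_ne_zero)
    let e₁ : W ≃ₗ[F] W' := b.equiv b' (Equiv.refl _)
    have hform : ∀ x : W, ∃ s t : F, (x : V) = s • u + t • T u ∧ (e₁ x : V') = s • u' + t • T' u' := by
      intro x
      refine ⟨b.repr x 0, b.repr x 1, ?_, ?_⟩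
      · have h5 := b.sum_repr x
        rw [Fin.sum_univ_two] at h5
        have h6 := congrArg Subtype.val h5
        rw [Submodule.coe_add, Submodule.coe_smul, Submodule.coe_smul, hb0, hb1] at h6
        exact h6.symm
      · have h5 := b.sum_repr x
        rw [Fin.sum_univ_two] at h5
        have h6 := congrArg (fun y => (e₁ y : V')) h5
        simp only [map_add, map_smul] at h6
        rw [← h6, Submodule.coe_add, Submodule.coe_smul, Submodule.coe_smul]
        simp only [e₁, Basis.equiv_apply, Equiv.refl_apply]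
        rw [hb0', hb1']
    have hBu : B (T u) u = -1 := by rw [hB.swap, hu]
    have hBu' : B' (T' u') u' = -1 := by rw [hB'.swap, hu']
    have he₁ : ∀ x y : W, B' (e₁ x : V') (e₁ y : V') = B (x : V) (y : V) := by
      intro x y
      obtain ⟨s, t, hx, hx'⟩ := hform x
      obtain ⟨s', t', hy, hy'⟩ := hform y
      rw [hx, hx', hy, hy']
      simp only [map_add, map_smul, LinearMap.add_apply, LinearMap.smul_apply, hB.alt, hB'.alt, smul_eq_mul, hu, hu',
        hBu, hBu']
    have hTW : ∀ x ∈ W, T x ∈ W := by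
      intro x hx
      rw [hWdef] at hx
      obtain ⟨s, t, rfl⟩ := Submodule.mem_span_pair.1 hx
      rw [map_add, map_smul, map_smul, hTT, hWdef]
      exact Submodule.add_mem _ (Submodule.smul_mem _ _ (Submodule.subset_span (by simp)))
        (Submodule.smul_mem _ _ (Submodule.neg_mem _ (Submodule.subset_span (by simp))))
    have hTW' : ∀ x ∈ W', T' x ∈ W' := by
      intro x hx
      rw [hWdef'] at hx
      obtain ⟨s, t, rfl⟩ := Submodule.mem_span_pair.1 hx
      rw [map_add, map_smul, map_smul, hTT', hWdef']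
      exact Submodule.add_mem _ (Submodule.smul_mem _ _ (Submodule.subset_span (by simp)))
        (Submodule.smul_mem _ _ (Submodule.neg_mem _ (Submodule.subset_span (by simp))))
    have hTO : ∀ x ∈ orth B W, T x ∈ orth B W := by
      intro x hx w hw
      have h5 : w = T (-(T w)) := by rw [map_neg, hTT, neg_neg]
      rw [h5, hT]
      exact hx _ (W.neg_mem (hTW w hw))
    have hTO' : ∀ x ∈ orth B' W', T' x ∈ orth B' W' := by
      intro x hx w hw
      have h5 : w = T' (-(T' w)) := by rw [map_neg, hTT', neg_neg]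
      rw [h5, hT']
      exact hx _ (W'.neg_mem (hTW' w hw))
    have hdO := hB.finrank_orth hW
    have hdO' := hB'.finrank_orth hW'
    obtain ⟨e₂, he₂, he₂'⟩ := ih (resB B (orth B W)) (resB B' (orth B' W')) (hB.res (hB.ndOn_orth hW))
      (hB'.res (hB'.ndOn_orth hW')) (T.restrict hTO) (T'.restrict hTO') (fun x y => hT x y) (fun x y => hT' x y)
      (fun x => Subtype.ext (hTT x)) (fun x => Subtype.ext (hTT' x)) (by omega) (by omega)
    obtain ⟨e, he, h3, h4, -⟩ := exists_glue hB hB' hW hW' e₁ he₁ e₂ he₂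
    refine ⟨e, he, fun v => ?_⟩
    obtain ⟨x, y, rfl⟩ := exists_add_compl (hW.isCompl hB.eps) v
    rw [map_add, map_add, map_add, map_add]
    congr 1
    · obtain ⟨s, t, hx, hx'⟩ := hform x
      obtain ⟨s', t', hy, hy'⟩ := hform ⟨T x, hTW x x.2⟩
      have h5 : e (T (x : V)) = (e₁ ⟨T x, hTW x x.2⟩ : V') := h3 ⟨T x, hTW x x.2⟩
      rw [h5, h3, hy', hx', map_add, map_smul, map_smul, hTT']
      -- compare coordinates
      have hy2 : T (x : V) = s' • u + t' • T u := hy
      rw [hx, map_add, map_smul, map_smul, hTT] at hy2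
      have h6 := congrArg (fun v => B v u) hy2
      have h7 := congrArg (fun v => B v (T u)) hy2
      simp only [map_add, map_smul, LinearMap.add_apply, LinearMap.smul_apply, hB.alt, smul_eq_mul, hu, hBu, map_neg,
        LinearMap.neg_apply, mul_zero, mul_one, mul_neg, neg_zero, add_zero, zero_add, neg_inj] at h6 h7
      rw [← h6, ← h7, smul_neg, neg_smul, add_comm]
    · have h5 : e (T (y : V)) = (e₂ (T.restrict hTO y) : V') := h4 (T.restrict hTO y)
      rw [h5, he₂', h4]
      rfl

end negOne

end Cfsg.Agent.H956.SpConj
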