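import Cfsg.Agent.H780.SpDefs
import Cfsg.Agent.LieClassical.SympCount

/-!
# The Sylow subgroups of `Sp₄(K)` in the own characteristic have coordinates (helper956)
-/

set_option autoImplicit false

namespace Cfsg.Agent.H956.SpSylow

open Matrix Cfsg.Agent.H780

variable {K : Type*} [Field K]

/-- The element with coordinates `(t,s,u,z)`. -/
def M (t s u z : K) : Matrix (Fin 2 ⊕ Fin 2) (Fin 2 ⊕ Fin 2) K :=
  Matrix.fromBlocks !![1, t; 0, 1] !![z - t * u, u; u - t * s, s] 0 !![1, 0; -t, 1]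

theorem M_mul (t s u z t' s' u' z' : K) :
    M t s u z * M t' s' u' z' =
      M (t + t') (s + s') (u + u' + t * s') (z + z' + 2 * t * u' + t ^ 2 * s') := by
  unfold M
  rw [Matrix.fromBlocks_multiply]
  congr 1
  · ext i j
    fin_cases i <;> fin_cases j <;> simp [add_comm]
  · ext i j
    fin_cases i <;> fin_cases j <;> simp <;> ring
  · simp
  · ext i j
    fin_cases i <;> fin_cases j <;> simp [add_comm]

theorem M_one : M (0 : K) 0 0 0 = 1 := by
  unfold M
  rw [← Matrix.fromBlocks_one]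
  congr 1
  · ext i j
    fin_cases i <;> fin_cases j <;> simp
  · ext i j
    fin_cases i <;> fin_cases j <;> simp
  · ext i j
    fin_cases i <;> fin_cases j <;> simp

theorem M_mem (t s u z : K) : M t s u z ∈ Matrix.symplecticGroup (Fin 2) K := by
  unfold M
  rw [SymplecticGroup.fromBlocks_mem_iff]
  refine ⟨by simp, ?_, ?_⟩
  · ext i j
    fin_cases i <;> fin_cases j <;>
      simp [Matrix.mul_apply, Fin.sum_univ_two] <;> ring
  · ext i j
    fin_cases i <;> fin_cases j <;> simp [Matrix.mul_apply, Fin.sum_univ_two]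

theorem M_inj {t s u z t' s' u' z' : K} (h : M t s u z = M t' s' u' z') :
    t = t' ∧ s = s' ∧ u = u' ∧ z = z' := by
  have h1 : t = t' := by
    have := congrFun (congrFun h (Sum.inl 0)) (Sum.inl 1)
    simpa [M] using this
  have h2 : s = s' := by
    have := congrFun (congrFun h (Sum.inl 1)) (Sum.inr 1)
    simpa [M] using this
  have h3 : u = u' := by
    have := congrFun (congrFun h (Sum.inl 0)) (Sum.inr 1)
    simpa [M] using this
  have h4 : z = z' := by
    have := congrFun (congrFun h (Sum.inl 0)) (Sum.inr 0)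
    have h5 : z - t * u = z' - t' * u' := by simpa [M] using this
    rw [h1, h3] at h5
    exact sub_left_injective h5
  exact ⟨h1, h2, h3, h4⟩

/-- The subgroup of all `M t s u z`. -/
def U (K : Type*) [Field K] : Subgroup ↥(Matrix.symplecticGroup (Fin 2) K) where
  carrier := {g | ∃ t s u z : K, (g : Matrix _ _ K) = M t s u z}
  mul_mem' := by
    rintro a b ⟨t, s, u, z, ha⟩ ⟨t', s', u', z', hb⟩
    exact ⟨_, _, _, _, by rw [Submonoid.coe_mul, ha, hb, M_mul]⟩
  one_mem' := ⟨0, 0, 0, 0, by rw [M_one]; rfl⟩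
  inv_mem' := by
    rintro a ⟨t, s, u, z, ha⟩
    refine ⟨-t, -s, -u + t * s, -z + 2 * t * u - t ^ 2 * s, ?_⟩
    have h1 : (⟨M (-t) (-s) (-u + t * s) (-z + 2 * t * u - t ^ 2 * s), M_mem _ _ _ _⟩ :
        ↥(Matrix.symplecticGroup (Fin 2) K)) * a = 1 := by
      apply Subtype.ext
      show M (-t) (-s) (-u + t * s) (-z + 2 * t * u - t ^ 2 * s) * (a : Matrix _ _ K) = 1
      rw [ha, M_mul, ← M_one]
      congr 1 <;> ring
    rw [← eq_inv_of_mul_eq_one_left h1]

theorem mem_U {g : ↥(Matrix.symplecticGroup (Fin 2) K)} :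
    g ∈ U K ↔ ∃ t s u z : K, (g : Matrix _ _ K) = M t s u z := Iff.rfl

/-- The bijection `K⁴ ≃ U`. -/
noncomputable def equivU (K : Type*) [Field K] : (K × K × K × K) ≃ ↥(U K) :=
  Equiv.ofBijective (fun v => ⟨⟨M v.1 v.2.1 v.2.2.1 v.2.2.2, M_mem _ _ _ _⟩, v.1, v.2.1, v.2.2.1,
    v.2.2.2, rfl⟩) (by
    constructor
    · rintro ⟨a, b, c, d⟩ ⟨a', b', c', d'⟩ h
      have h1 : M a b c d = M a' b' c' d' := congrArg Subtype.val (congrArg Subtype.val h)
      obtain ⟨h2, h3, h4, h5⟩ := M_inj h1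
      rw [h2, h3, h4, h5]
    · rintro ⟨g, t, s, u, z, hg⟩
      exact ⟨(t, s, u, z), Subtype.ext (Subtype.ext hg.symm)⟩)

theorem coe_equivU (v : K × K × K × K) :
    (((equivU K v : ↥(U K)) : ↥(Matrix.symplecticGroup (Fin 2) K)) : Matrix _ _ K) =
      M v.1 v.2.1 v.2.2.1 v.2.2.2 := rfl

theorem equivU_symm_mul (x y : ↥(U K)) :
    (equivU K).symm (x * y) =
      (((equivU K).symm x).1 + ((equivU K).symm y).1,
        ((equivU K).symm x).2.1 + ((equivU K).symm y).2.1,
        ((equivU K).symm x).2.2.1 + ((equivU K).symm y).2.2.1 +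
          ((equivU K).symm x).1 * ((equivU K).symm y).2.1,
        ((equivU K).symm x).2.2.2 + ((equivU K).symm y).2.2.2 +
          2 * ((equivU K).symm x).1 * ((equivU K).symm y).2.2.1 +
          ((equivU K).symm x).1 ^ 2 * ((equivU K).symm y).2.1) := by
  obtain ⟨a, rfl⟩ := (equivU K).surjective x
  obtain ⟨b, rfl⟩ := (equivU K).surjective y
  rw [Equiv.symm_apply_eq]
  apply Subtype.ext
  apply Subtype.ext
  show M a.1 a.2.1 a.2.2.1 a.2.2.2 * M b.1 b.2.1 b.2.2.1 b.2.2.2 = _
  rw [M_mul, coe_equivU, Equiv.symm_apply_apply, Equiv.symm_apply_apply]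

/-- The coordinates on `U`. -/
noncomputable def coordU (K : Type*) [Field K] : SpCoord ↥(U K) K where
  t x := ((equivU K).symm x).1
  s x := ((equivU K).symm x).2.1
  u x := ((equivU K).symm x).2.2.1
  z x := ((equivU K).symm x).2.2.2
  t_mul x y := by rw [equivU_symm_mul]
  s_mul x y := by rw [equivU_symm_mul]
  u_mul x y := by rw [equivU_symm_mul]
  z_mul x y := by rw [equivU_symm_mul]
  inj x y h1 h2 h3 h4 := by
    apply (equivU K).symm.injective
    exact Prod.ext h1 (Prod.ext h2 (Prod.ext h3 h4))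
  surj a b c d := ⟨equivU K (a, b, c, d), by simp⟩

/-- Coordinates are transported by isomorphisms. -/
def SpCoord.congr {X Y : Type*} [Group X] [Group Y] (e : Y ≃* X) (C : SpCoord X K) :
    SpCoord Y K where
  t y := C.t (e y)
  s y := C.s (e y)
  u y := C.u (e y)
  z y := C.z (e y)
  t_mul x y := by rw [map_mul, C.t_mul]
  s_mul x y := by rw [map_mul, C.s_mul]
  u_mul x y := by rw [map_mul, C.u_mul]
  z_mul x y := by rw [map_mul, C.z_mul]
  inj x y h1 h2 h3 h4 := e.injective (C.inj _ _ h1 h2 h3 h4)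
  surj a b c d := by
    obtain ⟨x, hx⟩ := C.surj a b c d
    exact ⟨e.symm x, by simpa using hx⟩

theorem card_U [Fintype K] : Nat.card ↥(U K) = Fintype.card K ^ 4 := by
  rw [← Nat.card_congr (equivU K), Nat.card_prod, Nat.card_prod, Nat.card_prod,
    Nat.card_eq_fintype_card]
  ring

/-- **Sylow `p`-subgroups of `Sp₄(K)` in characteristic `p` have symplectic coordinates.** -/
theorem nonempty_spCoord {K : Type*} [Field K] [Fintype K] {p : ℕ} [Fact p.Prime] [CharP K p]
    (T : Sylow p ↥(Matrix.symplecticGroup (Fin 2) K)) :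
    Nonempty (Cfsg.Agent.H780.SpCoord ↥(T : Subgroup ↥(Matrix.symplecticGroup (Fin 2) K)) K) := by
  classical
  have hp : p.Prime := Fact.out
  obtain ⟨n, -, hn⟩ := FiniteField.card K p
  have hcard : Nat.card ↥(Matrix.symplecticGroup (Fin 2) K) =
      Fintype.card K ^ 4 * ((Fintype.card K ^ 2 - 1) * (Fintype.card K ^ 4 - 1)) := by
    rw [Cfsg.Agent.LieClassical.SympCount.card_symplecticGroup]
    simp [Finset.prod_range_succ]
  have hq : p ∣ Fintype.card K := by
    rw [hn]
    exact dvd_pow_self p n.ne_zero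
  have hsub : ∀ k : ℕ, k ≠ 0 → ¬ p ∣ Fintype.card K ^ k - 1 := by
    intro k hk h
    have h1 : p ∣ Fintype.card K ^ k := hq.trans (dvd_pow_self _ hk)
    have h2 : 1 ≤ Fintype.card K ^ k := Nat.one_le_pow _ _ Fintype.card_pos
    have h3 : p ∣ 1 := by
      have := (Nat.dvd_sub h1 h)
      rwa [Nat.sub_sub_self h2] at this
    exact hp.one_lt.ne' (Nat.dvd_one.mp h3)
  have hfac : (Nat.card ↥(Matrix.symplecticGroup (Fin 2) K)).factorization p =
      (Fintype.card K ^ 4).factorization p := by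
    have h0 : (Fintype.card K ^ 2 - 1) * (Fintype.card K ^ 4 - 1) ≠ 0 := by
      intro h
      rcases Nat.mul_eq_zero.mp h with h | h
      · exact hsub 2 (by norm_num) (by rw [h]; exact dvd_zero p)
      · exact hsub 4 (by norm_num) (by rw [h]; exact dvd_zero p)
    have h1 : ¬ p ∣ (Fintype.card K ^ 2 - 1) * (Fintype.card K ^ 4 - 1) := by
      rw [hp.dvd_mul]
      rintro (h | h)
      · exact hsub 2 (by norm_num) h
      · exact hsub 4 (by norm_num) h
    rw [hcard, Nat.factorization_mul (pow_ne_zero _ Fintype.card_ne_zero) h0, Finsupp.add_apply,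
      Nat.factorization_eq_zero_of_not_dvd h1, add_zero]
  have hU : Nat.card ↥(U K) =
      p ^ (Nat.card ↥(Matrix.symplecticGroup (Fin 2) K)).factorization p := by
    rw [hfac, card_U, hn, ← pow_mul, Nat.factorization_pow, Finsupp.smul_apply,
      hp.factorization_self]
    simp
  exact ⟨SpCoord.congr (Sylow.equiv T (Sylow.ofCard (U K) hU)) (coordU K)⟩

end Cfsg.Agent.H956.SpSylow
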