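import Mathlib

/-!
# Sum-zero families of `r` elements of `ℤ/r`, `r = 3, 5`, are symmetric under a reflection
-/

set_option autoImplicit false

namespace Cfsg.Agent.H956.SymMs

theorem of_injective {r : ℕ} [NeZero r] (a : Fin r → ZMod r) (h : Function.Injective a) :
    ∃ π : Equiv.Perm (Fin r), (∀ i, π (π i) = i) ∧ ∃ c, ∀ i, a i + a (π i) = c := by
  have hb : Function.Bijective a := by
    rw [Fintype.bijective_iff_injective_and_card]
    exact ⟨h, by rw [Fintype.card_fin, ZMod.card]⟩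
  let e := Equiv.ofBijective a hb
  have he : ∀ i, e i = a i := fun i => rfl
  have hes : ∀ x, a (e.symm x) = x := fun x => e.apply_symm_apply x
  refine ⟨(e.trans (Equiv.neg _)).trans e.symm, fun i => ?_, 0, fun i => ?_⟩
  · simp only [Equiv.trans_apply, Equiv.neg_apply, Equiv.apply_symm_apply, neg_neg, Equiv.symm_apply_apply]
  · simp only [Equiv.trans_apply, Equiv.neg_apply]
    rw [hes, he, add_neg_cancel]

theorem three_dec : ∀ x y z : ZMod 3, x + y + z = 0 → (x = y ∧ y = z) ∨ (x ≠ y ∧ y ≠ z ∧ x ≠ z) := by decide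

theorem three (a : Fin 3 → ZMod 3) (ha : ∑ i, a i = 0) :
    ∃ π : Equiv.Perm (Fin 3), (∀ i, π (π i) = i) ∧ ∃ c, ∀ i, a i + a (π i) = c := by
  rw [Fin.sum_univ_three] at ha
  rcases three_dec _ _ _ ha with ⟨h1, h2⟩ | ⟨h1, h2, h3⟩
  · refine ⟨1, fun i => rfl, a 0 + a 0, fun i => ?_⟩
    have : ∀ i, a i = a 0 := by
      intro i
      fin_cases i
      · rfl
      · exact h1.symm
      · exact (h1.trans h2).symm
    rw [Equiv.Perm.coe_one, id, this]
  · apply of_injective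
    intro i j hij
    fin_cases i <;> fin_cases j <;> first
      | rfl
      | exact absurd hij h1
      | exact absurd hij h2
      | exact absurd hij h3
      | exact absurd hij.symm h1
      | exact absurd hij.symm h2
      | exact absurd hij.symm h3

theorem five_dec : ∀ t x y z : ZMod 5, t + t + x + y + z = 0 →
    (x = t ∧ y + z = t + t) ∨ (y = t ∧ x + z = t + t) ∨ (z = t ∧ x + y = t + t) ∨
    (x = y ∧ z + z = t + x) ∨ (x = z ∧ y + y = t + x) ∨ (y = z ∧ x + x = t + y) := by decide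

theorem five_idx : ∀ i j : Fin 5, i ≠ j → ∃ k l m : Fin 5, i ≠ k ∧ i ≠ l ∧ i ≠ m ∧ j ≠ k ∧ j ≠ l ∧ j ≠ m ∧ k ≠ l ∧
    k ≠ m ∧ l ≠ m ∧ ∀ n, n = i ∨ n = j ∨ n = k ∨ n = l ∨ n = m := by decide

theorem sum_five {i j k l m : Fin 5} (hij : i ≠ j) (hik : i ≠ k) (hil : i ≠ l) (him : i ≠ m) (hjk : j ≠ k) (hjl : j ≠ l)
    (hjm : j ≠ m) (hkl : k ≠ l) (hkm : k ≠ m) (hlm : l ≠ m) (hall : ∀ n, n = i ∨ n = j ∨ n = k ∨ n = l ∨ n = m)
    (a : Fin 5 → ZMod 5) : ∑ n, a n = a i + a j + a k + a l + a m := by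
  have h : (Finset.univ : Finset (Fin 5)) = {i, j, k, l, m} := by
    ext n
    simp only [Finset.mem_univ, Finset.mem_insert, Finset.mem_singleton, true_iff]
    exact hall n
  rw [h, Finset.sum_insert (by simp [hij, hik, hil, him]), Finset.sum_insert (by simp [hjk, hjl, hjm]),
    Finset.sum_insert (by simp [hkl, hkm]), Finset.sum_insert (by simp [hlm]), Finset.sum_singleton]
  ring

/-- `(l m)` exchanges two elements with the same sum as the common value `t` of the other three, doubled. -/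
theorem caseSwap {i j k l m : Fin 5} (hil : i ≠ l) (him : i ≠ m) (hjl : j ≠ l)
    (hjm : j ≠ m) (hkl : k ≠ l) (hkm : k ≠ m) (hall : ∀ n, n = i ∨ n = j ∨ n = k ∨ n = l ∨ n = m)
    (a : Fin 5 → ZMod 5) (h1 : a i = a j) (h2 : a k = a j) (h3 : a l + a m = a j + a j) :
    ∃ π : Equiv.Perm (Fin 5), (∀ i, π (π i) = i) ∧ ∃ c, ∀ i, a i + a (π i) = c := by
  refine ⟨Equiv.swap l m, fun n => by simp, a j + a j, fun n => ?_⟩
  rcases hall n with rfl | rfl | rfl | rfl | rfl
  · rw [Equiv.swap_apply_of_ne_of_ne hil him, h1]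
  · rw [Equiv.swap_apply_of_ne_of_ne hjl hjm]
  · rw [Equiv.swap_apply_of_ne_of_ne hkl hkm, h2]
  · rw [Equiv.swap_apply_left, h3]
  · rw [Equiv.swap_apply_right, add_comm, h3]

/-- `(i k)(j l)`. -/
theorem caseSwap2 {i j k l m : Fin 5} (hij : i ≠ j) (hik : i ≠ k) (hil : i ≠ l) (him : i ≠ m) (hjk : j ≠ k)
    (hjl : j ≠ l) (hjm : j ≠ m) (hkl : k ≠ l) (hkm : k ≠ m) (hlm : l ≠ m)
    (hall : ∀ n, n = i ∨ n = j ∨ n = k ∨ n = l ∨ n = m)
    (a : Fin 5 → ZMod 5) (h1 : a i = a j) (h2 : a k = a l) (h3 : a m + a m = a i + a k) :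
    ∃ π : Equiv.Perm (Fin 5), (∀ i, π (π i) = i) ∧ ∃ c, ∀ i, a i + a (π i) = c := by
  have e1 : (Equiv.swap i k * Equiv.swap j l) i = k := by
    rw [Equiv.Perm.mul_apply, Equiv.swap_apply_of_ne_of_ne hij hil, Equiv.swap_apply_left]
  have e2 : (Equiv.swap i k * Equiv.swap j l) j = l := by
    rw [Equiv.Perm.mul_apply, Equiv.swap_apply_left, Equiv.swap_apply_of_ne_of_ne hil.symm hkl.symm]
  have e3 : (Equiv.swap i k * Equiv.swap j l) k = i := by
    rw [Equiv.Perm.mul_apply, Equiv.swap_apply_of_ne_of_ne hjk.symm hkl, Equiv.swap_apply_right]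
  have e4 : (Equiv.swap i k * Equiv.swap j l) l = j := by
    rw [Equiv.Perm.mul_apply, Equiv.swap_apply_right, Equiv.swap_apply_of_ne_of_ne hij.symm hjk]
  have e5 : (Equiv.swap i k * Equiv.swap j l) m = m := by
    rw [Equiv.Perm.mul_apply, Equiv.swap_apply_of_ne_of_ne hjm.symm hlm.symm,
      Equiv.swap_apply_of_ne_of_ne him.symm hkm.symm]
  refine ⟨Equiv.swap i k * Equiv.swap j l, fun n => ?_, a i + a k, fun n => ?_⟩
  · rcases hall n with rfl | rfl | rfl | rfl | rfl
    · rw [e1, e3]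
    · rw [e2, e4]
    · rw [e3, e1]
    · rw [e4, e2]
    · rw [e5, e5]
  · rcases hall n with rfl | rfl | rfl | rfl | rfl
    · rw [e1]
    · rw [e2, h1, h2]
    · rw [e3, add_comm]
    · rw [e4, h1, h2, add_comm]
    · rw [e5, h3]

theorem five (a : Fin 5 → ZMod 5) (ha : ∑ i, a i = 0) :
    ∃ π : Equiv.Perm (Fin 5), (∀ i, π (π i) = i) ∧ ∃ c, ∀ i, a i + a (π i) = c := by
  by_cases hinj : Function.Injective a
  · exact of_injective a hinj
  · rw [Function.Injective] at hinj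
    push Not at hinj
    obtain ⟨i, j, hij, hne⟩ := hinj
    obtain ⟨k, l, m, hik, hil, him, hjk, hjl, hjm, hkl, hkm, hlm, hall⟩ := five_idx i j hne
    rw [sum_five hne hik hil him hjk hjl hjm hkl hkm hlm hall, hij] at ha
    rcases five_dec _ _ _ _ ha with ⟨h1, h2⟩ | ⟨h1, h2⟩ | ⟨h1, h2⟩ | ⟨h1, h2⟩ | ⟨h1, h2⟩ | ⟨h1, h2⟩
    · exact caseSwap hil him hjl hjm hkl hkm hall a hij h1 h2
    · exact caseSwap (i := i) (j := j) (k := l) (l := k) (m := m) hik him hjk hjm hkl.symm hlm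
        (fun n => by rcases hall n with h | h | h | h | h <;> tauto) a hij h1 h2
    · exact caseSwap (i := i) (j := j) (k := m) (l := k) (m := l) hik hil hjk hjl hkm.symm hlm.symm
        (fun n => by rcases hall n with h | h | h | h | h <;> tauto) a hij h1 h2
    · exact caseSwap2 hne hik hil him hjk hjl hjm hkl hkm hlm hall a hij h1 (by rw [hij]; exact h2)
    · exact caseSwap2 (i := i) (j := j) (k := k) (l := m) (m := l) hne hik him hil hjk hjm hjl hkm hkl hlm.symm
        (fun n => by rcases hall n with h | h | h | h | h <;> tauto) a hij h1 (by rw [hij]; exact h2)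
    · exact caseSwap2 (i := i) (j := j) (k := l) (l := m) (m := k) hne hil him hik hjl hjm hjk hlm hkl.symm hkm.symm
        (fun n => by rcases hall n with h | h | h | h | h <;> tauto) a hij h1 (by rw [hij]; exact h2)

/-- **Sum-zero families in `ℤ/r`, `r ∈ {3, 5}`, of length `r`, are symmetric.** -/
theorem exists_involution {r : ℕ} (hr : r = 3 ∨ r = 5) (a : Fin r → ZMod r) (ha : ∑ i, a i = 0) :
    ∃ π : Equiv.Perm (Fin r), (∀ i, π (π i) = i) ∧ ∃ c, ∀ i, a i + a (π i) = c := by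
  rcases hr with rfl | rfl
  · exact three a ha
  · exact five a ha

end Cfsg.Agent.H956.SymMs
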