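import Mathlib
import Cfsg.Agent.H956.TensorElt

/-!
# Tensor decompositions: exchanging the factors, structure of elements of prime order
-/

set_option autoImplicit false

namespace Cfsg.Agent.H956.TensorElt2

open Matrix Polynomial
open scoped MatrixGroups Kronecker
open Cfsg.Agent.H956.EigMult Cfsg.Agent.H956.PrimeElt Cfsg.Agent.H956.TensorElt

section swap

variable {ι : Type} [Fintype ι] [DecidableEq ι] {F : Type*} [Field F]

theorem mem_swap {n₁ n₂ : ℕ} (e : ι ≃ Fin n₁ × Fin n₂) (P : GL ι F) (y : GL ι F)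
    (h : y ∈ Cfsg.Geo.tensorProductSubgroup n₁ n₂ e P) :
    y ∈ Cfsg.Geo.tensorProductSubgroup n₂ n₁ (e.trans (Equiv.prodComm _ _)) P := by
  rw [mem_tensor_iff] at h ⊢
  obtain ⟨a, b, hab⟩ := h
  refine ⟨b, a, ?_⟩
  rw [hab]
  congr 2
  ext i j
  simp only [Matrix.reindex_apply, Matrix.submatrix_apply, Matrix.kroneckerMap_apply, Equiv.symm_symm,
    Equiv.trans_apply, Equiv.prodComm_apply, Prod.fst_swap, Prod.snd_swap]
  exact mul_comm _ _

end swap

section tens

variable {ι : Type} [Fintype ι] [DecidableEq ι] {F : Type*} [Field F] [Fintype F]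
variable (E : Type*) [Field E] [Algebra F E] [IsAlgClosed E]

/-- **Elements of order `r` of a tensor product group**, `i = ord_r(q) ≥ 2`: all multiplicities are divisible by `n₁`, or
`i ≤ n₁` and the multiplicity of one is at most `n₁ n₂ - n₂ (i - 1)`. -/
theorem orbit_cases {q : ℕ} (hq : Fintype.card F = q) {n₁ n₂ : ℕ} (h₁ : 0 < n₁) (h₂ : 0 < n₂)
    (e : ι ≃ Fin n₁ × Fin n₂) (P g x : GL ι F) {r : ℕ} [Fact r.Prime] (hr : (r : F) ≠ 0)
    (h1 : orderOf (q : ZMod r) ≠ 1) (hx : (x : Matrix ι ι F) ^ r = (1 : Matrix ι ι F))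
    (hg : g⁻¹ * x * g ∈ Cfsg.Geo.tensorProductSubgroup n₁ n₂ e P) [DecidableEq E] :
    (∀ z, n₁ ∣ (eig E (x : Matrix ι ι F)).count z) ∨
    (orderOf (q : ZMod r) ≤ n₁ ∧
      (eig E (x : Matrix ι ι F)).count 1 + n₂ * (orderOf (q : ZMod r) - 1) ≤ n₁ * n₂) := by
  have hrp : r.Prime := Fact.out
  obtain ⟨α, β, a, b, hab, hs, hα, hβ, heig, hfα, hfβ⟩ := exists_eig_of_conj E hq h₁ h₂ e P g x hr (s := 1)
    (by rw [one_smul]; exact hx) hg
  rw [heig]
  have ha : a ≠ 0 := by rintro rfl; rw [zero_mul] at hab; exact hs hab.symm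
  have hb : b ≠ 0 := by rintro rfl; rw [mul_zero] at hab; exact hs hab.symm
  have hr0 : r ≠ 0 := hrp.ne_zero
  have hβ0 : ∀ l, β l ≠ 0 := by
    intro l hl
    have := hβ l
    rw [hl, zero_pow hr0] at this
    exact hb ((algebraMap F E).injective (by rw [← this, map_zero]))
  obtain ⟨t, ht, ht0⟩ := exists_root hq h1 a ha
  have htE : algebraMap F E t ≠ 0 := by
    intro h
    exact ht0 ((algebraMap F E).injective (by rw [h, map_zero]))
  by_cases hc : ∀ k, α k = algebraMap F E t
  · exact Or.inl (fun z => dvd_count_of_const α β _ hc z)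
  · right
    push Not at hc
    obtain ⟨k, hk⟩ := hc
    -- `ζ = α k / t` is a primitive `r`-th root of unity
    let ζ : E := α k / algebraMap F E t
    have hζ1 : ζ ≠ 1 := by
      intro h
      exact hk ((div_eq_one_iff_eq htE).1 h)
    have hζr : ζ ^ r = 1 := by
      rw [div_pow, hα, ← map_pow, ht, div_self]
      intro h
      exact ha ((algebraMap F E).injective (by rw [h, map_zero]))
    have hζ : IsPrimitiveRoot ζ r := by
      have h2 : orderOf ζ = r := orderOf_eq_prime hζr hζ1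
      rw [← h2]
      exact IsPrimitiveRoot.orderOf ζ
    have htq : (algebraMap F E t) ^ q = algebraMap F E t := by
      rw [← map_pow, ← hq, FiniteField.pow_card]
    -- all `t ζ ^ (q ^ j)` are values of `α`
    have hval : ∀ j : ℕ, ∃ k', α k' = algebraMap F E t * ζ ^ (q ^ j) := by
      intro j
      induction j with
      | zero => exact ⟨k, by rw [pow_zero, pow_one, mul_div_cancel₀ _ htE]⟩
      | succ j ih =>
        obtain ⟨k', hk'⟩ := ih
        have hmem : (α k') ^ q ∈ Finset.univ.val.map α := by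
          rw [← hfα]
          exact Multiset.mem_map_of_mem _ (Multiset.mem_map_of_mem _ (Finset.mem_univ_val k'))
        obtain ⟨k'', -, hk''⟩ := Multiset.mem_map.1 hmem
        refine ⟨k'', ?_⟩
        rw [hk'', hk', mul_pow, htq, pow_succ, pow_mul]
    let S : Finset E := (Finset.range (orderOf (q : ZMod r))).image (fun j => algebraMap F E t * ζ ^ (q ^ j))
    have hS : S.card = orderOf (q : ZMod r) := by
      rw [Finset.card_image_of_injOn, Finset.card_range]
      intro j hj l hl hjl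
      simp only [Finset.coe_range, Set.mem_Iio] at hj hl
      exact pow_inj_of_prim hζ hj hl (mul_left_cancel₀ htE hjl)
    have hmem : ∀ y ∈ S, ∃ k', α k' = y := by
      intro y hy
      obtain ⟨j, -, rfl⟩ := Finset.mem_image.1 hy
      exact hval j
    have := count_add_le α β hβ0 S hmem 1
    rw [hS] at this
    refine ⟨?_, this⟩
    rw [← hS]
    calc S.card ≤ (Finset.univ.image α).card := Finset.card_le_card (fun y hy => by
          obtain ⟨k', hk'⟩ := hmem y hy
          exact Finset.mem_image.2 ⟨k', Finset.mem_univ _, hk'⟩)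
      _ ≤ (Finset.univ : Finset (Fin n₁)).card := Finset.card_image_le
      _ = n₁ := by simp

/-- both factors: an eigenvalue of multiplicity prime to both, and a large multiplicity of one give a contradiction. -/
theorem false_of_conj_two {q : ℕ} (hq : Fintype.card F = q) {n₁ n₂ : ℕ} (h₁ : 0 < n₁) (h₂ : 0 < n₂)
    (e : ι ≃ Fin n₁ × Fin n₂) (P g x : GL ι F) {r : ℕ} [Fact r.Prime] (hr : (r : F) ≠ 0)
    (h1 : orderOf (q : ZMod r) ≠ 1) (hx : (x : Matrix ι ι F) ^ r = (1 : Matrix ι ι F))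
    (hg : g⁻¹ * x * g ∈ Cfsg.Geo.tensorProductSubgroup n₁ n₂ e P) [DecidableEq E] (z : E)
    (hz₁ : ¬ n₁ ∣ (eig E (x : Matrix ι ι F)).count z) (hz₂ : ¬ n₂ ∣ (eig E (x : Matrix ι ι F)).count z)
    (hw : n₁ < orderOf (q : ZMod r) ∨ n₂ < orderOf (q : ZMod r) ∨
      n₁ * n₂ < (eig E (x : Matrix ι ι F)).count 1 + n₂ * (orderOf (q : ZMod r) - 1) ∨
      n₁ * n₂ < (eig E (x : Matrix ι ι F)).count 1 + n₁ * (orderOf (q : ZMod r) - 1)) : False := by
  rcases orbit_cases E hq h₁ h₂ e P g x hr h1 hx hg with h | ⟨h, h'⟩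
  · exact hz₁ (h z)
  rcases orbit_cases E hq h₂ h₁ _ P g x hr h1 hx (mem_swap e P _ hg) with k | ⟨k, k'⟩
  · exact hz₂ (k z)
  rw [mul_comm n₂ n₁] at k'
  omega

end tens

end Cfsg.Agent.H956.TensorElt2
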