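import Mathlib
import Cfsg.Agent.SylowL.SqZero
import Cfsg.Agent.H956.Conj

/-!
# Square-zero matrices: explicit representatives and the centraliser of `s(1 + N)`
-/

set_option autoImplicit false

namespace Cfsg.Agent.H956.Unip2

open Matrix Polynomial
open scoped MatrixGroups
open Cfsg.Agent.H956.Conj

variable {n : ℕ}

/-- the involution `j ↔ j + k` (`j < k`) of `Fin n`. -/
def swapFn (k : ℕ) (hk : 2 * k ≤ n) (j : Fin n) : Fin n :=
  if h : (j : ℕ) < k then ⟨j + k, by omega⟩
  else if h' : (j : ℕ) < 2 * k then ⟨j - k, by omega⟩ else j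

theorem swapFn_swapFn (k : ℕ) (hk : 2 * k ≤ n) (j : Fin n) : swapFn k hk (swapFn k hk j) = j := by
  apply Fin.ext
  have key : ∀ i : Fin n, ((swapFn k hk i : Fin n) : ℕ) =
      if (i : ℕ) < k then i + k else if (i : ℕ) < 2 * k then i - k else i := by
    intro i
    unfold swapFn
    split_ifs <;> rfl
  rw [key, key]
  split_ifs <;> omega

def swap (k : ℕ) (hk : 2 * k ≤ n) : Equiv.Perm (Fin n) :=
  ⟨swapFn k hk, swapFn k hk, swapFn_swapFn k hk, swapFn_swapFn k hk⟩

theorem swap_swap (k : ℕ) (hk : 2 * k ≤ n) (j : Fin n) : swap k hk (swap k hk j) = j := swapFn_swapFn k hk j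

variable {F : Type*} [Field F]

def chi (k : ℕ) (j : Fin n) : F := if (j : ℕ) < k then 1 else 0

theorem chi_mul_chi (k : ℕ) (hk : 2 * k ≤ n) (j : Fin n) : (chi k j : F) * chi k (swap k hk j) = 0 := by
  have h : swap k hk j = swapFn k hk j := rfl
  rw [h]
  unfold chi swapFn
  split_ifs <;> simp_all

/-- the representative of the square-zero matrices of rank `k`. -/
def NN (F : Type*) [Field F] (k : ℕ) (hk : 2 * k ≤ n) : Matrix (Fin n) (Fin n) F :=
  fun i j => if j = swap k hk i then chi k i else 0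

theorem NN_mulVec (k : ℕ) (hk : 2 * k ≤ n) (v : Fin n → F) (i : Fin n) :
    (NN F k hk *ᵥ v) i = chi k i * v (swap k hk i) := by
  simp [NN, Matrix.mulVec, dotProduct]

theorem NN_sq (k : ℕ) (hk : 2 * k ≤ n) : NN F k hk * NN F k hk = 0 := by
  ext i j
  simp only [NN, Matrix.mul_apply, ite_mul, zero_mul, Finset.sum_ite_eq', Finset.mem_univ, if_true, Matrix.zero_apply]
  split_ifs
  · exact chi_mul_chi k hk i
  · exact mul_zero _

theorem rank_NN [DecidableEq F] (k : ℕ) (hk : 2 * k ≤ n) : (NN F k hk).rank = k := by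
  have h1 : NN F k hk = Matrix.diagonal (chi k) * ((swap k hk).permMatrix F) := by
    ext i j
    rw [Matrix.diagonal_mul]
    simp only [NN, Equiv.Perm.permMatrix, PEquiv.toMatrix_apply, Equiv.toPEquiv_apply, Option.mem_def, Option.some.injEq]
    by_cases h : swap k hk i = j
    · rw [if_pos h, if_pos h.symm, mul_one]
    · rw [if_neg h, if_neg (fun h' => h h'.symm), mul_zero]
  rw [h1, Matrix.rank_mul_eq_left_of_isUnit_det, Matrix.rank_diagonal]
  · have h2 : Fintype.card { i : Fin n // (chi k i : F) ≠ 0 } = Fintype.card (Fin k) := by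
      apply Fintype.card_congr
      refine ⟨fun i => ⟨i.1, ?_⟩, fun i => ⟨⟨i, by omega⟩, ?_⟩, fun i => ?_, fun i => ?_⟩
      · have := i.2
        by_contra h
        exact this (if_neg h)
      · have : (chi k (⟨i, by omega⟩ : Fin n) : F) = 1 := if_pos i.2
        rw [this]
        exact one_ne_zero
      · rfl
      · rfl
    rw [h2, Fintype.card_fin]
  · rw [Matrix.det_permutation]
    rcases Int.units_eq_one_or (Equiv.Perm.sign (swap k hk)) with h | h <;> simp [h]

/-- the representative of the involutions (characteristic two), `s (1 + N)`. -/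
theorem exists_conj_rep (x : GL (Fin n) F) {s : F}
    (N : Matrix (Fin n) (Fin n) F) (hN : N * N = 0) (hx : (x : Matrix (Fin n) (Fin n) F) = s • (1 + N)) :
    ∃ (k : ℕ) (hk : 2 * k ≤ n) (g x' : GL (Fin n) F), N.rank = k ∧
      (x' : Matrix (Fin n) (Fin n) F) = s • (1 + NN F k hk) ∧ g⁻¹ * x * g = x' := by
  classical
  have hk : 2 * N.rank ≤ n := by
    have := Matrix.rank_add_rank_le_card_of_mul_eq_zero hN
    rw [Fintype.card_fin] at this
    omega
  obtain ⟨g, hg, hgN⟩ := Cfsg.Agent.SylowL.SqZero.exists_conj_matrix N (NN F N.rank hk) hN (NN_sq _ _)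
    (rank_NN _ _).symm
  let G : GL (Fin n) F := Matrix.GeneralLinearGroup.mkOfDetNeZero g hg.ne_zero
  have hGg : (G : Matrix (Fin n) (Fin n) F) = g := rfl
  refine ⟨N.rank, hk, G⁻¹, G * x * G⁻¹, rfl, ?_, by rw [inv_inv]⟩
  rw [Units.val_mul, Units.val_mul, hx, hGg, Matrix.mul_smul, Matrix.mul_add, Matrix.mul_one, hgN, Matrix.smul_mul,
    Matrix.add_mul, Matrix.mul_assoc, ← hGg, mul_inv_self', Matrix.mul_one]

/-- centralising elements of determinant `u ^ 2`. -/
theorem exists_commute (k : ℕ) (hk : 2 * k ≤ n) (hk0 : 0 < k) {s : F} (x' : GL (Fin n) F)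
    (hx' : (x' : Matrix (Fin n) (Fin n) F) = s • (1 + NN F k hk)) {u : F} (hu : u ≠ 0) :
    ∃ h : GL (Fin n) F, h * x' = x' * h ∧ (h : Matrix (Fin n) (Fin n) F).det = u ^ 2 := by
  classical
  let i0 : Fin n := ⟨0, by omega⟩
  let i1 : Fin n := ⟨k, by omega⟩
  have h01 : i0 ≠ i1 := by
    intro h
    have := congrArg Fin.val h
    simp [i0, i1] at this
    omega
  have hs0 : swap k hk i0 = i1 := by
    apply Fin.ext
    change ((swapFn k hk i0 : Fin n) : ℕ) = k
    unfold swapFn
    simp [i0, hk0]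
  have hs1 : swap k hk i1 = i0 := by rw [← hs0, swap_swap]
  let δ : Fin n → F := fun i => if i = i0 ∨ i = i1 then u else 1
  have hδ : ∀ i, δ (swap k hk i) = δ i := by
    intro i
    by_cases h0 : i = i0
    · subst h0
      rw [hs0]; simp [δ]
    by_cases h1 : i = i1
    · subst h1
      rw [hs1]; simp [δ]
    · have h2 : swap k hk i ≠ i0 := by
        intro h
        apply h1
        rw [← swap_swap k hk i, h, hs0]
      have h3 : swap k hk i ≠ i1 := by
        intro h
        apply h0
        rw [← swap_swap k hk i, h, hs1]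
      simp [δ, h0, h1, h2, h3]
  have hδ0 : ∀ i, δ i ≠ 0 := by
    intro i
    simp only [δ]
    split_ifs
    · exact hu
    · exact one_ne_zero
  refine ⟨diagU δ hδ0, ?_, ?_⟩
  · ext1
    rw [Units.val_mul, Units.val_mul, hx', coe_diagU, Matrix.mul_smul, Matrix.smul_mul, Matrix.mul_add, Matrix.add_mul,
      Matrix.mul_one, Matrix.one_mul]
    congr 2
    ext i j
    rw [Matrix.diagonal_mul, Matrix.mul_diagonal]
    simp only [NN]
    by_cases h : j = swap k hk i
    · subst h
      rw [if_pos rfl, hδ, mul_comm]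
    · rw [if_neg h, mul_zero, zero_mul]
  · rw [coe_diagU, Matrix.det_diagonal, ← Finset.prod_subset (Finset.subset_univ {i0, i1}), Finset.prod_pair h01]
    · simp [δ, pow_two]
    · intro i _ hi
      simp only [Finset.mem_insert, Finset.mem_singleton] at hi
      simp [δ, hi]

end Cfsg.Agent.H956.Unip2
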