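import Mathlib
import Cfsg.Agent.H956.UnitSim
import Cfsg.Agent.H956.Unip2

/-!
# Unipotent and diagonal similarities of unitary forms
-/

set_option autoImplicit false

namespace Cfsg.Agent.H956.UnitSim2

open Matrix Polynomial
open scoped MatrixGroups
open Cfsg.Agent.LieClassical.HermBasic Cfsg.Agent.H956.Conj Cfsg.Agent.H956.UnitSim Cfsg.Agent.H956.Unip2

variable {F : Type*} [Field F] [Fintype F] {q₀ n : ℕ} {f : (Fin n → F) → (Fin n → F) → F}

/-- the form `∑ u_k v_{π k}^{q₀}`. -/
def permForm (q₀ : ℕ) (π : Equiv.Perm (Fin n)) (u v : Fin n → F) : F := ∑ k, u k * v (π k) ^ q₀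

theorem isUnitary_permForm (hF : Fintype.card F = q₀ ^ 2) (π : Equiv.Perm (Fin n)) (hπ : ∀ i, π (π i) = i) :
    Cfsg.Geo.IsUnitaryFormPow q₀ (permForm (F := F) q₀ π) := by
  have h0 : q₀ ≠ 0 := (q_pos hF).ne'
  refine ⟨fun x y v => ?_, fun c x v => ?_, fun v w => ?_, fun v hv => ?_⟩
  · simp only [permForm, Pi.add_apply, add_mul, Finset.sum_add_distrib]
  · simp only [permForm, Pi.smul_apply, smul_eq_mul, mul_assoc, Finset.mul_sum]
  · simp only [permForm]
    rw [sum_pow_q hF, ← Equiv.sum_comp π]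
    refine Finset.sum_congr rfl fun k _ => ?_
    rw [mul_pow, pow_q_pow_q hF, hπ, mul_comm]
  · obtain ⟨k, hk⟩ : ∃ k, v k ≠ 0 := by
      by_contra hcon
      push Not at hcon
      exact hv (funext hcon)
    constructor
    · refine ⟨Pi.single (π k) 1, ?_⟩
      simp only [permForm]
      rw [Finset.sum_eq_single (π k)]
      · rw [Pi.single_eq_same, one_mul, hπ]
        exact pow_ne_zero _ hk
      · intro b _ hb
        rw [Pi.single_eq_of_ne hb, zero_mul]
      · simp
    · refine ⟨Pi.single (π k) 1, ?_⟩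
      simp only [permForm]
      rw [Finset.sum_eq_single k]
      · rw [Pi.single_eq_same, one_pow, mul_one]
        exact hk
      · intro b _ hb
        rw [Pi.single_eq_of_ne (fun h' => hb (π.injective h')), zero_pow h0, mul_zero]
      · simp

/-- the form version of `diag_sim`: conjugation by a matrix of determinant one. -/
theorem diag_sim_sl (hF : Fintype.card F = q₀ ^ 2) (hf : Cfsg.Geo.IsUnitaryFormPow q₀ f) [Nonempty (Fin n)]
    (x S : GL (Fin n) F) (d : Fin n → F)
    (hx : (x : Matrix (Fin n) (Fin n) F) = (S : Matrix (Fin n) (Fin n) F) * Matrix.diagonal d *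
      ((S⁻¹ : GL (Fin n) F) : Matrix (Fin n) (Fin n) F))
    (hd : ∀ i, d i ≠ 0)
    (π : Equiv.Perm (Fin n)) (hπ : ∀ i, π (π i) = i) (c : F) (hc : c ≠ 0) (h : ∀ k, d k * d (π k) ^ q₀ = c) :
    ∃ g : GL (Fin n) F, (g : Matrix (Fin n) (Fin n) F).det = 1 ∧ g⁻¹ * x * g ∈ Cfsg.Geo.similarityGroup f := by
  obtain ⟨g, hg⟩ := diag_sim hF hf π hπ d hd c hc h
  obtain ⟨g', hg', hg''⟩ := conj_of_diag x (g⁻¹ * diagU d hd * g) S g⁻¹ d d hx (by
    rw [Units.val_mul, Units.val_mul, coe_diagU, inv_inv]) rfl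
  exact ⟨g', hg', by rw [hg'']; exact hg⟩

/-- **characteristic two: every matrix `s (1 + N)`, `N² = 0`, of determinant one is conjugate to a similarity.** -/
theorem unip_sim_sl (hF : Fintype.card F = q₀ ^ 2) (hf : Cfsg.Geo.IsUnitaryFormPow q₀ f) [CharP F 2]
    (x : GL (Fin n) F) {s : F} (hs : s ≠ 0)
    (N : Matrix (Fin n) (Fin n) F) (hN : N * N = 0) (hN0 : N ≠ 0)
    (hx : (x : Matrix (Fin n) (Fin n) F) = s • (1 + N)) :
    ∃ g : GL (Fin n) F, (g : Matrix (Fin n) (Fin n) F).det = 1 ∧ g⁻¹ * x * g ∈ Cfsg.Geo.similarityGroup f := by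
  obtain ⟨k, hk, g, x', hrk, hx', hg⟩ := exists_conj_rep x N hN hx
  have hk0 : 0 < k := by
    rcases Nat.eq_zero_or_pos k with h | h
    · exfalso
      apply hN0
      rw [h] at hrk
      rw [Matrix.rank, Submodule.finrank_eq_zero, LinearMap.range_eq_bot] at hrk
      ext i j
      have h5 := congrFun (LinearMap.congr_fun hrk (Pi.single j 1)) i
      simpa using h5
    · exact h
  have hsim : x' ∈ Cfsg.Geo.similarityGroup (permForm (F := F) q₀ (swap k hk)) := by
    refine ⟨Units.mk0 (s * s ^ q₀) (mul_ne_zero hs (pow_ne_zero _ hs)), fun u v => ?_⟩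
    have hmv : ∀ w : Fin n → F, ∀ i, ((x' : Matrix (Fin n) (Fin n) F) *ᵥ w) i =
        s * (w i + chi k i * w (swap k hk i)) := by
      intro w i
      rw [hx', Matrix.smul_mulVec, Matrix.add_mulVec, Matrix.one_mulVec, Pi.smul_apply, Pi.add_apply, NN_mulVec,
        smul_eq_mul]
    simp only [permForm, hmv, swap_swap, Units.val_mk0]
    have e1 : ∀ i, s * (u i + chi k i * u (swap k hk i)) *
        (s * (v (swap k hk i) + chi k (swap k hk i) * v i)) ^ q₀ =
        s * s ^ q₀ * (u i * v (swap k hk i) ^ q₀ + chi k i * (u (swap k hk i) * v (swap k hk i) ^ q₀) +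
          chi k (swap k hk i) * (u i * v i ^ q₀)) := by
      intro i
      have hχ : ∀ j : Fin n, (chi k j : F) ^ q₀ = chi k j := by
        intro j
        unfold chi
        split_ifs
        · exact one_pow _
        · exact zero_pow (q_pos hF).ne'
      rw [mul_pow, add_pow_q hF, mul_pow, hχ]
      have h3 := chi_mul_chi (F := F) k hk i
      linear_combination (s * s ^ q₀ * u (swap k hk i) * v i ^ q₀) * h3
    rw [Finset.sum_congr rfl fun i _ => e1 i, ← Finset.mul_sum]
    congr 1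
    rw [Finset.sum_add_distrib, Finset.sum_add_distrib]
    have e2 : ∑ i, chi k (swap k hk i) * (u i * v i ^ q₀) =
        ∑ i, (chi k i : F) * (u (swap k hk i) * v (swap k hk i) ^ q₀) := by
      rw [← Equiv.sum_comp (swap k hk)]
      refine Finset.sum_congr rfl fun i _ => ?_
      rw [swap_swap]
    rw [e2, add_assoc, CharTwo.add_self_eq_zero, add_zero]
  obtain ⟨g1, hg1⟩ := sim_conj hF hf (isUnitary_permForm (F := F) hF (swap k hk) (swap_swap k hk))
  have hg2 := hg1 x' hsim
  obtain ⟨g', hg', hg''⟩ := adjust x (g1⁻¹ * x' * g1) (g * g1) (by rw [← hg]; group) (by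
    intro t ht
    -- every element is a square
    obtain ⟨u, hu⟩ : ∃ u : F, u ^ 2 = t := by
      have hb := (frobeniusEquiv F 2).surjective t
      obtain ⟨u, hu⟩ := hb
      exact ⟨u, hu⟩
    have hu0 : u ≠ 0 := by
      rintro rfl
      exact ht (by rw [← hu]; simp)
    obtain ⟨h, hh, hdet⟩ := exists_commute k hk hk0 x' hx' hu0
    refine ⟨g * h * g⁻¹, ?_, ?_⟩
    · have hxx : x = g * x' * g⁻¹ := by rw [← hg]; group
      rw [hxx]
      calc g * h * g⁻¹ * (g * x' * g⁻¹) = g * (h * x') * g⁻¹ := by group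
        _ = _ := by rw [hh]; group
    · rw [Units.val_mul, Units.val_mul, Matrix.det_mul, Matrix.det_mul, mul_right_comm, ← Matrix.det_mul,
        mul_inv_self', Matrix.det_one, one_mul, hdet, hu])
  exact ⟨g', hg', by rw [hg'']; exact hg2⟩

end Cfsg.Agent.H956.UnitSim2
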